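import Cfsg.Agent.PG.Ctx

/-!
Definitions for Bender-Glauberman sections 10 and 11.
`alphaCore M`, `sigmaCore M` (Prelude) are by definition `piCoreOf (alpha M) M`, `piCoreOf (sigma M) M`.
`p ∈ β(G)` is `IsIdealPrime p G`, and `beta M = {p | p ∈ alpha M ∧ IsIdealPrime p G}` (Prelude).
-/

set_option autoImplicit false
set_option linter.unusedSectionVars false

open Pointwise Cfsg Cfsg.Lib.Solv

namespace Cfsg.Lib.FT.PG

variable {G : Type*} [Group G] [Dl G]

theorem sigmaCore_def (M : Subgroup G) : sigmaCore M = piCoreOf (sigma M) M := rfl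

/-- Hypothesis 11.1 of Bender-Glauberman (exceptional maximal subgroups), with the subgroup `A`
of rank two made explicit. -/
structure ExceptionalFTMaximal (p : ℕ) (M A₀ A : Subgroup G) : Prop where
  prime : p.Prime
  maxM : Mx M
  sigma' : p ∉ sigma M
  norm_le : 𝐍 A₀ ≤ M
  elem1 : A₀ ∈ Elem p 1 A
  elem2 : A ∈ Elem p 2 M

end Cfsg.Lib.FT.PG
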