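import Cfsg.Agent.PG.BG10.T13
import Cfsg.Agent.PG.BG10.T10

/-!
Bender-Glauberman, section 11.  Names follow MathComp `BGsection11`.
-/

set_option autoImplicit false
set_option linter.unusedSectionVars false
set_option linter.unusedVariables false

open Pointwise Cfsg Cfsg.Lib.Solv Subgroup

namespace Cfsg.Lib.FT.PG

variable {G : Type*} [Group G] [Dl G] [Finite G] {p : ℕ} {M A₀ A P : Subgroup G}

namespace ExceptionalFTMaximal

variable (exc : ExceptionalFTMaximal p M A₀ A)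
include exc

theorem A_le : A ≤ M := exc.elem2.1
theorem A₀_le : A₀ ≤ A := exc.elem1.1
theorem A_pgroup : IsPGroup p A := pnElem_pgroup exc.elem2
theorem A_sigma' : IsPiSubgroup (sigma M)ᶜ A :=
  X10.pi_of_pgroup exc.prime exc.sigma' exc.A_pgroup
theorem A_ne_bot : A ≠ ⊥ := by
  have := Fact.mk exc.prime
  exact nt_pnElem exc.elem2 two_pos
theorem A_norm_Msigma : A ≤ 𝐍 (sigmaCore M) := exc.A_le.trans (Msigma_normal M).2
theorem cent_le : 𝐂 A ≤ M := (centS exc.A₀_le).trans ((cent_sub _).trans exc.norm_le)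

theorem exists_Sylow : ∃ P, IsSylowOf p P M ∧ A ≤ P :=
  X10.syl_superset exc.prime exc.A_pgroup exc.A_le

theorem dlp (hG : Ctx G) : p ∈ dl G := dl_of_elem hG exc.prime (n := 0) exc.elem2 exc.maxM.1

theorem exists_norm_not_mem (hP : IsSylowOf p P M) (hG : Ctx G := by assumption) :
    ∃ g ∈ 𝐍 P, g ∉ M :=
  SetLike.not_le_iff_exists.1 fun h =>
    sigma'_Sylow_contra exc.maxM.1 exc.prime exc.sigma' hP h (exc.dlp hG)

end ExceptionalFTMaximal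

theorem exceptional_pmaxElem (hG : Ctx G) (exc : ExceptionalFTMaximal p M A₀ A) :
    A ∈ MaxElem p ⊤ := sigma'_rank2_max hG exc.maxM exc.prime exc.sigma' exc.elem2

theorem exceptional_TIsigmaJ_aux (hG : Ctx G) (exc : ExceptionalFTMaximal p M A₀ A)
    {g : G} {q : ℕ} {Q₁ Q₂ : Subgroup G} (hq : q.Prime) (hg : g ∉ M)
    (hQ₁ : IsSylowOf q Q₁ (sigmaCore M)) (hA₁ : A ≤ 𝐍 Q₁)
    (hQ₂ : IsSylowOf q Q₂ (g •ᶜ sigmaCore M)) (hA₂ : A ≤ 𝐍 Q₂) {H : Subgroup G} (hAH : A ≤ H)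
    (hH : Loc H) : Q₁ ⊓ H = ⊥ ∨ Q₂ ⊓ H = ⊥ := by
  have := Fact.mk hq
  have := Fact.mk exc.prime
  by_contra h
  push Not at h
  have hqσ : q ∈ sigma M := mem_of_pgroup_of_ne_bot (Sylow_pgroup hQ₁)
    (subG1_contra inf_le_left h.1) (pgroupS hQ₁.1 (Msigma_pgroup M))
  have hall := Msigma_Hall hG exc.maxM
  have hX : IsSylowOf q (g⁻¹ •ᶜ Q₂) M := subHall_Sylow hall hqσ (by
    have := (pHallJ2 g⁻¹).2 hQ₂
    rwa [conj_inv_smul_conj_smul] at this)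
  have h1 : IsSylowOf q Q₁ ⊤ := sigma_Sylow_G hqσ (subHall_Sylow hall hqσ hQ₁)
  have h2 : IsSylowOf q Q₂ ⊤ := by
    have := (pHallJ (mem_top g)).2 (sigma_Sylow_G hqσ hX)
    rwa [conj_smul_conj_inv_smul] at this
  have hmax : ∀ Q, IsSylowOf q Q ⊤ → A ≤ 𝐍 Q → Q ∈ maxInvSubgroups ⊤ A {q} := fun Q hQ hA =>
    mem_maxInvSubgroups_top.2 ⟨hQ.2.1, hA, fun R hR _ hQR => sub_pHall hQ hR hQR le_top⟩
  have hqA : ¬ q ∣ Nat.card A := fun hd =>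
    exc.sigma' (eq_of_pgroup_of_dvd exc.A_pgroup hq hd ▸ hqσ)
  obtain ⟨k, hk, hkQ⟩ := normed_constrained_meet_trans hG
    (plength_1_normed_constrained hG exc.prime exc.A_ne_bot (exceptional_pmaxElem hG exc)
      (fun X hX => mFT_proper_plength1 hG exc.prime hX) (pnElem_not_cyclic exc.elem2 le_rfl)
      (exc.dlp hG)) hq hqA hAH hH (hmax _ h1 hA₁) (hmax _ h2 hA₂)
    h.1 h.2
  refine hg (sigma_Sylow_trans hqσ hX ?_)
  rw [conj_smul_conj_inv_smul, hkQ]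
  exact conj_subG (exc.cent_le (pcore_sub _ _ hk)) (hQ₁.1.trans hall.1)

/-- BG 11.1. -/
theorem exceptional_TIsigmaJ (hG : Ctx G) (exc : ExceptionalFTMaximal p M A₀ A)
    {g : G} {q : ℕ} {Q₁ Q₂ : Subgroup G} (hq : q.Prime) (hg : g ∉ M) (hAg : A ≤ g •ᶜ M)
    (hQ₁ : IsSylowOf q Q₁ (sigmaCore M)) (hA₁ : A ≤ 𝐍 Q₁)
    (hQ₂ : IsSylowOf q Q₂ (g •ᶜ sigmaCore M)) (hA₂ : A ≤ 𝐍 Q₂) :
    Q₁ ⊓ Q₂ = ⊥ ∧ ∀ X ∈ Elem p 1 A, Q₁ ⊓ 𝐂 X = ⊥ ∨ Q₂ ⊓ 𝐂 X = ⊥ := by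
  have := Fact.mk hq
  have := Fact.mk exc.prime
  refine ⟨?_, fun X hX => exceptional_TIsigmaJ_aux hG exc hq hg hQ₁ hA₁ hQ₂ hA₂
    (centsC.1 (hX.1.trans (abelian_le_cent (pnElem_abelian exc.elem2))))
    (mFT_cent_proper hG (nt_pnElem hX one_pos) (dg_of_elem hX exc.prime (exc.dlp hG)))⟩
  by_contra h
  rcases exceptional_TIsigmaJ_aux hG exc hq hg hQ₁ hA₁ hQ₂ hA₂ (normsI hA₁ hA₂)
    (loc_norm h ((Msigma_dg M).mono (inf_le_left.trans hQ₁.1))) with h' | h'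
  · exact h (le_bot_iff.1 (h'.le.trans' (le_inf inf_le_left (normG _))))
  · exact h (le_bot_iff.1 (h'.le.trans' (le_inf inf_le_right (normG _))))

/-- BG 11.2. -/
theorem exceptional_TI_MsigmaJ (hG : Ctx G) (exc : ExceptionalFTMaximal p M A₀ A)
    {g : G} (hg : g ∉ M) (hAg : A ≤ g •ᶜ M) :
    sigmaCore M ⊓ g •ᶜ M = ⊥ ∧ sigmaCore M ⊓ 𝐂 (g •ᶜ A₀) = ⊥ := by
  suffices h : sigmaCore M ⊓ g •ᶜ M = ⊥ by
    refine ⟨h, le_bot_iff.1 (h.le.trans' (inf_le_inf le_rfl ?_))⟩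
    rw [centJ, conjSg]
    exact (cent_sub _).trans exc.norm_le
  by_contra h
  obtain ⟨q, hq, hqd⟩ := exists_prime_dvd_card h
  have := Fact.mk hq
  have hσ := Msigma_pgroup M
  have hs := sub_mmax_sol hG exc.maxM (Msigma_normal M).1
  have hMg : Mx (g •ᶜ M) := (mmaxJ g).2 exc.maxM
  obtain ⟨Q₀, hQ₀, hA₀, -⟩ := bg7_Hall_subset (π := {q}) (normsI exc.A_norm_Msigma (normsG hAg))
    (pnat_coprime (pgroupS inf_le_left hσ) exc.A_sigma') (solvableS inf_le_left hs) bot_le pgroup1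
    (norms1 A)
  obtain ⟨Q₁, hQ₁, hA₁, h01⟩ := bg7_Hall_subset (π := {q}) exc.A_norm_Msigma
    (pnat_coprime hσ exc.A_sigma') hs (hQ₀.1.trans inf_le_left) hQ₀.2.1 hA₀
  have hσg : IsPiSubgroup (sigma M) (g •ᶜ sigmaCore M) := (pgroupJ g).2 hσ
  obtain ⟨Q₂, hQ₂, hA₂, h02⟩ := bg7_Hall_subset (π := {q}) (H := g •ᶜ sigmaCore M)
    (MsigmaJ g M ▸ hAg.trans (Msigma_normal _).2) (pnat_coprime hσg exc.A_sigma')
    (sub_mmax_sol hG hMg ((conjSg g).2 (Msigma_normal M).1))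
    (MsigmaJ g M ▸ sub_Msigma hG hMg (hQ₀.1.trans inf_le_right)
      (sigmaJ g M ▸ pgroupS (hQ₀.1.trans inf_le_left) hσ)) hQ₀.2.1 hA₀
  exact Sylow_ne_bot hQ₀ hqd (le_bot_iff.1
    ((exceptional_TIsigmaJ hG exc hq hg hAg hQ₁ hA₁ hQ₂ hA₂).1.le.trans' (le_inf h01 h02)))

/-- BG 11.3. -/
theorem exceptional_sigma_nil (hG : Ctx G) (exc : ExceptionalFTMaximal p M A₀ A) :
    Group.IsNilpotent (sigmaCore M) := by
  have := Fact.mk exc.prime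
  obtain ⟨P, hP, hAP⟩ := exc.exists_Sylow
  obtain ⟨g, hgP, hg⟩ := exc.exists_norm_not_mem hP
  have h1 : g •ᶜ A₀ ≤ M := (conj_sub_norm hgP (exc.A₀_le.trans hAP)).trans hP.1
  have h2 : A ≤ g •ᶜ M := hAP.trans ((normP.1 hgP).ge.trans ((conjSg g).2 hP.1))
  refine prime_Frobenius_sol_kernel_nil (h1.trans (Msigma_normal M).2)
    (sub_mmax_sol hG exc.maxM (Msigma_normal M).1) ?_ (exceptional_TI_MsigmaJ hG exc hg h2).2
  rw [card_conj_smul]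
  exact p1Elem_prime exc.elem1

/-- BG 11.4. -/
theorem exceptional_sigma_uniq (hG : Ctx G) (exc : ExceptionalFTMaximal p M A₀ A)
    {H : Subgroup G} (hH : Mx H) (hAH : A ≤ H) (h : sigmaCore H ⊓ sigmaCore M ≠ ⊥) :
    H = M := by
  rw [inf_comm] at h
  obtain ⟨g, -, rfl⟩ : ConjIn ⊤ M H := by
    by_contra hc
    exact h ((sigma_disjoint hG exc.maxM hH hc).2.2 (exceptional_sigma_nil hG exc)).1
  refine conjGid ?_
  by_contra hg
  exact h (le_bot_iff.1 ((exceptional_TI_MsigmaJ hG exc hg hAH).1.le.trans'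
    (inf_le_inf le_rfl (Msigma_normal _).1)))

/-- BG 11.5. -/
theorem exceptional_Sylow_abelian (hG : Ctx G)
    (exc : ExceptionalFTMaximal p M A₀ A) (hP : IsSylowOf p P M) : IsMulCommutative P := by
  have := Fact.mk exc.prime
  obtain ⟨P, hP', hAP⟩ := exc.exists_Sylow
  obtain ⟨m, -, rfl⟩ := Sylow_trans hP' hP
  rw [abelianJ]
  clear hP m
  by_contra hna
  have nreg : ∀ Q : Subgroup G, Q ≠ ⊥ → A ≤ 𝐍 Q → (Nat.card Q).Coprime (Nat.card A) →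
      ∃ X ∈ Elem p 1 A, Q ⊓ 𝐂 X ≠ ⊥ := fun Q hQ hA hc => by
    obtain ⟨a, ha, ha1, h⟩ := bg7_exists_cent1_ne_bot (pnElem_abelian exc.elem2)
      (pnElem_not_cyclic exc.elem2 le_rfl) hA hc hQ
    exact ⟨zpowers a, p1Elem_zpowers ha (abelem_order_p exc.elem2.2.1 ha ha1),
      by rwa [cent_zpowers]⟩
  obtain ⟨g, hgP, hg⟩ := exc.exists_norm_not_mem hP'
  have hPp := Sylow_pgroup hP'
  obtain ⟨q, hq, hqd⟩ := exists_prime_dvd_card (Msigma_neq1 hG exc.maxM)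
  have := Fact.mk hq
  have hσ := Msigma_pgroup M
  obtain ⟨Q₁, hQ₁, hP₁, -⟩ := bg7_Hall_subset (π := {q}) (hP'.1.trans (Msigma_normal M).2)
    (pnat_coprime hσ (pi_pgroup hPp exc.sigma')) (sub_mmax_sol hG exc.maxM (Msigma_normal M).1)
    bot_le pgroup1 (norms1 P)
  have hQ1 := Sylow_ne_bot hQ₁ hqd
  have hc1 := pnat_coprime (pgroupS hQ₁.1 hσ) exc.A_sigma'
  have hP₂ : P ≤ 𝐍 (g •ᶜ Q₁) := by
    rw [normJ, ← normP.1 hgP, conjSg]; exact hP₁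
  obtain ⟨X₁, hX₁, h11⟩ := nreg Q₁ hQ1 (hAP.trans hP₁) hc1
  obtain ⟨X₂, hX₂, h22⟩ := nreg (g •ᶜ Q₁) (fun h => hQ1 ((conjsg_inj g).1 (by rw [h, conjs1g])))
    (hAP.trans hP₂) (by rwa [card_conj_smul])
  have hreg := (exceptional_TIsigmaJ hG exc hq hg
    (hAP.trans ((normP.1 hgP).ge.trans ((conjSg g).2 hP'.1))) hQ₁ (hAP.trans hP₁)
    ((pHallJ2 g).2 hQ₁) (hAP.trans hP₂)).2
  have h21 := (hreg X₂ hX₂).resolve_right h22
  have h12 := (hreg X₁ hX₁).resolve_left h11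
  have hZ : g •ᶜ omegaOne p (centerOf P) = omegaOne p (centerOf P) :=
    normP.1 (norms_Ohm (norms_center le_rfl) hgP)
  have hZ' : g •ᶜ Q₁ ⊓ 𝐂 (omegaOne p (centerOf P)) = g •ᶜ (Q₁ ⊓ 𝐂 (omegaOne p (centerOf P))) := by
    rw [conjIg, ← centJ, hZ]
  have h1 : X₁ ≠ omegaOne p (centerOf P) := by
    rintro rfl
    rw [hZ'] at h12
    exact h11 ((conjsg_inj g).1 (by rw [h12, conjs1g]))
  have h2 : X₂ ≠ omegaOne p (centerOf P) := by
    rintro rfl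
    exact h22 (by rw [hZ', h21, conjs1g])
  obtain ⟨x, hx, rfl⟩ := (basic_p2maxElem_structure hG exc.prime (pnElemS le_top exc.elem2)
    (exceptional_pmaxElem hG exc) hPp hAP hna (exc.dlp hG)).2.2 X₁ hX₁ h1 X₂ hX₂ h2
  refine h11 ((conjsg_inj x).1 ?_)
  rw [conjIg, normP.1 (hP₁ hx.1), ← centJ, h21, conjs1g]

/-- BG 11.6. -/
theorem exceptional_structure (hG : Ctx G) (exc : ExceptionalFTMaximal p M A₀ A)
    (hP : IsSylowOf p P M) (hAP : A ≤ P) :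
    A = omegaOne p P ∧ sigmaCore M ⊓ 𝐂 A = ⊥ ∧
      ∃ A₁ ∈ Elem p 1 A, ∃ A₂ ∈ Elem p 1 A,
        A₁ ≠ A₂ ∧ sigmaCore M ⊓ 𝐂 A₁ = ⊥ ∧ sigmaCore M ⊓ 𝐂 A₂ = ⊥ := by
  have hA : A = omegaOne p P := eq_Ohm1_of_pmaxElem_abelian (exceptional_Sylow_abelian hG exc hP)
    (pmaxElemS le_top (exceptional_pmaxElem hG exc) hAP)
  obtain ⟨g, hgP, hg⟩ := exc.exists_norm_not_mem hP
  have hgA : g ∈ 𝐍 A := hA ▸ norm_Ohm p P hgP
  have key : ∀ g ∈ 𝐍 A, g ∉ M → g •ᶜ A₀ ∈ Elem p 1 A ∧ sigmaCore M ⊓ 𝐂 (g •ᶜ A₀) = ⊥ :=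
    fun g hgA hg => ⟨(pnElemJnorm hgA).2 exc.elem1, (exceptional_TI_MsigmaJ hG exc hg
      ((normP.1 hgA).ge.trans ((conjSg g).2 exc.A_le))).2⟩
  have hg2 : g * g ∉ M := fun h => hg (BG4.mem_of_pow_mem_of_coprime (n := 2) (by rwa [sq])
    (Nat.coprime_two_right.2 ((mFT_odd hG _ (loc_norm exc.A_ne_bot
      (dg_of_elem exc.elem2 exc.prime (exc.dlp hG)))).of_dvd_nat (order_dvdG hgA))))
  obtain ⟨h1, h2⟩ := key g hgA hg
  obtain ⟨h3, h4⟩ := key (g * g) (mul_mem hgA hgA) hg2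
  refine ⟨hA, le_bot_iff.1 (h2.le.trans' (inf_le_inf le_rfl (centS h1.1))), _, h1, _, h3,
    fun h => hg (exc.norm_le (normP.2 ?_)), h2, h4⟩
  rw [conj_mul_smul, conjsg_inj] at h
  exact h.symm

/-- BG 11.7. -/
theorem exceptional_mul_sigma_normal (hG : Ctx G)
    (exc : ExceptionalFTMaximal p M A₀ A) : sigmaCore M ⊔ A ⊲ M := by
  have hp := exc.prime
  have := Fact.mk hp
  have hM := exc.maxM
  have hpd := exc.dlp hG
  obtain ⟨P, hP, hAP⟩ := exc.exists_Sylow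
  have hPp := Sylow_pgroup hP
  obtain ⟨hA, -, A₁, hA₁, A₂, hA₂, hne, hc₁, hc₂⟩ := exceptional_structure hG exc hP hAP
  have hsM := mmax_sol hG exc.maxM
  obtain ⟨E, hE, hPE⟩ := Hall_superset (π := (sigma M)ᶜ) hsM hP.1 (pi_pgroup hPp exc.sigma')
  have hrE : rank E ≤ 2 := alpha'_rank_le hE.1
    (sub_pgroup (Set.compl_subset_compl.2 (alpha_sub_sigma hG exc.maxM)) hE.2.1)
  have hsE := solvableS hE.1 hsM
  have hall : ∀ m, IsPiHallOf {q | m ≤ q} (piCoreOf {q | m ≤ q} E) E := fun m =>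
    rank2_ge_pcore_Hall m (mFT_odd hG E) hsE ((rankS (Fitting_sub E)).trans hrE)
  set K := piCoreOf {q | p + 1 ≤ q} E with hK
  have hKE : K ⊲ E := pcore_normal _ _
  have hKπ : IsPiSubgroup {q | p + 1 ≤ q} K := pcore_pgroup _ _
  refine ⟨sup_le (Msigma_normal M).1 exc.A_le, ?_⟩
  by_cases hAK : A ≤ 𝐂 K
  · set L := piCoreOf {q | p ≤ q} E with hL
    have hLE : L ⊲ E := pcore_normal _ _
    have hPL : P ≤ L := (sub_normal_Hall (hall p) hLE.2 hPE).2 (pi_pgroup hPp (le_refl p))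
    have hKL : K ≤ L := (sub_normal_Hall (hall p) hLE.2 hKE.1).2
      (sub_pgroup (fun q (hq : p + 1 ≤ q) => Nat.le_of_succ_le hq) hKπ)
    have hPL' : IsSylowOf p P L := pHall_subl hPL (hLE.1.trans hE.1) hP
    have hLA : L ≤ 𝐍 A := by
      refine le_of_forall_Sylow_le fun r hr hd => ?_
      rcases (show p ≤ r from pcore_pgroup _ _ r hr.out hd).eq_or_lt with rfl | h
      · exact ⟨P, hPL', hA ▸ norms_Ohm (normG P)⟩
      · obtain ⟨R, hR⟩ := Sylow_exists r K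
        exact ⟨R, pHall_subl (hR.1.trans hKL) hLE.1 (subHall_Sylow (hall _) h hR),
          hR.1.trans (cents_norm (centsC.1 hAK))⟩
    have hEA : E ≤ 𝐍 A := fun e he => by
      have h1 : e •ᶜ A ≤ L := conj_sub_norm (hLE.2 he) (hAP.trans hPL)
      obtain ⟨l, hl, h2⟩ := Sylow_subJ hPL' h1 ((isPGroupJ e).2 exc.A_pgroup)
      have h3 := abelem_le_Ohm1 ((abelemJ e).2 exc.elem2.2.1) h2
      rw [← BG4.omegaOne_conj, ← hA, normP.1 (hLA hl)] at h3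
      exact normP.2 (eq_of_le_of_card_le h3 (card_conj_smul e A).ge)
    rw [← Hall_sup_eq (Msigma_Hall hG exc.maxM) hE]
    nth_rw 2 [Hall_sup_eq (Msigma_Hall hG exc.maxM) hE]
    exact sup_le (normsG le_sup_left) (normsY (hE.1.trans (Msigma_normal M).2) hEA)
  exfalso
  have hAK' : A ≤ 𝐍 K := (hAP.trans hPE).trans hKE.2
  have hKp : IsPiSubgroup {p}ᶜ K := pi_p'group hKπ (by simp)
  have hcKA : (Nat.card K).Coprime (Nat.card A) := (pgroup_coprime_p'group exc.A_pgroup hKp).symm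
  obtain ⟨q, hq, hqd, Q, hQ, hAQ, hQA⟩ : ∃ q : ℕ, q.Prime ∧ q ∣ Nat.card K ∧
      ∃ Q, IsSylowOf q Q K ∧ A ≤ 𝐍 Q ∧ ¬ Q ≤ 𝐂 A := by
    by_contra h
    push Not at h
    refine hAK (centsC.1 (le_of_forall_Sylow_le fun r hr hd => ?_))
    obtain ⟨R, hR, hAR, -⟩ := bg7_Hall_subset (π := {r}) hAK' hcKA (solvableS hKE.1 hsE) bot_le
      pgroup1 (norms1 A)
    exact ⟨R, hR, h r hr.out hd R hR hAR⟩
  have := Fact.mk hq
  have hpq : p + 1 ≤ q := hKπ q hq hqd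
  have hqσ : q ∉ sigma M := hE.2.1 q hq (hqd.trans (cardSg hKE.1))
  have hQM : IsSylowOf q Q M := subHall_Sylow hE hqσ (subHall_Sylow (hall _) hpq hQ)
  have hQp := Sylow_pgroup hQ
  have hQ1 := Sylow_ne_bot hQ hqd
  have hqΔ : q ∈ dl G := dl_of_normed hG hq (pnElem_abelian exc.elem2)
    (pnElem_not_cyclic exc.elem2 le_rfl) (dg_of_elem exc.elem2 hp hpd) hQ.2.1 hQ1 hAQ
  have hZ1 : centerOf Q ≠ ⊥ := X10.center_ne_bot hq hQp hQ1
  have hZQ : centerOf Q ≤ Q := inf_le_left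
  have hAZ : A ≤ 𝐍 (centerOf Q) := norms_center hAQ
  have hcQA := coprimeSg hQ.1 hcKA
  by_cases hZA : centerOf Q ⊓ 𝐂 A = ⊥
  · have hd := (coprime_abelian_cent_dprod hAZ (coprimeSg hZQ hcQA) (abelian_center Q)).sup
    rw [hZA, sup_bot_eq] at hd
    have hn : ∀ X ∈ Elem p 1 A, sigmaCore M ⊓ 𝐂 X = ⊥ → ⁅centerOf Q, X⁆ ⊲ M := fun X hX hc =>
      (commG_sigma'_1Elem_cyclic hG exc.maxM (hZQ.trans hQM.1)
        (pi_pgroup (hQp.to_le hZQ) hqσ) hp exc.sigma'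
        (pnElem_of_le hX (le_inf (hX.1.trans exc.A_le) (hX.1.trans hAZ))) hc
        (pgroupS (hZQ.trans hQ.1) hKp) (abelian_center Q)).2.2
    have hN := normalY (hn _ hA₁ hc₁) (hn _ hA₂ hc₂)
    have he : ⁅centerOf Q, A₁⁆ ⊔ ⁅centerOf Q, A₂⁆ = centerOf Q := by
      refine le_antisymm (sup_le (commg_subl.2 (hA₁.1.trans hAZ)) (commg_subl.2 (hA₂.1.trans hAZ)))
        (hd.ge.trans ?_)
      rw [← ((p2Elem_dprodP exc.elem2 hA₁ hA₂).2 hne).sup]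
      exact commutator_sup_right_le_of_le_normalizer ((hA₁.1.trans exc.A_le).trans hN.2)
        ((hA₂.1.trans exc.A_le).trans hN.2) le_sup_left le_sup_right
    rw [he] at hN
    exact sigma'_Sylow_contra exc.maxM.1 hq hqσ hQM
      ((norms_center le_rfl).trans (mmax_normal hG exc.maxM hN hZ1).le)
  have hqC : q ∣ Nat.card (𝐂 A) :=
    (pgroup_dvd_card (hQp.to_le (inf_le_left.trans hZQ)) hZA).trans (cardSg inf_le_right)
  have hnc : ¬ IsCyclic Q := fun hc => by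
    refine hQA (centsC.1 (coprime_odd_faithful_Ohm1 hq hQ.2.1 hAQ hcQA (mFT_odd hG Q) (centsC.1 ?_)))
    have h1 := meet_Ohm1 hQp (show 𝐂 A ⊓ Q ≠ ⊥ from subG1_contra
      (le_inf inf_le_right (inf_le_left.trans hZQ)) hZA)
    exact prime_meetG (by rw [Ohm1_cyclic_pgroup_prime hc hQp hQ1]; exact hq) (by rwa [inf_comm])
  obtain ⟨B, hB⟩ := odd_pgroup_not_cyclic_p2Elem hQp (mFT_odd hG Q) hnc
  obtain ⟨S, hS, hQS⟩ := max_normed_exists hQ.2.1 hAQ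
  obtain ⟨Pm, -, hAPm, -, -, hnar⟩ := max_normed_2Elem_signaliser hG hp hq (by omega)
    (pnElemS le_top exc.elem2) (exceptional_pmaxElem hG exc) hS hqC
  have hSn : IsNarrow q S := (narrow_pmaxElemP hq (pgroup_iff.1 (mem_max_normed hS).1)
    ((dg_of_pi (mem_max_normed hS).1 hqΔ).odd hG)).2 fun _ => ⟨B, pnElemS hQS hB, pmaxElemS le_top
      (sigma'_rank2_max hG exc.maxM hq hqσ (pnElemS hQM.1 hB)) (hB.1.trans hQS)⟩
  exact hQA (hQS.trans (centsC.1 (hAPm.trans (hnar hSn))))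

end Cfsg.Lib.FT.PG
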