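import Cfsg.Agent.PG.Ctx

/-!
Definitions of B & G, section 12: the decomposition of a complement of `M_σ`.
-/

set_option autoImplicit false
set_option linter.unusedSectionVars false

open Pointwise Cfsg Cfsg.Lib.Solv

namespace Cfsg.Lib.FT.PG

variable {G : Type*} [Group G] [Dl G]

/-- The notation fixed at the head of B & G section 12: `E` is a Hall `σ(M)'`-subgroup of `M`,
`Eᵢ` is a Hall `τᵢ(M)`-subgroup of `E`, and `E₁` normalizes `E₂`. -/
structure SigmaCompl (M E E₁ E₂ E₃ : Subgroup G) : Prop where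
  hallE : IsPiHallOf (sigma M)ᶜ E M
  hall1 : IsPiHallOf (tau1 M) E₁ E
  hall2 : IsPiHallOf (tau2 M) E₂ E
  hall3 : IsPiHallOf (tau3 M) E₃ E
  norm12 : E₁ ≤ 𝐍 E₂

end Cfsg.Lib.FT.PG
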