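import Cfsg.Agent.PG.Ctx

/-!
Definitions of B & G, section 14: the `σ`-decomposition of elements, the signalizers `N[x]`, `R[x]`,
the sets `M~`, and the classes `𝓜_F`, `𝓜_P`, `𝓜_P1`, `𝓜_P2` of maximal subgroups.
`κ(M)` is `Cfsg.kappa M`.
-/

set_option autoImplicit false
set_option linter.unusedSectionVars false

open Pointwise Cfsg Cfsg.Lib.Solv

namespace Cfsg.Lib.FT.PG

variable {G : Type*} [Group G] [Dl G]

/-- the non-identity constituents `x_{σ(M)}`, `M` a maximal subgroup -/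
def sigmaDecomp (x : G) : Set G :=
  {y | y ≠ 1 ∧ ∃ M : Subgroup G, Mx M ∧ y = constt (sigma M) x}

/-- `𝓜_σ(x)`: the maximal subgroups `M` with `x ∈ M_σ` -/
def sigmaMmax (x : G) : Set (Subgroup G) := {M | Mx M ∧ x ∈ sigmaCore M}

/-- `ℓ_σ(x) = 1`, in the form that is used: `x ≠ 1` lies in `M_σ` for some maximal `M` -/
def Ell1 (x : G) : Prop := x ≠ 1 ∧ (sigmaMmax x).Nonempty

open scoped Classical in
/-- `N[x]`: a (the) maximal subgroup over `C(x)` when `𝓜_σ(x)` has at least two members -/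
noncomputable def signalizerBase (x : G) : Subgroup G :=
  if h : (sigmaMmax x).Nontrivial ∧ ∃ N : Subgroup G, Mx N ∧ 𝐂₁ x ≤ N then h.2.choose else ⊥

/-- `R[x] = C_{N[x]_σ}(x)` -/
noncomputable def signalizer (x : G) : Subgroup G := sigmaCore (signalizerBase x) ⊓ 𝐂₁ x

/-- `M~`: the union of the cosets `x R[x]`, `x ∈ M_σ#` -/
def sigmaSupport (M : Subgroup G) : Set G :=
  {g | ∃ x ∈ sigmaCore M, x ≠ 1 ∧ x⁻¹ * g ∈ signalizer x}

/-- `σ(M) ∪ κ(M)` -/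
def sigmaKappa (M : Subgroup G) : Set ℕ := sigma M ∪ kappa M

/-- `K` is a Hall `κ(M)`-subgroup of `M`, and `U` a Hall `(σ(M) ∪ κ(M))'`-subgroup normalized by `K` -/
structure KappaCompl (M U K : Subgroup G) : Prop where
  hallK : IsPiHallOf (kappa M) K M
  hallU : IsPiHallOf (sigmaKappa M)ᶜ U M
  norm : K ≤ 𝐍 U

/-- `M ∈ 𝓜_F` -/
def MaxF (M : Subgroup G) : Prop := Mx M ∧ kappa M = ∅

/-- `M ∈ 𝓜_P` -/
def MaxP (M : Subgroup G) : Prop := Mx M ∧ (kappa M).Nonempty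

/-- `M ∈ 𝓜_P1` -/
def MaxP1 (M : Subgroup G) : Prop := MaxP M ∧ IsPiSubgroup (sigmaKappa M) M

/-- `M ∈ 𝓜_P2` -/
def MaxP2 (M : Subgroup G) : Prop := MaxP M ∧ ¬ IsPiSubgroup (sigmaKappa M) M

theorem mem_sigmaMmax {x : G} {M : Subgroup G} :
    M ∈ sigmaMmax x ↔ Mx M ∧ x ∈ sigmaCore M := Iff.rfl

theorem mem_sigmaKappa {M : Subgroup G} {p : ℕ} :
    p ∈ sigmaKappa M ↔ p ∈ sigma M ∨ p ∈ kappa M := Iff.rfl

theorem MaxF.max {M : Subgroup G} (h : MaxF M) : Mx M := h.1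
theorem MaxP.max {M : Subgroup G} (h : MaxP M) : Mx M := h.1
theorem MaxP1.maxP {M : Subgroup G} (h : MaxP1 M) : MaxP M := h.1
theorem MaxP2.maxP {M : Subgroup G} (h : MaxP2 M) : MaxP M := h.1
theorem MaxP2.max {M : Subgroup G} (h : MaxP2 M) : Mx M := h.1.1

theorem maxF_or_maxP {M : Subgroup G} (h : Mx M) : MaxF M ∨ MaxP M :=
  (kappa M).eq_empty_or_nonempty.imp (fun h' => ⟨h, h'⟩) fun h' => ⟨h, h'⟩

theorem MaxP.p1_or_p2 {M : Subgroup G} (h : MaxP M) : MaxP1 M ∨ MaxP2 M :=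
  (em _).imp (fun h' => ⟨h, h'⟩) fun h' => ⟨h, h'⟩

theorem MaxF.not_maxP {M : Subgroup G} (h : MaxF M) : ¬ MaxP M := fun h' => h'.2.ne_empty h.2

theorem MaxP1.not_maxP2 {M : Subgroup G} (h : MaxP1 M) : ¬ MaxP2 M := fun h' => h'.2 h.2

theorem maxF_iff_not_maxP {M : Subgroup G} (h : Mx M) : MaxF M ↔ ¬ MaxP M :=
  ⟨MaxF.not_maxP, fun h' => (maxF_or_maxP h).resolve_right h'⟩

theorem not_maxP1_iff {M : Subgroup G} (h : Mx M) : ¬ MaxP1 M ↔ MaxF M ∨ MaxP2 M := by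
  constructor
  · intro h1
    rcases maxF_or_maxP h with hF | hP
    · exact Or.inl hF
    · exact Or.inr (hP.p1_or_p2.resolve_left h1)
  · rintro (hF | h2) h1
    · exact hF.not_maxP h1.1
    · exact h1.not_maxP2 h2

theorem signalizer_le_cent1 (x : G) : signalizer x ≤ 𝐂₁ x := inf_le_right

end Cfsg.Lib.FT.PG
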