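import Cfsg.Agent.PG.BG14Defs

/-!
Definitions of B & G, section 16 and Peterfalvi, section 8: the types of maximal subgroups, the sets
`A₁(M)`, `A(M)`, `A₀(M)` and the Dade maps attached to them.
`M_F` is `fittingHallOf M`, `M'` is `⁅M, M⁆`, `'R_M` is `supportR M`, `'A~(M, A)` is `tildeOf M A`.
-/

set_option autoImplicit false
set_option linter.unusedSectionVars false

open Pointwise Cfsg Cfsg.Lib.Solv

namespace Cfsg.Lib.FT.PG

variable {G : Type*} [Group G] [Dl G]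

/-- Peterfalvi (8.6)(b) -/
structure OfTypeII (M U W W₁ W₂ : Subgroup G) : Prop where
  typeII_IV : OfTypeII_IV M U W W₁ W₂
  abelian : IsMulCommutative U
  typeF : OfTypeF ⁅M, M⁆ U
  Fcore_der : fittingHallOf ⁅M, M⁆ = fittingHallOf M

open scoped Classical in
/-- the type (1, …, 5) of a maximal subgroup -/
noncomputable def FTtype (M : Subgroup G) : ℕ :=
  if kappa M = ∅ then 1 else if sigmaCore M ≠ ⁅M, M⁆ then 2 else
    if fittingHallOf M = sigmaCore M then 5 else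
      if ⁅⁅M, M⁆, ⁅M, M⁆⁆ ≤ fittingHallOf M then 3 else 4

/-- `M_s` -/
noncomputable def FTcore (M : Subgroup G) : Subgroup G :=
  if FTtype M ≤ 2 then fittingHallOf M else ⁅M, M⁆

/-- `M` in type 1, `M'` otherwise -/
noncomputable def FTder (M : Subgroup G) : Subgroup G := if FTtype M = 1 then M else ⁅M, M⁆

/-- `A₁(M)` -/
noncomputable def FTsupp1 (M : Subgroup G) : Set G := sharp (FTcore M)

/-- `A(M)` -/
noncomputable def FTsupp (M : Subgroup G) : Set G :=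
  {a | a ∈ FTder M ∧ a ≠ 1 ∧ ∃ x ∈ FTcore M, x ≠ 1 ∧ a ∈ 𝐂₁ x}

/-- `A₀(M)` -/
noncomputable def FTsupp0 (M : Subgroup G) : Set G :=
  FTsupp M ∪ {x | x ∈ M ∧ ¬ PiElt (piOf ((FTder M).relIndex M)) x ∧
    ¬ PiElt (piOf ((FTder M).relIndex M))ᶜ x}

/-- the Dade map of `A₀(M)` -/
noncomputable abbrev FTDade0 (M : Subgroup G) : (G → ℂ) →ₗ[ℂ] (G → ℂ) :=
  Dade (FTsupp0 M) (supportR M)

/-- the Dade map of `A(M)` -/
noncomputable abbrev FTDade (M : Subgroup G) : (G → ℂ) →ₗ[ℂ] (G → ℂ) :=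
  Dade (FTsupp M) (supportR M)

/-- the Dade map of `M_F#` -/
noncomputable abbrev FTDadeF (M : Subgroup G) : (G → ℂ) →ₗ[ℂ] (G → ℂ) :=
  Dade (sharp (fittingHallOf M)) (supportR M)

/-- Peterfalvi (8.8)(b) -/
structure TypePPair (S T W W₁ W₂ : Subgroup G) : Prop where
  cycTI : CyclicTIHyp ⊤ W W₁ W₂
  maxS : Mx S
  maxT : Mx T
  sdprodS : SDProd ⁅S, S⁆ W₁ S
  sdprodT : SDProd ⁅T, T⁆ W₂ T
  inf : S ⊓ T = W
  type2 : FTtype S = 2 ∨ FTtype T = 2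
  S_ne1 : FTtype S ≠ 1
  T_ne1 : FTtype T ≠ 1
  conj : ∀ M : Subgroup G, Mx M → FTtype M ≠ 1 → ConjIn ⊤ S M ∨ ConjIn ⊤ T M

variable {M L U W W₁ W₂ S T : Subgroup G} {x a g : G}

omit [Dl G] in
theorem OfTypeII.typeP (h : OfTypeII M U W W₁ W₂) : OfTypeP M U W W₁ W₂ := h.typeII_IV.typeP

theorem FTtype_cases (M : Subgroup G) :
    FTtype M = 1 ∨ FTtype M = 2 ∨ FTtype M = 3 ∨ FTtype M = 4 ∨ FTtype M = 5 := by
  unfold FTtype
  split_ifs <;> simp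

theorem FTtype_range (M : Subgroup G) : 0 < FTtype M ∧ FTtype M ≤ 5 := by
  have := FTtype_cases M
  omega

theorem FTtype_eq_one_iff : FTtype M = 1 ↔ kappa M = ∅ := by
  unfold FTtype
  split_ifs <;> simp [*]

theorem FTtype_eq_two_iff : FTtype M = 2 ↔ kappa M ≠ ∅ ∧ sigmaCore M ≠ ⁅M, M⁆ := by
  unfold FTtype
  split_ifs <;> simp_all

theorem FTtype_gt_two_iff : 2 < FTtype M ↔ kappa M ≠ ∅ ∧ sigmaCore M = ⁅M, M⁆ := by
  unfold FTtype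
  split_ifs <;> simp_all

theorem FTtype_eq_five_iff :
    FTtype M = 5 ↔ kappa M ≠ ∅ ∧ sigmaCore M = ⁅M, M⁆ ∧ fittingHallOf M = sigmaCore M := by
  unfold FTtype
  split_ifs <;> simp_all

theorem FTtype_eq_three_iff :
    FTtype M = 3 ↔ kappa M ≠ ∅ ∧ sigmaCore M = ⁅M, M⁆ ∧ fittingHallOf M ≠ sigmaCore M ∧
      ⁅⁅M, M⁆, ⁅M, M⁆⁆ ≤ fittingHallOf M := by
  unfold FTtype
  split_ifs <;> simp_all

theorem FTtype_eq_four_iff :
    FTtype M = 4 ↔ kappa M ≠ ∅ ∧ sigmaCore M = ⁅M, M⁆ ∧ fittingHallOf M ≠ sigmaCore M ∧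
      ¬ ⁅⁅M, M⁆, ⁅M, M⁆⁆ ≤ fittingHallOf M := by
  unfold FTtype
  split_ifs <;> simp_all

theorem FTtype_Fmax (hM : Mx M) : MaxF M ↔ FTtype M = 1 := by
  rw [FTtype_eq_one_iff]; exact ⟨fun h => h.2, fun h => ⟨hM, h⟩⟩

theorem FTtype_Pmax (hM : Mx M) : MaxP M ↔ FTtype M ≠ 1 := by
  rw [Ne, FTtype_eq_one_iff, ← Ne, ← Set.nonempty_iff_ne_empty]
  exact ⟨fun h => h.2, fun h => ⟨hM, h⟩⟩

theorem FTcore_type_le2 (h : FTtype M ≤ 2) : FTcore M = fittingHallOf M := if_pos h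
theorem FTcore_type1 (h : FTtype M = 1) : FTcore M = fittingHallOf M := if_pos (by omega)
theorem FTcore_type_gt2 (h : 2 < FTtype M) : FTcore M = ⁅M, M⁆ := if_neg (by omega)

theorem FTder_type1 (h : FTtype M = 1) : FTder M = M := if_pos h
theorem FTder_typeP (h : FTtype M ≠ 1) : FTder M = ⁅M, M⁆ := if_neg h

theorem FTsupp1_type_le2 (h : FTtype M ≤ 2) : FTsupp1 M = sharp (fittingHallOf M) := by
  rw [FTsupp1, FTcore_type_le2 h]
theorem FTsupp1_type1 (h : FTtype M = 1) : FTsupp1 M = sharp (fittingHallOf M) :=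
  FTsupp1_type_le2 (by omega)
theorem FTsupp1_type_gt2 (h : 2 < FTtype M) : FTsupp1 M = sharp ⁅M, M⁆ := by
  rw [FTsupp1, FTcore_type_gt2 h]

theorem mem_FTsupp1 : x ∈ FTsupp1 M ↔ x ∈ FTcore M ∧ x ≠ 1 := mem_sharp

theorem mem_FTsupp : a ∈ FTsupp M ↔ a ∈ FTder M ∧ a ≠ 1 ∧ ∃ x ∈ FTcore M, x ≠ 1 ∧ a ∈ 𝐂₁ x :=
  Iff.rfl

theorem FTder_sub (M : Subgroup G) : FTder M ≤ M := by
  unfold FTder; split_ifs
  exacts [le_rfl, der_sub M]

theorem der_sub_FTder (M : Subgroup G) : ⁅M, M⁆ ≤ FTder M := by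
  unfold FTder; split_ifs
  exacts [der_sub M, le_rfl]

theorem FTder_normal (M : Subgroup G) : FTder M ⊲ M :=
  sub_der1_normal (der_sub_FTder M) (FTder_sub M)

theorem norm_FTder (M : Subgroup G) : 𝐍 M ≤ 𝐍 (FTder M) := by
  unfold FTder; split_ifs
  exacts [le_rfl, norms_der le_rfl]

theorem FTsupp_sub0 (M : Subgroup G) : FTsupp M ⊆ FTsupp0 M := Set.subset_union_left

theorem FTsupp_sub_FTder (M : Subgroup G) : FTsupp M ⊆ sharp (FTder M) :=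
  fun _ h => mem_sharp.2 ⟨h.1, h.2.1⟩

theorem FTsupp_sub (M : Subgroup G) : FTsupp M ⊆ sharp M :=
  (FTsupp_sub_FTder M).trans (sharp_mono (FTder_sub M))

theorem FTsupp0_sub (M : Subgroup G) : FTsupp0 M ⊆ sharp M := by
  rintro x (h | ⟨h1, h2, -⟩)
  · exact FTsupp_sub M h
  · exact mem_sharp.2 ⟨h1, fun e => h2 (e ▸ p_elt1)⟩

theorem one_not_mem_FTsupp0 (M : Subgroup G) : (1 : G) ∉ FTsupp0 M :=
  fun h => (mem_sharp.1 (FTsupp0_sub M h)).2 rfl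

theorem FTsupp0_type1 (h : FTtype M = 1) : FTsupp0 M = FTsupp M := by
  refine Set.union_eq_self_of_subset_right ?_
  rintro x ⟨-, -, h2⟩
  refine absurd ?_ h2
  rw [FTder_type1 h, Subgroup.relIndex_self]
  intro p hp _ hp1
  exact hp.one_lt.ne' (Nat.dvd_one.1 hp1.2)

theorem FTsupp_eq1 (h : 2 < FTtype M) : FTsupp M = FTsupp1 M := by
  ext a
  rw [mem_FTsupp, mem_FTsupp1, FTcore_type_gt2 h, FTder_typeP (by omega)]
  exact ⟨fun h => ⟨h.1, h.2.1⟩, fun h => ⟨h.1, h.2, a, h.1, h.2, cent1id a⟩⟩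

theorem FTsupp_type_gt2 (h : 2 < FTtype M) : FTsupp M = sharp ⁅M, M⁆ := by
  rw [FTsupp_eq1 h, FTsupp1_type_gt2 h]

theorem supportR_eq_bot (h : 𝐂₁ x ≤ M) : supportR M x = ⊥ := dif_neg fun h' => h'.1 h

theorem supportR_eq (h : ¬ 𝐂₁ x ≤ M) (hL : UniqMax (𝐂₁ x) L) :
    supportR M x = fittingHallOf L ⊓ 𝐂₁ x := by
  have h' : ¬ 𝐂₁ x ≤ M ∧ ∃! L : Subgroup G, Mx L ∧ 𝐂₁ x ≤ L := ⟨h, hL.uniq⟩
  unfold supportR
  rw [dif_pos h']
  have := Classical.choose_spec h'.2.exists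
  rw [hL.eq this.1 this.2]

theorem supportR_le_cent1 (M : Subgroup G) (x : G) : supportR M x ≤ 𝐂₁ x := by
  unfold supportR; split_ifs
  exacts [inf_le_right, bot_le]

theorem typeP_pair_sym (h : TypePPair S T W W₁ W₂) : TypePPair T S W W₂ W₁ where
  cycTI := ⟨h.cycTI.dprod.symm, h.cycTI.cyclic, h.cycTI.odd,
    cyclicTIset_symm W W₁ W₂ ▸ h.cycTI.normedTI⟩
  maxS := h.maxT
  maxT := h.maxS
  sdprodS := h.sdprodT
  sdprodT := h.sdprodS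
  inf := by rw [inf_comm]; exact h.inf
  type2 := h.type2.symm
  S_ne1 := h.T_ne1
  T_ne1 := h.S_ne1
  conj := fun M hM h1 => (h.conj M hM h1).symm

variable [Finite G]

theorem FTcore_normal (M : Subgroup G) : FTcore M ⊲ M := by
  unfold FTcore; split_ifs
  exacts [Fcore_normal M, der_normal M]

theorem FTcore_sub (M : Subgroup G) : FTcore M ≤ M := (FTcore_normal M).le

theorem norm_FTcore (M : Subgroup G) : 𝐍 M ≤ 𝐍 (FTcore M) := by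
  unfold FTcore; split_ifs
  exacts [norm_Fcore M, norms_der le_rfl]

theorem FTsupp1_norm (hg : g ∈ 𝐍 M) (h : a ∈ FTsupp1 M) : g * a * g⁻¹ ∈ FTsupp1 M :=
  (conj_mem_sharp (norm_FTcore M hg)).2 h

theorem FTsupp_norm (hg : g ∈ 𝐍 M) (h : a ∈ FTsupp M) : g * a * g⁻¹ ∈ FTsupp M := by
  obtain ⟨h1, h2, x, hx, hx1, hc⟩ := h
  refine ⟨(memJ_norm (norm_FTder M hg)).2 h1, by rwa [Ne, conjg_eq1], g * x * g⁻¹,
    (memJ_norm (norm_FTcore M hg)).2 hx, by rwa [Ne, conjg_eq1], ?_⟩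
  rw [cent1J]; exact conj_mem_conj_smul g hc

theorem FTsupp0_norm (hg : g ∈ 𝐍 M) (h : a ∈ FTsupp0 M) : g * a * g⁻¹ ∈ FTsupp0 M := by
  rcases h with h | ⟨h1, h2, h3⟩
  · exact Or.inl (FTsupp_norm hg h)
  · exact Or.inr ⟨(memJ_norm hg).2 h1, by rwa [p_eltJ], by rwa [p_eltJ]⟩

end Cfsg.Lib.FT.PG
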