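import Cfsg.Agent.PG.Ctx

/-!
Bender-Glauberman, section 7: vocabulary (Hypothesis 7.1, transitivity on a set of subgroups,
`SCN_n`) and the elementary facts on maximal `A`-invariant `π`-subgroups.
`|/|_H(A; π)` is `invSubgroups H A π` and `|/|*(A; q)` is `maxInvSubgroups ⊤ A {q}`.
-/

set_option autoImplicit false
set_option linter.unusedSectionVars false

open Pointwise Cfsg Cfsg.Lib.Solv

namespace Cfsg.Lib.FT.PG

variable {G : Type*} [Group G] [Dl G]

/-- B & G, Hypothesis 7.1. -/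
structure NormedConstrained (A : Subgroup G) : Prop where
  ne_bot : A ≠ ⊥
  ne_top : DG A
  dlq : ∀ (q : ℕ) (Q : Subgroup G), q.Prime → IsPiSubgroup {q} Q → Q ≠ ⊥ → A ≤ 𝐍 Q → q ∈ dl G
  le_core : ∀ X Y : Subgroup G, A ≤ X → Loc X → Y ≤ X →
    IsPiSubgroup (piOf (Nat.card A))ᶜ Y → A ≤ 𝐍 Y → Y ≤ piCoreOf (piOf (Nat.card A))ᶜ X

end Cfsg.Lib.FT.PG
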