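import Cfsg.Agent.PG.BG7.SCN

/-!
Bender-Glauberman, section 8: the Fitting subgroup of a maximal subgroup.
-/

set_option autoImplicit false
set_option linter.unusedSectionVars false

open Pointwise Cfsg Cfsg.Lib.Solv

namespace Cfsg.Lib.FT.PG

variable {G : Type*} [Group G] [Dl G] [Finite G]

/-- B & G, Theorem 8.1(a), for any elementary abelian subgroup of rank at least 3. -/
theorem non_pcore_Fitting_Uniqueness' (hG : Ctx G) {p : ℕ} (hp : p.Prime)
    {M A₀ : Subgroup G} (hM : Mx M) (hF : ¬ IsPiSubgroup {p} (fittingOf M))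
    (hA₀F : A₀ ≤ fittingOf M) (hA₀ : IsElementaryAbelian p A₀) (hA₀3 : 3 ≤ pRank p A₀) :
    UniqMax (fittingOf M ⊓ 𝐂 A₀) M := by
  have := Fact.mk hp
  set F := fittingOf M with hFdef
  set A := F ⊓ 𝐂 A₀ with hAdef
  have hFM : F ⊲ M := Fitting_normal M
  have hnil : Group.IsNilpotent F := Fitting_nil M
  have hsolM := mmax_sol hG hM
  have hAF : A ≤ F := inf_le_left
  have hAM : A ≤ M := hAF.trans hFM.le
  have hA₀A : A₀ ≤ A := le_inf hA₀F (abelian_le_cent (abelem_abelian hA₀))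
  have hpA₀ : p ∣ Nat.card A₀ := p_rank_gt0.1 (by omega)
  have hpF : p ∣ Nat.card F := hpA₀.trans (cardSg hA₀F)
  have hA1 : A ≠ ⊥ := subG1_contra hA₀A (fun e => by
    rw [e, Subgroup.card_bot] at hpA₀; exact hp.one_lt.ne' (Nat.dvd_one.1 hpA₀))
  have hZ : ∀ q : ℕ, q.Prime → q ∣ Nat.card F →
      ∃ Z : Subgroup G, Z ≠ ⊥ ∧ IsPiSubgroup {q} Z ∧ Z ≤ A ∧ 𝐍 Z = M := by
    intro q hq hd
    have h1 : piCoreOf {q} F ⊓ centerOf F ≠ ⊥ :=
      meet_center_nil hnil (pcore_normal _ _) (nil_pcore_ne_bot hnil hq hd)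
    refine ⟨_, h1, pgroupS inf_le_left (pcore_pgroup _ _),
      inf_le_right.trans (inf_le_inf_left _ (centS hA₀F)), mmax_normal hG hM ?_ h1⟩
    exact normalI (pcore_normal_trans _ hFM) ⟨inf_le_left.trans hFM.le, norms_center hFM.norm⟩
  have hπ : ∀ q : ℕ, q.Prime → q ∣ Nat.card F → q ∈ piOf (Nat.card A) := by
    intro q hq hd
    have := Fact.mk hq
    obtain ⟨Z, h1, h2, h3, -⟩ := hZ q hq hd
    exact ⟨hq, (pgroup_dvd_card (pgroup_iff.1 h2) h1).trans (cardSg h3)⟩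
  have hπ' : ∀ q ∈ piOf (Nat.card A), q ∣ Nat.card F := fun q hq => hq.2.trans (cardSg hAF)
  have hFπ : IsPiSubgroup (piOf (Nat.card A)) F := hπ
  have hCA : 𝐂 A ≤ M := by
    obtain ⟨Z, -, -, h3, h4⟩ := hZ p hp hpF
    exact h4 ▸ (centS h3).trans (cent_sub Z)
  have hCAπ : IsPiSubgroup (piOf (Nat.card A)) (𝐂 A) := by
    intro q hq hd
    by_contra hqπ
    obtain ⟨X, hX, hXq⟩ := exists_prime_subgroup hq hd
    have hXπ : IsPiSubgroup (piOf (Nat.card A))ᶜ X := (prime_pgroup hXq hq).2 hqπ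
    have h1 : A ≤ F ⊓ 𝐂 X := le_inf hAF (centsC.1 hX)
    have h2 : X ≤ 𝐂 F := coprime_nil_faithful_cent_stab ((hX.trans hCA).trans hFM.norm)
      (pnat_coprime hFπ hXπ) hnil ((inf_le_inf_left _ (centS (hA₀A.trans h1))).trans h1)
    have h3 : X ≤ F := (le_inf (hX.trans hCA) h2).trans (cent_sub_Fitting hsolM)
    exact hqπ (hπ q hq (hXq ▸ cardSg h3))
  have halt : ∀ q : ℕ, ∃ r : ℕ, r.Prime ∧ r ∣ Nat.card F ∧ r ≠ q := by
    intro q
    by_cases h : q = p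
    · subst h
      by_contra hcon
      push Not at hcon
      exact hF fun r hr hd => hcon r hr hd
    · exact ⟨p, hp, hpF, fun e => h e.symm⟩
  have hq' : ∀ q : ℕ, q.Prime → q ∣ Nat.card F → ∀ X R : Subgroup G, A ≤ X → Loc X → R ≤ X →
      R ≤ piCoreOf {q}ᶜ M → R ≤ piCoreOf {q}ᶜ X := by
    intro q hq hd X R hAX hX hRX hR
    obtain ⟨Z, -, h2, h3, h4⟩ := hZ q hq hd
    exact sub_p'core_of_norm_pgroup hq (h3.trans hAX) h2 (mFT_sol hG hX) hRX (h4.symm ▸ hR)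
  have hq'' : ∀ q : ℕ, q.Prime → q ∣ Nat.card F → ∀ X R : Subgroup G, A ≤ X → Loc X → R ≤ A →
      IsPiSubgroup {q}ᶜ R → R ≤ piCoreOf {q}ᶜ X := fun q hq hd X R hAX hX hRA hR =>
    hq' q hq hd X R hAX hX (hRA.trans hAX) (sub_Fitting_pcore (hRA.trans hAF) hR)
  have hne : ∀ {q r : ℕ} {Z : Subgroup G}, IsPiSubgroup {r} Z → r ≠ q → IsPiSubgroup {q}ᶜ Z :=
    fun h e => pi_singleton_pgroup h e
  have hcstr : NormedConstrained A := by
    obtain ⟨E, hE⟩ := p_rank_geP.1 hA₀3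
    refine ⟨hA1, (Fitting_dg hG hM).mono hAF, fun q Q hq hQ h1 hn => dl_of_normed hG hq
      (pnElem_abelian hE) (pnElem_not_cyclic hE (by norm_num))
      ((Fitting_dg hG hM).mono ((pnElem_sub hE).trans hA₀F)) hQ h1
      (((pnElem_sub hE).trans hA₀A).trans hn), fun X Y hAX hX hYX hY hAY => ?_⟩
    refine sub_pi'core_of_forall hYX fun q hq hqπ => ?_
    obtain ⟨r, hr, hrF, hrq⟩ := halt q
    obtain ⟨Z, -, h2, h3, h4⟩ := hZ r hr hrF
    have hZX := hq'' q hq (hπ' q hqπ) X Z hAX hX h3 (hne h2 hrq)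
    rw [← coprime_cent_prod (h3.trans hAY) (p'nat_coprime hY (pgroupS h3 (pgroup_pi A)))
      (Or.inr (solvableS hYX (mFT_sol hG hX)))]
    refine sup_le ((commgSS hYX hZX).trans (commg_subr.2 (pcore_normal _ X).norm)) ?_
    have h5 : Y ⊓ 𝐂 Z ≤ M := h4 ▸ inf_le_right.trans (cent_sub Z)
    have h6 : IsPiSubgroup (piOf (Nat.card A))ᶜ (Y ⊓ 𝐂 Z) := pgroupS inf_le_left hY
    have h7 : Y ⊓ 𝐂 Z ≤ 𝐂 A := by
      rw [← commG1P, eq_bot_iff, ← pgroup_TI hFπ h6]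
      exact le_inf ((commgSS h5 hAF).trans (commg_subr.2 hFM.norm))
        (commg_subl.2 (norms_subcent hAY (h4.symm ▸ hAM)))
    rw [pgroup_eq_bot (pgroupS h7 hCAπ) h6]
    exact bot_le
  have hnby : ∀ q : ℕ, q.Prime → ¬ q ∣ Nat.card F → ∀ Q : Subgroup G, IsPiSubgroup {q} Q →
      A ≤ 𝐍 Q → Q = ⊥ := by
    intro q hq hqF
    have := Fact.mk hq
    have hqA : ¬ q ∣ Nat.card A := fun h => hqF (h.trans (cardSg hAF))
    have htr := normed_constrained_rank3_trans hG hcstr hq hqA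
      ((hA₀3.trans (p_rank_le_rank p A₀)).trans (rankS (le_inf hA₀A (centsC.1 inf_le_right))))
    obtain ⟨Q, hQ⟩ := max_normed_nonempty A {q}
    have hS := htr.eq_singleton hQ (by
      rw [pgroup_eq_bot (pgroupS (pcore_sub _ _) hCAπ) (pcore_pgroup _ _)]; exact bot_le)
    have hsn : SubnormalIn A F := ⟨hAF, isSubnormal_of_isNilpotent _⟩
    have hsub := (normed_trans_superset hG hcstr hq hqA hsn hFπ htr).2.2.1
    rw [hS] at hsub
    obtain ⟨Q', hQ'⟩ := max_normed_nonempty F {q}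
    have hQ'Q : Q' = Q := hsub hQ'
    subst hQ'Q
    have hMQ : M ≤ 𝐍 Q' := fun g hg => normP.2 (hsub (norm_acts_max_norm (hFM.norm hg) hQ'))
    have hQp := pgroup_iff.1 (mem_max_normed hQ).1
    have hQ1 : Q' = ⊥ := by
      by_contra h
      have h1 := mmax_norm hG hM h (dg_of_pgroup hQp
        (hcstr.dlq q Q' hq (mem_max_normed hQ).1 h (mem_max_normed hQ).2)) hMQ
      have h2 : Q' ≤ F := Fitting_max ⟨h1 ▸ normG Q', hMQ⟩ (pgroup_nil hQp)
      exact hqF ((pgroup_dvd_card hQp h).trans (cardSg h2))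
    intro R hR hAR
    obtain ⟨Y, hY, hRY⟩ := max_normed_exists hR hAR
    rw [hS, hQ1] at hY
    exact le_bot_iff.1 (hY ▸ hRY)
  refine ⟨hM, hAM, fun H hH hAH => ?_⟩
  have hHt := mmax_proper hH
  have hsolH := mmax_sol hG hH
  set D := fittingOf H with hD
  have hDH : D ⊲ H := Fitting_normal H
  have hnilD : Group.IsNilpotent D := Fitting_nil H
  have hσ : ∀ q : ℕ, q.Prime → q ∣ Nat.card D → q ∣ Nat.card F := by
    intro q hq hd
    by_contra h
    exact nil_pcore_ne_bot hnilD hq hd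
      (hnby q hq h _ (pcore_pgroup _ _) (norms_pcore _ (hAH.trans hDH.norm)))
  have hpD : p ∣ Nat.card D := by
    by_contra h
    obtain ⟨Z, h1, h2, h3, -⟩ := hZ p hp hpF
    have h4 : Z ≤ piCoreOf (piOf (Nat.card D))ᶜ H :=
      sub_pi'core_of_forall (h3.trans hAH) fun r hr hrD =>
        hq'' r hr (hσ r hr hrD.2) H Z hAH hHt h3 (hne h2 fun e => h (e ▸ hrD.2))
    have h5 : piCoreOf (piOf (Nat.card D))ᶜ H = ⊥ := by
      rw [← trivg_Fitting (solvableS (pcore_sub _ _) hsolH), Fitting_pcore]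
      exact pgroup_eq_bot (pgroupS (pcore_sub _ _) (pgroup_pi D)) (pcore_pgroup _ _)
    exact h1 (le_bot_iff.1 (h5 ▸ h4))
  have hcAD : ∀ q : ℕ, q.Prime → q ∣ Nat.card D → ∀ R : Subgroup G, R ≤ A →
      IsPiSubgroup {q}ᶜ R → piCoreOf {q} D ≤ 𝐂 R := by
    intro q hq hd R hRA hR
    have := Fact.mk hq
    rw [hD, p_core_Fitting, centsC]
    exact (hq'' q hq (hσ q hq hd) H R hAH hHt hRA hR).trans (p'core_cent_pcore _ _)
  have hDM : D ≤ M := by
    refine nil_le_of_forall_pcore_le hnilD fun q hq hd => ?_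
    obtain ⟨r, hr, hrF, hrq⟩ := halt q
    obtain ⟨Z, -, h2, h3, h4⟩ := hZ r hr hrF
    exact (hcAD q hq hd Z h3 (hne h2 hrq)).trans (h4 ▸ cent_sub Z)
  have hHp'M : piCoreOf {p}ᶜ H ≤ M := by
    obtain ⟨Z, -, h2, h3, h4⟩ := hZ p hp hpF
    have h5 : Z ≤ 𝐂 (fittingOf (piCoreOf {p}ᶜ H)) := by
      rw [centsC, Fitting_pcore, ← hD]
      refine nil_le_of_forall_pcore_le (nilpotentS (pcore_sub _ _) hnilD) fun r hr hd => ?_
      have hrp : r ≠ p := pcore_pgroup _ _ r hr hd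
      exact (pcore_normal_le _ (pcore_normal _ _)).trans
        (hcAD r hr (hd.trans (cardSg (pcore_sub _ _))) Z h3 (hne h2 hrp.symm))
    have h6 := (le_inf le_rfl h5).trans (coprime_cent_Fitting
      ((h3.trans hAH).trans (pcore_normal _ H).norm) (p'nat_coprime (pcore_pgroup _ _) h2)
      (solvableS (pcore_sub _ _) hsolH))
    exact (centsC.1 h6).trans (h4 ▸ cent_sub Z)
  have hDp1 := nil_pcore_ne_bot hnilD hp hpD
  have hNDp : 𝐍 (piCoreOf {p} D) = H := mmax_normal hG hH (pcore_normal_trans _ hDH) hDp1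
  have hDpM : piCoreOf {p} D ≤ M := (pcore_sub _ _).trans hDM
  have h1 : piCoreOf {p}ᶜ H ≤ piCoreOf {p}ᶜ M :=
    sub_p'core_of_norm_pgroup hp hDpM (pcore_pgroup _ _) hsolM hHp'M (by rw [hNDp])
  have h2 : piCoreOf {p}ᶜ M ≤ H := by
    have h5 : piCoreOf {p} D ≤ 𝐂 (fittingOf (piCoreOf {p}ᶜ M)) := by
      rw [Fitting_pcore, ← hFdef]
      refine hcAD p hp hpD _ (le_inf (pcore_sub _ _) ?_) (pcore_pgroup _ _)
      exact (p'core_cent_pcore {p} F).trans
        (centS (nilpotent_sub_pcore hnil hA₀F (pgroup_iff.2 (abelem_pgroup hA₀))))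
    have h6 := (le_inf le_rfl h5).trans (coprime_cent_Fitting
      (hDpM.trans (pcore_normal _ M).norm) (p'nat_coprime (pcore_pgroup _ _) (pcore_pgroup _ _))
      (solvableS (pcore_sub _ _) hsolM))
    exact (centsC.1 h6).trans (hNDp ▸ cent_sub _)
  have h3 : piCoreOf {p}ᶜ H = piCoreOf {p}ᶜ M :=
    le_antisymm h1 (hq' p hp hpF H _ hAH hHt h2 le_rfl)
  have h4 : piCoreOf {p}ᶜ M ≠ ⊥ := by
    obtain ⟨r, hr, hrF, hrp⟩ := halt p
    obtain ⟨Z, h5, h6, h7, -⟩ := hZ r hr hrF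
    exact subG1_contra (sub_Fitting_pcore (h7.trans hAF) (hne h6 hrp)) h5
  rw [← mmax_normal hG hM (pcore_normal _ M) h4, ← h3,
    mmax_normal hG hH (pcore_normal _ H) (h3 ▸ h4)]

/-- the standard choice of a second maximal subgroup with `|H ∩ M|_p` maximal -/
theorem exists_mmax_max_Sylow_inf (hG : Ctx G) {p : ℕ} [hp : Fact p.Prime]
    {M A : Subgroup G} (hM : Mx M) (hAM : A ≤ M) (hA : IsPGroup p A) (hA1 : A ≠ ⊥)
    (hN : ∀ P : Subgroup G, IsSylowOf p P M → A ≤ P → 𝐍 P ≤ M) (h : ¬ InUniqueMaximal A)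
    (hd : p ∈ dl G := by dlt) :
    ∃ H R : Subgroup G, Mx H ∧ H ≠ M ∧ A ≤ R ∧ IsSylowOf p R H ∧ 𝐍 R ≤ M := by
  have h0 : ∃ H : Subgroup G, Mx H ∧ H ≠ M ∧ A ≤ H := by
    by_contra hcon
    push Not at hcon
    exact h (UniqMax.uniq ⟨hM, hAM, fun L hL hAL => by_contra fun e => hcon L hL e hAL⟩)
  obtain ⟨R, hAR, hR⟩ := Finite.exists_le_maximal (p := fun R : Subgroup G =>
    IsPGroup p R ∧ R ≤ M ∧ ∃ H : Subgroup G, Mx H ∧ H ≠ M ∧ R ≤ H) ⟨hA, hAM, h0⟩
  obtain ⟨hRp, hRM, H, hH, hHM, hRH⟩ := hR.prop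
  have hNR : 𝐍 R ≤ M := by
    obtain ⟨P, hP, hRP⟩ := Sylow_superset hRM hRp
    rcases eq_or_lt_of_le hRP with rfl | hlt
    · exact hN R hP hAR
    have h1 := nilpotent_proper_norm (pgroup_nil (Sylow_pgroup hP)) hlt
    obtain ⟨L, hL, hNL⟩ := mmax_exists (mFT_norm_pgroup_proper hG hRp (subG1_contra hAR hA1))
    by_contra hcon
    exact h1.not_ge (hR.le_of_ge ⟨(Sylow_pgroup hP).to_le inf_le_left,
      inf_le_left.trans (pHall_sub hP), L, hL, fun e => hcon (e ▸ hNL), inf_le_right.trans hNL⟩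
      h1.le)
  refine ⟨H, R, hH, hHM, hAR, (Sylow_subnorm hRH).1 (max_pgroup_Sylow.2
    ⟨le_inf hRH (normG R), hRp, fun Q hQ h1 h2 => le_antisymm (hR.le_of_ge ⟨hQ,
      (h2.trans inf_le_right).trans hNR, H, hH, hHM, h2.trans inf_le_left⟩ h1) h1⟩), hNR⟩

/-- the normalizer of `Z(L(P))` for a Sylow subgroup `P` of a maximal subgroup with `O_{p'} = 1` -/
theorem mmax_norm_center_Puig (hG : Ctx G) {p : ℕ} [hp : Fact p.Prime]
    {M P : Subgroup G} (hM : Mx M) (hP : IsSylowOf p P M) (hP1 : P ≠ ⊥)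
    (h : piCoreOf {p}ᶜ M = ⊥) : 𝐍 (centerOf (Puig P)) = M :=
  mmax_normal hG hM (Puig_center_normal (mFT_odd hG M) (mmax_sol hG hM) hP h)
    fun e => hP1 (trivg_center_Puig_pgroup (Sylow_pgroup hP) e)

/-- B & G, Theorem 8.1(b) (the rank of `F(M)` plays no role). -/
theorem SCN_Fitting_Uniqueness' (hG : Ctx G) {p : ℕ} (hp : p.Prime)
    {M P A : Subgroup G} (hM : Mx M) (hF : IsPiSubgroup {p} (fittingOf M))
    (hP : IsSylowOf p P M) (hA : IsSCN P A) (hA3 : 3 ≤ rank A) :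
    IsSylowOf p P ⊤ ∧ A ≤ fittingOf M ∧ InUniqueMaximal A := by
  have := Fact.mk hp
  have hsolM := mmax_sol hG hM
  have hAP : A ≤ P := (SCN_normal hA).le
  have hPM := pHall_sub hP
  have hAM := hAP.trans hPM
  have hPp := Sylow_pgroup hP
  have hAp := hPp.to_le hAP
  have hA1 : A ≠ ⊥ := rank_gt0.1 (by omega)
  have hMp' : piCoreOf {p}ᶜ M = ⊥ := by
    rw [← trivg_Fitting (solvableS (pcore_sub _ _) hsolM), Fitting_pcore]
    exact pgroup_eq_bot (pgroupS (pcore_sub _ _) hF) (pcore_pgroup _ _)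
  have hFP : fittingOf M ≤ P := normal_sub_Hall hP hF (Fitting_normal M)
  have hAF : A ≤ fittingOf M := by
    rw [Fitting_eq_pcore p hMp', ← p'p_core_eq_pcore hMp']
    exact odd_p_abelian_constrained (mFT_odd hG M) hsolM hP (SCN_abelian hA) (SCN_normal hA)
  have hAd : DG A := (Fitting_dg hG hM).mono hAF
  have hd : p ∈ dl G := hAd p hp (pgroup_dvd_card hAp hA1)
  have hnc : ¬ IsCyclic A := fun h => by
    have := (odd_pgroup_rank1_cyclic hAp (hAd.odd hG)).1 h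
    rw [rank_pgroup hAp] at hA3
    omega
  have hCA : 𝐂 A ≤ M := by
    have h1 : centerOf (fittingOf M) ≤ A := (inf_le_inf hFP (centS hAF)).trans (SCN_cent hA).le
    refine (centS h1).trans (mmax_normal_cent hG hM
      ⟨inf_le_left.trans (Fitting_sub M), norms_center (Fitting_normal M).norm⟩ ?_)
    rw [Ne, center_nil_eq1 (Fitting_nil M)]
    exact subG1_contra hAF hA1
  have hN : ∀ P : Subgroup G, IsSylowOf p P M → A ≤ P → 𝐍 P ≤ M := fun P hP hAP =>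
    mmax_norm_center_Puig hG hM hP (subG1_contra hAP hA1) hMp' ▸ norm_center_Puig P
  have hPG := Sylow_top_of_norm_le hP (hN P hP hAP)
  refine ⟨hPG, hAF, ?_⟩
  have hK : piCoreOf {p}ᶜ (𝐂 A) = ⊥ := by
    rw [eq_bot_iff, ← hMp']
    exact SCN_norm_sub_p'core (mFT_odd hG M) hsolM hP hA ((pcore_sub _ _).trans hCA)
      (pcore_pgroup _ _) (cents_norm (centsC.1 (pcore_sub _ _)))
  have hnby : ∀ q : ℕ, q.Prime → q ≠ p → ∀ Q : Subgroup G, IsPiSubgroup {q} Q → A ≤ 𝐍 Q →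
      Q = ⊥ := by
    intro q hq hqp
    have := Fact.mk hq
    obtain ⟨Q, hQ⟩ := max_normed_nonempty A {q}
    have hS := (Thompson_transitivity hG hp hq hqp ⟨P, hPG, hA, hA3⟩).eq_singleton hQ
      (by rw [hK]; exact bot_le)
    have hSF := max_normed_uniq hS hAF (hFP.trans (SCN_normal hA).norm)
    have hQF : Q ∈ maxInvSubgroups ⊤ (fittingOf M) {q} := by rw [hSF]; rfl
    have hMQ : M ≤ 𝐍 Q := fun g hg => normP.2 (by
      have := norm_acts_max_norm ((Fitting_normal M).norm hg) hQF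
      rwa [hSF] at this)
    have hQp := pgroup_iff.1 (mem_max_normed hQ).1
    have hQ1 : Q = ⊥ := by
      by_contra h
      have h1 := mmax_norm hG hM h (dg_of_pgroup hQp (dl_of_normed hG hq (SCN_abelian hA) hnc hAd
        (mem_max_normed hQ).1 h (mem_max_normed hQ).2)) hMQ
      have h2 : Q ≤ piCoreOf {p}ᶜ M := pcore_max (pgroup_p'group_of_ne hQp hqp) ⟨h1 ▸ normG Q, hMQ⟩
      exact h (le_bot_iff.1 (hMp' ▸ h2))
    intro R hR hAR
    obtain ⟨Y, hY, hRY⟩ := max_normed_exists hR hAR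
    rw [hS, hQ1] at hY
    exact le_bot_iff.1 (hY ▸ hRY)
  by_contra hcon
  obtain ⟨H, R, hH, hHM, hAR, hR, hNR⟩ := exists_mmax_max_Sylow_inf hG hM hAM hAp hA1 hN hcon
  have hHp' : piCoreOf {p}ᶜ H = ⊥ := by
    rw [← trivg_Fitting (solvableS (pcore_sub _ _) (mmax_sol hG hH)), eq_bot_iff]
    refine nil_le_of_forall_pcore_le (Fitting_nil _) fun r hr hd => ?_
    refine (hnby r hr (pgroupS (Fitting_sub _) (pcore_pgroup _ _) r hr hd) _ (pcore_pgroup _ _)
      (norms_pcore _ (le_trans ?_ (norm_Fitting _)))).le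
    exact (hAR.trans (pHall_sub hR)).trans (pcore_normal _ H).norm
  have hR1 := subG1_contra hAR hA1
  have h1 := mmax_norm_center_Puig hG hH hR hR1 hHp'
  have hRG := Sylow_top_of_norm_le hR (h1 ▸ norm_center_Puig R)
  have h2 := mmax_norm_center_Puig hG hM (pHall_subl ((normG R).trans hNR) le_top hRG) hR1 hMp'
  exact hHM (h1.symm.trans h2)

/-- The two branches of B & G, Theorem 8.1 together, for a given prime. -/
theorem Fitting_Uniqueness_prime (hG : Ctx G) {p : ℕ} (hp : p.Prime)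
    {M : Subgroup G} (hM : Mx M) (hF3 : 3 ≤ pRank p (fittingOf M)) :
    ∃ B : Subgroup G, InUniqueMaximal B ∧ 3 ≤ pRank p (centerOf B) ∧ B ≤ fittingOf M := by
  have := Fact.mk hp
  by_cases hF : IsPiSubgroup {p} (fittingOf M)
  · obtain ⟨P, hP⟩ := Sylow_exists p M
    obtain ⟨A, hA, hA3⟩ := rank3_SCN3 hp (Sylow_pgroup hP) (mFT_odd hG P)
      (by rw [p_rank_Sylow hP]; exact hF3.trans (p_rankS p (Fitting_sub M)))
    obtain ⟨-, h1, h2⟩ := SCN_Fitting_Uniqueness' hG hp hM hF hP hA hA3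
    refine ⟨A, h2, ?_, h1⟩
    rwa [centerOf, inf_eq_left.2 (abelian_le_cent (SCN_abelian hA)),
      ← rank_pgroup ((Sylow_pgroup hP).to_le (SCN_normal hA).le)]
  · obtain ⟨A, hA⟩ := p_rank_geP.1 hF3
    refine ⟨_, (non_pcore_Fitting_Uniqueness' hG hp hM hF (pnElem_sub hA) (pnElem_abelem hA)
      (p_rank_pnElem hA).ge).uniq, ?_, inf_le_left⟩
    exact le_p_rank_of_pnElem (pnElem_of_le hA (le_inf (le_inf (pnElem_sub hA)
      (abelian_le_cent (pnElem_abelian hA))) (centsC.1 inf_le_right)))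

/-- The two branches of B & G, Theorem 8.1 together. -/
theorem Fitting_Uniqueness (hG : Ctx G) {M : Subgroup G} (hM : Mx M)
    (hF3 : 3 ≤ rank (fittingOf M)) :
    ∃ B : Subgroup G, InUniqueMaximal B ∧ 3 ≤ rank (centerOf B) ∧ B ≤ fittingOf M := by
  obtain ⟨p, hp, h⟩ := rank_witness (fittingOf M)
  have := Fact.mk hp
  obtain ⟨B, h1, h2, h3⟩ := Fitting_Uniqueness_prime hG hp hM (h ▸ hF3)
  exact ⟨B, h1, h2.trans (p_rank_le_rank p _), h3⟩

/-- The form of B & G, Theorem 8.1 used in section 9. -/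
theorem Fitting_Uniqueness' (hG : Ctx G) {M : Subgroup G} (hM : Mx M)
    (hF3 : 3 ≤ rank (fittingOf M)) : InUniqueMaximal (fittingOf M) := by
  obtain ⟨B, h1, -, h3⟩ := Fitting_Uniqueness hG hM hF3
  exact uniq_mmaxS h3 (sub_mmax_proper hM (Fitting_sub M)) h1

end Cfsg.Lib.FT.PG
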