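import Cfsg.Agent.PG.BG8

/-!
Bender-Glauberman, section 9: the Uniqueness Theorem.
-/

set_option autoImplicit false
set_option linter.unusedSectionVars false

open Pointwise Cfsg Cfsg.Lib.Solv

namespace Cfsg.Lib.FT.PG

variable {G : Type*} [Group G] [Dl G] [Finite G]

/-- B & G, Theorem 9.1(b). -/
theorem noncyclic_normed_sub_Uniqueness (hG : Ctx G) {p : ℕ} (hp : p.Prime)
    {M B : Subgroup G} (hM : Mx M) (hBM : B ≤ M) (hB : IsElementaryAbelian p B)
    (hnc : ¬ IsCyclic B)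
    (h : ∀ K : Subgroup G, IsPiSubgroup {p}ᶜ K → B ≤ 𝐍 K → K ≤ M) : InUniqueMaximal B := by
  have := Fact.mk hp
  have hd := dl_of_noncyclic hG hp hB hnc (hM.sub hBM)
  have hB1 : B ≠ ⊥ := by
    rintro rfl
    exact hnc inferInstance
  have hN : ∀ P : Subgroup G, IsSylowOf p P M → B ≤ P → 𝐍 P ≤ M := by
    intro P hP hBP
    by_cases h1 : piCoreOf {p}ᶜ M = ⊥
    · exact mmax_norm_center_Puig hG hM hP (subG1_contra hBP hB1) h1 ▸ norm_center_Puig P
    rw [← mmax_normal hG hM (pcore_normal _ M) h1]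
    intro x hx
    have h2 : P ≤ 𝐍 (x •ᶜ piCoreOf {p}ᶜ M) := by
      rw [normJ, ← normP.1 hx, conjSg]
      exact (pHall_sub hP).trans (pcore_normal _ M).norm
    have h3 : IsPiSubgroup {p}ᶜ (x •ᶜ piCoreOf {p}ᶜ M) := (pgroupJ x).2 (pcore_pgroup _ _)
    exact normP.2 (eq_of_le_of_card_le (Sylow_norm_sub_p'core (mFT_odd hG M) (mmax_sol hG hM) hP
      (h _ h3 (hBP.trans h2)) h3 h2) (card_conj_smul _ _).ge)
  by_contra hcon
  obtain ⟨H, R, hH, hHM, hBR, hR, hNR⟩ :=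
    exists_mmax_max_Sylow_inf hG hM hBM (abelem_pgroup hB) hB1 hN hcon
  have hRH := pHall_sub hR
  have hp'M : piCoreOf {p}ᶜ H ⊔ R ≤ M := sup_le
    (h _ (pcore_pgroup _ _) ((hBR.trans hRH).trans (pcore_normal _ H).norm)) ((normG R).trans hNR)
  have hF := Fitting_le_p'core_sup_Sylow hR
  apply hHM
  by_cases hr : 3 ≤ rank (fittingOf H)
  · exact uniq_mmax_eq (Fitting_Uniqueness' hG hH hr) hM (hF.trans hp'M) hH (Fitting_sub H)
  have hn : piCoreOf {p}ᶜ H ⊔ R ⊲ H := sub_der1_normal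
    ((rank2_der1_sub_Fitting (mFT_odd hG H) (mmax_sol hG hH) (by omega)).trans hF)
    (sup_le (pcore_sub _ _) hRH)
  refine eq_mmax hH hM ?_
  rw [← Frattini_arg hn (pHall_subl le_sup_right hn.le hR)]
  exact sup_le hp'M (inf_le_right.trans hNR)

/-- B & G, Theorem 9.1(a). -/
theorem noncyclic_cent1_sub_Uniqueness (hG : Ctx G) {p : ℕ} (hp : p.Prime)
    {M B : Subgroup G} (hM : Mx M) (hBM : B ≤ M) (hB : IsElementaryAbelian p B)
    (hnc : ¬ IsCyclic B) (h : ∀ b ∈ B, b ≠ 1 → 𝐂₁ b ≤ M) : InUniqueMaximal B := by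
  have := Fact.mk hp
  refine noncyclic_normed_sub_Uniqueness hG hp hM hBM hB hnc fun K hK hBK => ?_
  exact coprime_abelian_gen_cent1 (abelem_abelian hB) hnc hBK
    (p'nat_coprime hK (pgroup_iff.2 (abelem_pgroup hB))) fun b hb hb1 =>
      inf_le_right.trans (h b hb hb1)

/-- B & G, Corollary 9.2. -/
theorem cent_uniq_Uniqueness (hG : Ctx G) {K L : Subgroup G}
    (hL : InUniqueMaximal L) (hK : K ≤ 𝐂 L) (hK2 : 2 ≤ rank K) (hd : DG K := by dlt) :
    InUniqueMaximal K := by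
  have hL1 := uniq_mmax_neq1 hG hL
  obtain ⟨H, hH⟩ := uniq_mmaxP.1 hL
  obtain ⟨p, hp, B, hB⟩ := rank_geP.1 hK2
  have := Fact.mk hp
  have hC : ∀ b ∈ B, b ≠ 1 → 𝐂₁ b ≤ H := fun b hb hb1 =>
    sub_uniq_mmax hH (le_cent1_iff.2 (hK (pnElem_sub hB hb))) (mFT_cent1_proper hG hb1)
  have hBH : B ≤ H := fun b hb => by
    by_cases hb1 : b = 1
    · exact hb1 ▸ H.one_mem
    · exact hC b hb hb1 (cent1id b)
  exact uniq_mmaxS (pnElem_sub hB) (hd.loc hG)
    (noncyclic_cent1_sub_Uniqueness hG hp hH.mmax hBH (pnElem_abelem hB)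
      (pnElem_not_cyclic hB le_rfl) hC)

/-- B & G, Corollary 9.3. -/
theorem any_cent_rank3_Uniquness (hG : Ctx G) {p : ℕ} (hp : p.Prime)
    {A B : Subgroup G} (hAc : IsMulCommutative A) (hAp : IsPiSubgroup {p} A) (hA3 : 3 ≤ rank A)
    (hAU : InUniqueMaximal A) (hBp : IsPiSubgroup {p} B) (hBnc : ¬ IsCyclic B)
    (hB3 : 3 ≤ pRank p (𝐂 B)) : InUniqueMaximal B := by
  have := Fact.mk hp
  have hd : p ∈ dl G := dl_of_pRank hG hp
    (by rw [← rank_pgroup (pgroup_iff.1 hAp)]; omega) (uniq_mmax_proper hAU)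
  obtain ⟨C, hC⟩ := p_rank_geP.1 hB3
  obtain ⟨P, hP, hCP⟩ := Sylow_superset le_top (pnElem_pgroup hC)
  obtain ⟨g, -, hAP⟩ := Sylow_Jsub hP le_top (pgroup_iff.1 hAp)
  rw [← uniq_mmaxJ g] at hAU
  rw [← abelianJ g] at hAc
  rw [← rankJ g, rank_pgroup ((Sylow_pgroup hP).to_le hAP)] at hA3
  obtain ⟨E, hE⟩ := p_rank_geP.1 hA3
  obtain ⟨D, hDP, hD⟩ := ex_odd_normal_p2Elem hp (Sylow_pgroup hP) ((dg_of_sylow hP hd).odd hG)
    fun h => pnElem_not_cyclic hC (by norm_num) (cyclicS hCP h)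
  have h1 : InUniqueMaximal (E ⊓ 𝐂 D) := cent_uniq_Uniqueness hG hAU
    ((inf_le_left.trans (pnElem_sub hE)).trans (abelian_le_cent hAc))
    (rank2_cent_p2Elem hE hD (((pnElem_sub hE).trans hAP).trans hDP.norm))
  have h2 : InUniqueMaximal D :=
    cent_uniq_Uniqueness hG h1 (centsC.1 inf_le_right) (rank_pnElem hD).ge
  have h3 : InUniqueMaximal (C ⊓ 𝐂 D) :=
    cent_uniq_Uniqueness hG h2 inf_le_right (rank2_cent_p2Elem hC hD (hCP.trans hDP.norm))
  have h4 : InUniqueMaximal C := cent_uniq_Uniqueness hG h3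
    ((abelian_le_cent (pnElem_abelian hC)).trans (centS inf_le_left))
    (by rw [rank_pnElem hC]; norm_num)
  refine cent_uniq_Uniqueness hG h4 (centsC.1 (pnElem_sub hC)) ?_
  rw [odd_pgroup_rank1_cyclic (pgroup_iff.1 hBp) ((dg_of_pi hBp hd).odd hG)] at hBnc
  rw [rank_pgroup (pgroup_iff.1 hBp)]
  omega

theorem bg9_p3Elem_Uniqueness (hG : Ctx G) {p : ℕ} (hp : p.Prime)
    {A B H : Subgroup G} (hAc : IsMulCommutative A) (hAp : IsPiSubgroup {p} A) (hA3 : 3 ≤ rank A)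
    (hAU : InUniqueMaximal A) (hB : B ∈ Elem p 3 H) : InUniqueMaximal B :=
  have := Fact.mk hp
  any_cent_rank3_Uniquness hG hp hAc hAp hA3 hAU (pgroup_iff.2 (pnElem_pgroup hB))
    (pnElem_not_cyclic hB (by norm_num))
    (le_p_rank_of_pnElem (pnElem_of_le hB (abelian_le_cent (pnElem_abelian hB))))

/-- B & G, Lemma 9.4. -/
theorem any_rank3_Fitting_Uniqueness (hG : Ctx G) {p : ℕ} (hp : p.Prime)
    {M P : Subgroup G} (hM : Mx M) (hF : 3 ≤ pRank p (fittingOf M))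
    (hP : IsPiSubgroup {p} P) (hP3 : 3 ≤ rank P) : InUniqueMaximal P := by
  have := Fact.mk hp
  have hd : p ∈ dl G := dl_of_pRank hG hp (le_trans (by norm_num) hF) (hM.sub (Fitting_sub M))
  rw [rank_pgroup (pgroup_iff.1 hP)] at hP3
  obtain ⟨B, hB⟩ := p_rank_geP.1 hP3
  obtain ⟨B₀, h1, h2, -⟩ := Fitting_Uniqueness_prime hG hp hM hF
  obtain ⟨E, hE⟩ := p_rank_geP.1 h2
  exact uniq_mmaxS (pnElem_sub hB) (mFT_pgroup_proper hG (pgroup_iff.1 hP))
    (bg9_p3Elem_Uniqueness hG hp (pnElem_abelian hE) (pgroup_iff.2 (pnElem_pgroup hE))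
      (rank_pnElem hE).ge (cent_uniq_Uniqueness hG h1 ((pnElem_sub hE).trans inf_le_right)
        (by rw [rank_pnElem hE]; norm_num)) hB)

theorem pcore_uniqMax_of_rank3_Fitting (hG : Ctx G) {q : ℕ} (hq : q.Prime)
    {M : Subgroup G} (hM : Mx M) (hF : 3 ≤ pRank q (fittingOf M)) :
    UniqMax (piCoreOf {q} M) M := by
  have := Fact.mk hq
  refine def_uniq_mmax (any_rank3_Fitting_Uniqueness hG hq hM hF (pcore_pgroup _ _) ?_) hM
    (pcore_sub _ _)
  rwa [← p_core_Fitting, rank_Sylow (nilpotent_pcore_Hall {q} (Fitting_nil M))]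

/-- B & G, Lemma 9.5. -/
theorem SCN_3_Uniqueness (hG : Ctx G) {p : ℕ} (hp : p.Prime) {A : Subgroup G}
    (hA : SCNAt 3 p A) (hd : p ∈ dl G := by dlt) : InUniqueMaximal A := by
  have := Fact.mk hp
  have hA' := hA
  obtain ⟨P, hP, hA, hA3⟩ := hA
  by_contra hU
  have hPp := Sylow_pgroup hP
  have hAP : A ≤ P := (SCN_normal hA).le
  have hAp := hPp.to_le hAP
  have hAc := SCN_abelian hA
  have hA1 : A ≠ ⊥ := rank_gt0.1 (by omega)
  have hcstr := SCN_normed_constrained hG hp hP hA (by omega)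
  have hπ := piOf_card_of_pgroup hAp hA1
  have hF2 : ∀ M : Subgroup G, Mx M → ¬ 3 ≤ pRank p (fittingOf M) := fun M hM h =>
    hU (any_rank3_Fitting_Uniqueness hG hp hM h (pgroup_iff.2 hAp) hA3)
  have hNP : ∀ M : Subgroup G, Mx M → 𝐂 A ≤ M → 𝐍 P ≤ M := by
    intro M hM hCM
    have hAM : A ≤ M := (abelian_le_cent hAc).trans hCM
    obtain ⟨q, hq, hqp, hNQ⟩ : ∃ q : ℕ, q.Prime ∧ q ≠ p ∧
        ∀ Q : Subgroup G, IsPiSubgroup {q} Q → piCoreOf {q} M ≤ Q → 𝐍 Q ≤ M := by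
      by_cases hr : 3 ≤ rank (fittingOf M)
      · obtain ⟨q, hq, e⟩ := rank_witness (fittingOf M)
        have := Fact.mk hq
        rw [e] at hr
        refine ⟨q, hq, fun e => hF2 M hM (e ▸ hr), fun Q hQ hMQ => ?_⟩
        have hqd : q ∈ dl G :=
          dl_of_pRank hG hq (le_trans (by norm_num) hr) (hM.sub (Fitting_sub M))
        have h1 := pcore_uniqMax_of_rank3_Fitting hG hq hM hr
        exact sub_uniq_mmax h1 (hMQ.trans (normG Q))
          (mFT_norm_pgroup_proper hG (pgroup_iff.1 hQ) (subG1_contra hMQ (h1.ne_bot hG)))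
      · obtain ⟨q, hq, hqM, hmax⟩ := exists_max_prime_dvd (cardG_gt1.2 (mmax_neq1 hG hM))
        have := Fact.mk hq
        have h1 := rank2_max_pcore_Sylow (mFT_odd hG M) (mmax_sol hG hM) (by omega) hmax
        have h2 := mmax_normal hG hM (pcore_normal _ M) (Sylow_ne_bot h1 hqM)
        refine ⟨q, hq, ?_, fun Q hQ hMQ => ?_⟩
        · rintro rfl
          exact hr (hA3.trans (rankS (((sub_Hall_pcore h1 hAM).2 (pgroup_iff.2 hAp)).trans
            (pcore_sub_Fitting q M))))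
        · rw [sub_pHall (Sylow_top_of_norm_le h1 h2.le) hQ hMQ le_top, h2]
    have hqA : ¬ q ∣ Nat.card A := fun h => hqp (eq_of_pgroup_of_dvd hAp hq h)
    have hNR : ∀ R : Subgroup G, A ≤ R → R ≤ P → R ≤ M → 𝐍 R ≤ M := by
      intro R hAR hRP hRM
      obtain ⟨Q, hQ, hMQ⟩ := max_normed_exists (pcore_pgroup {q} M)
        (hRM.trans (pcore_normal _ M).norm)
      have h1 := normed_trans_superset hG hcstr hq hqA
        (SubnormalIn.of_le_normalizer hAR (hRP.trans (SCN_normal hA).norm))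
        (hπ ▸ pgroup_iff.2 (hPp.to_le hRP)) (hπ ▸ Thompson_transitivity hG hp hq hqp hA')
      rw [(h1.2.2.2 Q hQ).2]
      exact sup_le ((inf_le_left.trans (pcore_sub _ _)).trans hCM)
        (inf_le_right.trans (hNQ Q (mem_max_normed hQ).1 hMQ))
    have h1 : P ⊓ M = P := nilpotent_sub_norm (pgroup_nil hPp) inf_le_left
      (inf_le_inf_left _ (hNR _ (le_inf hAP hAM) inf_le_left inf_le_right))
    exact hNR P hAP le_rfl (inf_eq_left.1 h1)
  have hP₀1 : ⁅P, 𝐍 P⁆ ≠ ⊥ := by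
    intro h
    have h1 := Burnside_normal_complement hp hP (inf_le_right.trans (centsC.1 (commG1P.1 h)))
    refine mFT_no_normal_p_compl hG (p := p) ?_ (h1.compl_p'Hall.2 hP)
    exact (pgroup_dvd_card hAp hA1).trans (Subgroup.card_subgroup_dvd_card A)
  have hP₀P : ⁅P, 𝐍 P⁆ ≤ P := commg_subl.2 le_rfl
  have hP₀p := hPp.to_le hP₀P
  have hΩA := Ohm_sub p A
  have hΩ := Ohm1_abelem (p := p) hAc
  have hΩ3 : p ^ 3 ≤ Nat.card (omegaOne p A) := by
    rw [card_Ohm1_abelian hAc, ← rank_pgroup hAp]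
    exact Nat.pow_le_pow_right hp.pos hA3
  have hx : ∀ M : Subgroup G, Mx M → 𝐂 A ≤ M → ∀ B : Subgroup G, B ≤ omegaOne p A →
      ¬ IsCyclic B → ∃ L : Subgroup G, Mx L ∧ L ≠ M ∧ 𝐂 A ≤ L ∧ 𝐂 B ≤ L := by
    intro M hM hCM B hB hnc
    by_contra hcon
    push Not at hcon
    refine hU (uniq_mmaxS (hB.trans hΩA) (mFT_pgroup_proper hG hAp)
      (noncyclic_cent1_sub_Uniqueness hG hp hM
        (((hB.trans hΩA).trans (abelian_le_cent hAc)).trans hCM) (abelemS hB hΩ) hnc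
        fun b hb hb1 => ?_))
    obtain ⟨L, hL, hbL⟩ := mmax_exists_cent1 hG hb1 ((dg_of_pgroup hAp hd).mem (hΩA (hB hb)))
    by_contra h
    exact hcon L hL (fun e => h (e ▸ hbL)) ((cent_le_cent1 (hΩA (hB hb))).trans hbL)
      ((cent_le_cent1 hb).trans hbL)
  have hU₀ : ∀ M : Subgroup G, Mx M → 𝐂 A ≤ M → UniqMax (𝐍 ⁅P, 𝐍 P⁆) M := by
    intro M hM hCM
    have hAM : A ≤ M := (abelian_le_cent hAc).trans hCM
    set D := piCoreOf {p}ᶜ (fittingOf M) with hD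
    have hDM : D ⊲ M := pcore_normal_trans _ (Fitting_normal M)
    have hDp : IsPiSubgroup {p}ᶜ D := pcore_pgroup _ _
    have hcD : D ≤ 𝐂 ⁅P, 𝐍 P⁆ := by
      refine coprime_abelian_gen_cent (abelem_abelian hΩ) ((hΩA.trans hAM).trans hDM.norm)
        (p'nat_coprime hDp (pgroup_iff.2 (abelem_pgroup hΩ))) fun B hB ⟨a, ha, hBa⟩ => ?_
      obtain ⟨L, hL, hLM, hCL, hBL⟩ := hx M hM hCM B hB (bg7_not_cyclic_of_rank3 hΩ hΩ3 hB ha hBa)
      refine (inf_le_inf_left _ hBL).trans ?_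
      have h1 : ⁅P, 𝐍 P⁆ ≤ ⁅L ⊓ M, L ⊓ M⁆ :=
        (commgSS (normG P) le_rfl).trans (dergS (le_inf (hNP L hL hCL) (hNP M hM hCM)))
      have h2 : rank (D ⊓ L) ≤ 2 := by
        by_contra h
        obtain ⟨q, hq, E, hE⟩ := rank_geP.1 (show 3 ≤ rank (D ⊓ L) by omega)
        have := Fact.mk hq
        have hEF : E ≤ fittingOf M := ((pnElem_sub hE).trans inf_le_left).trans (pcore_sub _ _)
        exact hLM (uniq_mmax_eq (any_rank3_Fitting_Uniqueness hG hq hM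
          (le_p_rank_of_pnElem (pnElem_of_le hE hEF)) (pgroup_iff.2 (pnElem_pgroup hE))
          (rank_pnElem hE).ge) hM (hEF.trans (Fitting_sub M)) hL
          ((pnElem_sub hE).trans inf_le_right))
      refine nil_le_of_forall_pcore_le
        (nilpotentS (inf_le_left.trans (pcore_sub _ _)) (Fitting_nil M)) fun r hr hd => ?_
      have := Fact.mk hr
      have hrp : r ≠ p := hDp r hr (hd.trans (cardSg inf_le_left))
      rw [centsC]
      exact der1_p'group_cent_rank2 hr (pcore_isPGroup r _) (mFT_odd hG _)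
        ((rankS (pcore_sub _ _)).trans h2)
        (norms_pcore _ (normsI (inf_le_right.trans hDM.norm) (normsG inf_le_left))) (mFT_odd hG _)
        h1 ((p'group_iff_coprime hr).1 (pgroup_p'group_of_ne hP₀p hrp.symm))
    by_cases hr : 3 ≤ rank (fittingOf M)
    · obtain ⟨q, hq, e⟩ := rank_witness (fittingOf M)
      have := Fact.mk hq
      rw [e] at hr
      refine def_uniq_mmaxS (cents_norm (le_trans ?_ hcD)) (mFT_norm_pgroup_proper hG hP₀p hP₀1)
        (pcore_uniqMax_of_rank3_Fitting hG hq hM hr)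
      rw [← p_core_Fitting]
      refine sub_pcore ?_ _
      rintro _ rfl e
      exact hF2 M hM ((show _ = p from e) ▸ hr)
    · have hNM := hNP M hM hCM
      have hPM := (normG P).trans hNM
      have hPM' : IsSylowOf p P M := pHall_subl hPM le_top hP
      refine uniqMax_of_norm_eq hM (mmax_normal hG hM ⟨hP₀P.trans hPM, ?_⟩ hP₀1)
      have h1 : fittingOf M ≤ D ⊔ P := by
        rw [← (nilpotent_pcoreC {p} (Fitting_nil M)).sup, sup_comm, p_core_Fitting]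
        exact sup_le_sup_left (pcore_sub_Hall hPM') _
      have hn : D ⊔ P ⊲ M := sub_der1_normal
        ((rank2_der1_sub_Fitting (mFT_odd hG M) (mmax_sol hG hM) (by omega)).trans h1)
        (sup_le hDM.le hPM)
      rw [← Frattini_arg hn (pHall_subl le_sup_right hn.le hPM')]
      exact sup_le (sup_le (cents_norm hcD) (commg_norml _ _))
        (inf_le_right.trans (commg_normr _ _))
  obtain ⟨M, hM, hCM⟩ := mmax_exists_cent hG hA1
  obtain ⟨E, hE⟩ := abelem_pnElem hΩ hΩ3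
  obtain ⟨L, hL, hLM, hCL, -⟩ := hx M hM hCM E (pnElem_sub hE) (pnElem_not_cyclic hE (by norm_num))
  exact hLM ((hU₀ M hM hCM).unique (hU₀ L hL hCL))

/-- B & G, Theorem 9.6, first assertion. -/
theorem rank3_Uniqueness (hG : Ctx G) {K : Subgroup G} (hK : Loc K)
    (hK3 : 3 ≤ rank K) : InUniqueMaximal K := by
  obtain ⟨p, hp, B, hB⟩ := rank_geP.1 hK3
  have := Fact.mk hp
  have hd : p ∈ dl G := dl_of_elem hG hp (n := 1) hB hK
  obtain ⟨P, hP, hBP⟩ := Sylow_superset le_top (pnElem_pgroup hB)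
  obtain ⟨A, hA, hA3⟩ := rank3_SCN3 hp (Sylow_pgroup hP) ((dg_of_sylow hP hd).odd hG)
    (le_p_rank_of_pnElem (pnElem_of_le hB hBP))
  exact uniq_mmaxS (pnElem_sub hB) hK (bg9_p3Elem_Uniqueness hG hp (SCN_abelian hA)
    (pgroupS (SCN_normal hA).le (pHall_pgroup hP)) hA3 (SCN_3_Uniqueness hG hp ⟨P, hP, hA, hA3⟩) hB)

/-- B & G, Theorem 9.6, second assertion. -/
theorem cent_rank3_Uniqueness (hG : Ctx G) {K : Subgroup G} (hK2 : 2 ≤ rank K)
    (hK3 : 3 ≤ rank (𝐂 K)) (hd : DG K := by dlt) : InUniqueMaximal K :=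
  cent_uniq_Uniqueness hG
    (rank3_Uniqueness hG (mFT_cent_proper hG (rank_gt0.1 (by omega))) hK3) (centsC.1 le_rfl) hK2

/-- B & G, Theorem 9.6, final observation. -/
theorem nonmaxElem2_Uniqueness (hG : Ctx G) {p : ℕ} (hp : p.Prime)
    {A : Subgroup G} (hA : A ∈ Elem p 2 (⊤ : Subgroup G)) (hA' : A ∉ MaxElem p (⊤ : Subgroup G))
    (hd : p ∈ dl G := by dlt) : InUniqueMaximal A := by
  have := Fact.mk hp
  refine cent_rank3_Uniqueness hG (rank_pnElem hA).ge ?_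
  have h := lt_p_rank_cent_of_not_pmaxElem hA hA'
  rw [top_inf_eq] at h
  exact le_trans h (p_rank_le_rank p _)

end Cfsg.Lib.FT.PG
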