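import Cfsg.Agent.PG.Defs
import Cfsg.Agent.FT.BG1.Coprime
import Cfsg.Agent.FT.Frob
import Cfsg.Agent.FT.TI
import Cfsg.Agent.Solv.TwoFrob
import Mathlib.GroupTheory.FixedPointFree

/-!
Unions of components of the prime graph, isolated subgroups, and involutions normalising a
`Δ`-subgroup.
-/

set_option autoImplicit false
set_option linter.unusedSectionVars false

open Pointwise Cfsg Cfsg.Lib.Solv Cfsg.Lib.FT

namespace Cfsg.Lib.PG

variable {G : Type*} [Group G] {Δ Γ : Set ℕ} {H K B N : Subgroup G} {x y t : G} {p q r : ℕ}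

/-- adjacency in the prime graph -/
def Adj (G : Type*) [Group G] (p q : ℕ) : Prop :=
  p.Prime ∧ q.Prime ∧ p ≠ q ∧ ∃ x y : G, orderOf x = p ∧ orderOf y = q ∧ Commute x y

theorem Adj.symm (h : Adj G p q) : Adj G q p :=
  let ⟨h1, h2, h3, x, y, h4, h5, h6⟩ := h
  ⟨h2, h1, h3.symm, y, x, h5, h4, h6.symm⟩

theorem ne_one_of_prime_order (h : (orderOf x).Prime) : x ≠ 1 := fun e => by
  rw [e, orderOf_one] at h
  exact Nat.not_prime_one h

theorem Sep.elt (h : Sep G Δ) (hx1 : x ≠ 1) (hx : PiElt Δ x) (hc : y ∈ 𝐂₁ x) : PiElt Δ y :=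
  mem_p_elt (h x hx1 hx) hc

theorem Sep.adj (h : Sep G Δ) (hp : p ∈ Δ) (ha : Adj G p q) : q ∈ Δ := by
  obtain ⟨h1, h2, -, x, y, rfl, rfl, hc⟩ := ha
  exact h.elt (ne_one_of_prime_order h1) ((p_elt_prime rfl h1).2 hp) (mem_cent1.2 hc.symm) _ h2
    dvd_rfl

theorem Sep.fpf (h : Sep G Δ) (hH : IsPiSubgroup Δ H) (hx : ¬ PiElt Δ x) : H ⊓ 𝐂₁ x = ⊥ := by
  by_contra e
  obtain ⟨y, hy, hy1⟩ := trivgPn.1 e
  exact hx (h.elt hy1 (mem_p_elt hH hy.1) (cent1C.1 hy.2))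

theorem Sep.inter (h : Sep G Δ) (h' : Sep G Γ) : Sep G (Δ ∩ Γ) := fun x h1 hx =>
  pgroupI (h x h1 (sub_p_elt Set.inter_subset_left hx))
    (h' x h1 (sub_p_elt Set.inter_subset_right hx))

variable [Finite G]

theorem Sep.of_prime (h : ∀ x : G, (orderOf x).Prime → orderOf x ∈ Δ → IsPiSubgroup Δ (𝐂₁ x)) :
    Sep G Δ := fun x h1 hx => by
  obtain ⟨y, hy, hp⟩ := exists_prime_order_pow h1
  exact pgroupS (cent1_le_cent1_of_mem_zpowers hy)
    (h y hp (p_elt_of_mem_zpowers hx hy _ hp dvd_rfl))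

theorem Sep.of_adj (h : ∀ p q : ℕ, p ∈ Δ → Adj G p q → q ∈ Δ) : Sep G Δ := by
  refine Sep.of_prime fun x hp hx q hq hd => ?_
  obtain ⟨y, hy, rfl⟩ := Cauchy hq hd
  by_cases e : orderOf x = orderOf y
  · exact e ▸ hx
  · exact h _ _ hx ⟨hp, hq, e, x, y, rfl, rfl, (mem_cent1_iff_commute.1 hy).symm⟩

theorem Sep.compl (h : Sep G Δ) : Sep G Δᶜ :=
  Sep.of_adj fun _ _ hp ha hq => hp (h.adj hq ha.symm)

theorem Sep.fpf' (h : Sep G Δ) (hH : IsPiSubgroup Δ H) (hx : PiElt Δᶜ x) (h1 : x ≠ 1) :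
    H ⊓ 𝐂₁ x = ⊥ := h.fpf hH fun e => h1 (p_elt_eq_one e hx)

theorem Sep.semiregular (h : Sep G Δ) (hH : IsPiSubgroup Δ H) (hK : IsPiSubgroup Δᶜ K) :
    Semiregular H K := fun _ hx h1 => h.fpf' hH (mem_p_elt hK hx) h1

theorem Sep.cent (h : Sep G Δ) (hH : IsPiSubgroup Δ H) (h1 : H ≠ ⊥) : IsPiSubgroup Δ (𝐂 H) := by
  obtain ⟨x, hx, hx1⟩ := trivgPn.1 h1
  exact pgroupS (cent_le_cent1 hx) (h x hx1 (mem_p_elt hH hx))

theorem Adj.of_injective {G' : Type*} [Group G'] {f : G' →* G} (hf : Function.Injective f)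
    (h : Adj G' p q) : Adj G p q :=
  let ⟨h1, h2, h3, x, y, h4, h5, h6⟩ := h
  ⟨h1, h2, h3, f x, f y, (orderOf_injective f hf x).trans h4, (orderOf_injective f hf y).trans h5,
    h6.map f⟩

theorem Sep.of_injective {G' : Type*} [Group G'] [Finite G'] (h : Sep G Δ) {f : G' →* G}
    (hf : Function.Injective f) : Sep G' Δ :=
  Sep.of_adj fun _ _ hp ha => h.adj hp (ha.of_injective hf)

theorem Sep.sub (h : Sep G Δ) (H : Subgroup G) : Sep H Δ := h.of_injective H.subtype_injective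

theorem Sep.psep (h : Sep G Δ) : TwoFrob.PSep Δ G := by
  rintro a ha b hb hap hbp ⟨g, hg⟩
  obtain ⟨i, hi⟩ := Perm.GK.exists_orderOf_eq_of_dvd (x := g) (n := a) (hg ▸ Dvd.intro b rfl)
  obtain ⟨j, hj⟩ := Perm.GK.exists_orderOf_eq_of_dvd (x := g) (n := b) (hg ▸ Dvd.intro_left a rfl)
  exact hb (h.adj ha ⟨hap, hbp, fun e => hb (e ▸ ha), _, _, hi, hj, Commute.pow_pow_self g i j⟩)

theorem Sep.of_psep (h : TwoFrob.PSep Δ G) : Sep G Δ := by
  refine Sep.of_adj fun p q hp ⟨h1, h2, h3, x, y, h4, h5, h6⟩ => ?_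
  by_contra hq
  exact h p hp q hq h1 h2
    (Perm.GK.exists_orderOf_mul_of_commute h1 h2 h3 (h4 ▸ dvd_rfl) (h5 ▸ dvd_rfl) h6)

/-! ### components -/

/-- the component of `r` in the prime graph -/
def comp (G : Type*) [Group G] (r : ℕ) : Set ℕ := {p | Relation.ReflTransGen (Adj G) r p}

omit [Finite G] in
theorem mem_comp_self (r : ℕ) : r ∈ comp G r := Relation.ReflTransGen.refl

omit [Finite G] in
theorem Sep.comp_sub (h : Sep G Δ) (hr : r ∈ Δ) : comp G r ⊆ Δ := fun p hp => by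
  induction hp with
  | refl => exact hr
  | tail _ h2 ih => exact h.adj ih h2

theorem sep_comp (r : ℕ) : Sep G (comp G r) :=
  Sep.of_adj fun _ _ hp ha => Relation.ReflTransGen.tail hp ha

omit [Finite G] in
theorem mem_comp_symm (h : p ∈ comp G r) : r ∈ comp G p := by
  induction h with
  | refl => exact mem_comp_self r
  | tail _ h2 ih => exact Relation.ReflTransGen.head h2.symm ih

theorem comp_Comp (hr : r.Prime) (hd : r ∣ Nat.card G) (h2 : 2 ∉ comp G r) :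
    Comp G (comp G r) where
  two := h2
  sub p hp := by
    rcases Relation.ReflTransGen.cases_tail hp with rfl | ⟨q, -, -, h1, -, x, y, -, rfl, -⟩
    · exact ⟨hr, hd⟩
    · exact ⟨h1, orderOf_dvd_natCard y⟩
  ne := ⟨r, mem_comp_self r⟩
  sep := sep_comp r
  conn _ h1 := fun ⟨_, hp⟩ h3 =>
    h1.antisymm (h3.comp_sub (h3.comp_sub hp (mem_comp_symm (h1 hp))))

theorem Sep.exists_comp (h : Sep G Δ) (h2 : 2 ∉ Δ) (hr : r.Prime) (hd : r ∣ Nat.card G)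
    (hΔ : r ∈ Δ) : ∃ Γ ⊆ Δ, r ∈ Γ ∧ Comp G Γ :=
  ⟨_, h.comp_sub hΔ, mem_comp_self r, comp_Comp hr hd fun e => h2 (h.comp_sub hΔ e)⟩

/-! ### quotients by `Δ'`-subgroups -/

/-- elements of prime order lift to `p`-elements -/
theorem exists_lift {Q : Type*} [Group Q] {f : G →* Q} (hf : Function.Surjective f) {z : Q}
    (hz : PiElt Δ z) : ∃ x : G, PiElt Δ x ∧ f x = z := by
  obtain ⟨g, rfl⟩ := hf z
  refine ⟨constt Δ g, p_elt_constt Δ g, ?_⟩
  have h1 : f (constt Δᶜ g) = 1 := by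
    refine p_elt_eq_one (π := Δ) ?_ fun r hr hd =>
      p_elt_constt Δᶜ g r hr (hd.trans (orderOf_map_dvd f _))
    obtain ⟨k, hk⟩ := cycle_constt Δᶜ g
    exact p_elt_of_mem_zpowers hz ⟨k, by simp only [← hk, map_zpow]⟩
  conv_rhs => rw [← consttC Δ g, map_mul, h1, mul_one]

theorem exists_lift_cent {Q : Type*} [Group Q] {f : G →* Q} (hf : Function.Surjective f)
    (hk : IsPiSubgroup Δᶜ f.ker) (hx : PiElt Δ x) {w : Q} (hw : w ∈ 𝐂₁ (f x)) :
    ∃ y ∈ 𝐂₁ x, f y = w := by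
  have h := coprime_map_cent f (A := Subgroup.zpowers x) (H := ⊤) (normsT _)
    (by rw [top_inf_eq]; exact p'nat_coprime hk (pgroup_zpowers.2 hx))
    (Or.inl (abelian_sol (abelian_zpowers x)))
  rw [top_inf_eq, Subgroup.map_top_of_surjective f hf, top_inf_eq, MonoidHom.map_zpowers,
    cent_zpowers, cent_zpowers] at h
  rw [← h] at hw
  exact hw

theorem Adj.lift {Q : Type*} [Group Q] {f : G →* Q} (hf : Function.Surjective f)
    (hk : IsPiSubgroup Δᶜ f.ker) (hp : p ∈ Δ) (h : Adj Q p q) : Adj G p q := by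
  obtain ⟨h1, h2, h3, z, w, rfl, rfl, hc⟩ := h
  obtain ⟨x, hx, rfl⟩ := exists_lift hf ((p_elt_prime (π := {orderOf z}) rfl h1).2 rfl)
  obtain ⟨y, hy, rfl⟩ := exists_lift_cent hf hk (sub_p_elt (Set.singleton_subset_iff.2 hp) hx)
    (mem_cent1.2 hc.symm)
  obtain ⟨i, hi⟩ := Perm.GK.exists_orderOf_eq_of_dvd (orderOf_map_dvd f x)
  obtain ⟨j, hj⟩ := Perm.GK.exists_orderOf_eq_of_dvd (orderOf_map_dvd f y)
  exact ⟨h1, h2, h3, _, _, hi, hj, ((mem_cent1_iff_commute.1 hy).symm.pow_pow i j)⟩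

theorem Sep.quot {Q : Type*} [Group Q] [Finite Q] (h : Sep G Δ) {f : G →* Q}
    (hf : Function.Surjective f) (hk : IsPiSubgroup Δᶜ f.ker) : Sep Q Δ :=
  Sep.of_adj fun _ _ hp ha => h.adj hp (ha.lift hf hk hp)

/-- adjacency of primes not dividing the order of the kernel passes to the quotient -/
theorem Adj.map {Q : Type*} [Group Q] (f : G →* Q) (hp : ¬ p ∣ Nat.card f.ker)
    (hq : ¬ q ∣ Nat.card f.ker) (h : Adj G p q) : Adj Q p q := by
  obtain ⟨h1, h2, h3, x, y, rfl, rfl, hc⟩ := h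
  have key : ∀ x : G, (orderOf x).Prime → ¬ orderOf x ∣ Nat.card f.ker →
      orderOf (f x) = orderOf x := fun x hx hd =>
    ((Nat.dvd_prime hx).1 (orderOf_map_dvd f x)).resolve_left fun e =>
      hd (order_dvdG (H := f.ker) (orderOf_eq_one_iff.1 e))
  exact ⟨h1, h2, h3, f x, f y, key x h1 hp, key y h2 hq, hc.map f⟩

theorem Comp.quot {Q : Type*} [Group Q] [Finite Q] (h : Comp G Δ) {f : G →* Q}
    (hf : Function.Surjective f) (hk : IsPiSubgroup Δᶜ f.ker) : Comp Q Δ where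
  two := h.two
  sub p hp := by
    obtain ⟨h1, h2⟩ := h.sub p hp
    rw [← f.ker.card_mul_index, Subgroup.index_ker, MonoidHom.range_eq_top.2 hf,
      Subgroup.card_top] at h2
    exact ⟨h1, (h1.dvd_mul.1 h2).resolve_left fun e => hk p h1 e hp⟩
  ne := h.ne
  sep := h.sep.quot hf hk
  conn Γ h1 h2 h3 := h.conn Γ h1 h2 (Sep.of_adj fun p q hp ha =>
    h3.adj hp (ha.map f (fun e => hk p ha.1 e (h1 hp))
      fun e => hk q ha.2.1 e (h.sep.adj (h1 hp) ha)))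

/-! ### isolated subgroups -/

/-- `H` contains the centralisers of its non-identity elements -/
def Iso (H : Subgroup G) : Prop := ∀ x ∈ H, x ≠ 1 → 𝐂₁ x ≤ H

omit [Finite G] in
theorem Iso.conj (h : Iso H) (g : G) : Iso (g •ᶜ H) := by
  rintro _ ⟨x, hx, rfl⟩ h1
  have : (MulAut.conj g).toMonoidHom x = g * x * g⁻¹ := rfl
  change g * x * g⁻¹ ≠ 1 at h1
  change 𝐂₁ (g * x * g⁻¹) ≤ _
  rw [cent1J, conjSg]
  exact h x hx fun e => h1 (conjg_eq1.2 e)

theorem Iso.cent (h : Iso H) (hK : K ≤ H) (h1 : K ≠ ⊥) : 𝐂 K ≤ H := by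
  obtain ⟨x, hx, hx1⟩ := trivgPn.1 h1
  exact (cent_le_cent1 hx).trans (h x (hK hx) hx1)

/-- a nilpotent subgroup meeting an isolated subgroup lies in it -/
theorem Iso.nil_le (h : Iso H) (hK : Group.IsNilpotent K) (h1 : H ⊓ K ≠ ⊥) : K ≤ H := by
  have h2 : centerOf K ≠ ⊥ := by
    rw [Ne, center_nil_eq1 hK]
    exact subG1_contra inf_le_right h1
  have h3 : centerOf K ≤ H :=
    (inf_le_right.trans (centS inf_le_right)).trans (h.cent inf_le_left h1)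
  exact (centsC.1 inf_le_right).trans (h.cent h3 h2)

theorem Iso.hall (h : Iso H) : IsHallOf H ⊤ := by
  refine ⟨le_top, Nat.coprime_of_dvd fun p hp h1 h2 => ?_⟩
  have := Fact.mk hp
  obtain ⟨P, hP⟩ := Sylow_exists p H
  obtain ⟨S, hS, hPS⟩ := Sylow_superset (le_top : P ≤ ⊤) (Sylow_pgroup hP)
  have h3 : S ≤ H := h.nil_le (pgroup_nil (Sylow_pgroup hS))
    (subG1_contra (le_inf (pHall_sub hP) hPS) (Sylow_ne_bot hP h1))
  exact Sylow_index hS (h2.trans (Subgroup.relIndex_dvd_of_le_left ⊤ h3))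

/-- An element of prime order dividing the order of a Hall subgroup is conjugate into it. -/
theorem exists_conj_mem_of_hall (hall : IsHallOf H ⊤) (hp : (orderOf x).Prime)
    (hd : orderOf x ∣ Nat.card H) : ∃ g : G, g * x * g⁻¹ ∈ H := by
  have := Fact.mk hp
  obtain ⟨P, hP⟩ := Sylow_exists (orderOf x) H
  obtain ⟨g, -, hg⟩ := Sylow_Jsub (subHall_Sylow (Hall_pi hall) ⟨hp, hd⟩ hP)
    (Q := Subgroup.zpowers x) le_top (IsPGroup.of_card (by rw [Nat.card_zpowers, pow_one]))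
  exact ⟨g, pHall_sub hP (hg (conj_mem_conj_smul g (Subgroup.mem_zpowers x)))⟩

theorem cent1_pi_of_hall (hall : IsHallOf H ⊤) (h : ∀ y ∈ H, y ≠ 1 → IsPiSubgroup Δ (𝐂₁ y))
    (hp : (orderOf x).Prime) (hd : orderOf x ∣ Nat.card H) : IsPiSubgroup Δ (𝐂₁ x) := by
  obtain ⟨g, hg⟩ := exists_conj_mem_of_hall hall hp hd
  have := h _ hg fun e => ne_one_of_prime_order hp (conjg_eq1.1 e)
  rwa [cent1J, pgroupJ] at this

theorem Iso.sep (h : Iso H) : Sep G (piOf (Nat.card H)) :=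
  Sep.of_prime fun _ hp hd =>
    cent1_pi_of_hall h.hall (fun y hy h1 => pgroupS (h y hy h1) (pgroup_pi H)) hp hd.2

theorem Comp.eq_piOf (hΔ : Comp G Δ) (h : Iso H) (h1 : H ≠ ⊥) (hd : IsPiSubgroup Δ H) :
    piOf (Nat.card H) = Δ :=
  hΔ.conn _ (fun p hp => hd p hp.1 hp.2) (exists_prime_dvd_card h1) h.sep

theorem Comp.isol (hΔ : Comp G Δ) (h : Iso H) (h1 : H ≠ ⊥) (hd : IsPiSubgroup Δ H)
    (hn : Group.IsNilpotent H) : Isol Δ H :=
  ⟨hn, hΔ.eq_piOf h h1 hd ▸ Hall_pi h.hall, h⟩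

/-- a nilpotent isolated subgroup is a TI-subgroup -/
theorem Iso.ti (h : Iso H) (hn : Group.IsNilpotent H) (h1 : H ≠ ⊥) :
    NormedTI (sharp H) ⊤ (𝐍 H) := by
  refine NormedTI.of_inf_conj h1 le_top le_rfl fun g _ hg => ?_
  by_contra e
  exact hg (normP.2 (eq_of_le_of_card_le (h.nil_le ((nilpotentJ g).2 hn) e)
    (card_conj_smul g H).ge))

/-- every element with a nontrivial power in an isolated subgroup lies in it -/
theorem Isol.exists_conj_mem (h : Isol Δ H) (hx : PiElt Δ x) : ∃ g : G, g * x * g⁻¹ ∈ H := by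
  by_cases h1 : x = 1
  · exact ⟨1, by simp [h1]⟩
  obtain ⟨y, hy, hp⟩ := exists_prime_order_pow h1
  obtain ⟨g, hg⟩ := exists_conj_mem_of_hall (pHall_Hall h.hall) hp
    (mem_pi_of_Hall_dvd h.hall hp (p_elt_of_mem_zpowers hx hy _ hp dvd_rfl)
      (order_dvdG (Subgroup.mem_top y)))
  refine ⟨g, h.cent _ hg (fun e => ne_one_of_prime_order hp (conjg_eq1.1 e)) ?_⟩
  rw [cent1J]
  exact conj_mem_conj_smul g (cent1_le_cent1_of_mem_zpowers hy (cent1id x))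

/-! ### involutions normalising a `Δ`-subgroup -/

theorem inv_of_fpf (ht : t * t = 1) (hn : t ∈ 𝐍 K) (hf : K ⊓ 𝐂₁ t = ⊥) :
    IsMulCommutative K ∧ ∀ k ∈ K, t * k * t⁻¹ = k⁻¹ := by
  let φ : K ≃* K := K.normalizerMonoidHom ⟨t, hn⟩
  have hφ : ∀ k : K, (φ k : G) = t * k * t⁻¹ := fun _ => rfl
  have h1 : MonoidHom.FixedPointFree φ := fun k hk => by
    have h2 : (k : G) ∈ K ⊓ 𝐂₁ t := ⟨k.2, mem_cent1.2 (by
      have := congrArg Subtype.val hk
      rw [hφ, mul_inv_eq_iff_eq_mul] at this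
      exact this.symm)⟩
    rw [hf] at h2
    exact Subtype.ext h2
  have h2 : Function.Involutive φ := fun k => Subtype.ext (by
    rw [hφ, hφ, inv_eq_of_mul_eq_one_right ht]
    simp only [← mul_assoc, ht, one_mul]
    rw [mul_assoc, ht, mul_one])
  refine ⟨⟨⟨fun a b => h1.commute_all_of_involutive h2 a b⟩⟩, fun k hk => ?_⟩
  exact congrArg Subtype.val (congrFun (h1.coe_eq_inv_of_involutive h2) ⟨k, hk⟩)

theorem not_piElt_of_inv (h2 : 2 ∉ Δ) (ht : t * t = 1) (ht1 : t ≠ 1) : ¬ PiElt Δ t := fun h =>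
  h2 (h 2 Nat.prime_two (dvd_of_eq (orderOf_eq_prime (p := 2) (by rwa [sq]) ht1).symm))

/-- If an involution normalises a nontrivial `Δ`-subgroup, there is an abelian isolated
`Δ`-subgroup inverted by it. -/
theorem Sep.exists_iso (h : Sep G Δ) (h2 : 2 ∉ Δ) (ht : t * t = 1) (ht1 : t ≠ 1) (hB : B ≠ ⊥)
    (hd : IsPiSubgroup Δ B) (hn : t ∈ 𝐍 B) :
    ∃ K : Subgroup G, B ≤ K ∧ IsPiSubgroup Δ K ∧ IsMulCommutative K ∧
      (∀ x ∈ K, x ≠ 1 → 𝐂₁ x = K) ∧ ∀ k ∈ K, t * k * t⁻¹ = k⁻¹ := by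
  have key : ∀ K : Subgroup G, IsPiSubgroup Δ K → t ∈ 𝐍 K →
      IsMulCommutative K ∧ ∀ k ∈ K, t * k * t⁻¹ = k⁻¹ := fun K hK hn =>
    inv_of_fpf ht hn (h.fpf hK (not_piElt_of_inv h2 ht ht1))
  have key2 : ∀ x : G, x ≠ 1 → PiElt Δ x → t * x * t⁻¹ = x⁻¹ →
      IsMulCommutative (𝐂₁ x) ∧ ∀ k ∈ 𝐂₁ x, t * k * t⁻¹ = k⁻¹ := fun x h1 hx e =>
    key _ (h x h1 hx) (by rw [normP, ← cent1J, e, cent1_inv])
  obtain ⟨x, hx, hx1⟩ := trivgPn.1 hB
  obtain ⟨ab, inv⟩ := key B hd hn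
  have hxd := mem_p_elt hd hx
  obtain ⟨ab', inv'⟩ := key2 x hx1 hxd (inv x hx)
  refine ⟨𝐂₁ x, (abelian_le_cent ab).trans (cent_le_cent1 hx), h x hx1 hxd, ab',
    fun y hy hy1 => le_antisymm ?_ ((abelian_le_cent ab').trans (cent_le_cent1 hy)), inv'⟩
  exact (abelian_le_cent (key2 y hy1 (h.elt hx1 hxd hy) (inv' y hy)).1).trans
    (cent_le_cent1 (cent1C.1 hy))

theorem exists_involution (h : 2 ∣ Nat.card H) : ∃ t ∈ H, t * t = 1 ∧ t ≠ 1 := by
  obtain ⟨t, ht, ho⟩ := Cauchy Nat.prime_two h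
  exact ⟨t, ht, by rw [← sq, ← ho, pow_orderOf_eq_one],
    ne_one_of_prime_order (ho ▸ Nat.prime_two)⟩

/-! ### the exceptional configuration -/

namespace Side

variable {P U W₁ W₂ : Subgroup G}

omit [Finite G] in
theorem sdprod' (h : Side P U W₁ W₂) : SDProd (P ⊔ U) W₁ (𝐍 P) :=
  (h.frobUW.sdprod.assoc' h.sdprod).2

theorem cent1_pi (h : Side P U W₁ W₂) (hp : (Nat.card W₂).Prime) (hy : y ∈ P) (h1 : y ≠ 1) :
    IsPiSubgroup {Nat.card W₁, Nat.card W₂} (𝐂₁ y) := by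
  intro r hr hd
  obtain ⟨z, hz, rfl⟩ := Cauchy hr hd
  by_cases e : orderOf z = Nat.card W₁
  · exact Or.inl e
  have h2 := h.sdprod'.mem_left_of_coprime (h.ti.cent1_top ⟨hy, h1⟩ hz)
    ((Nat.coprime_primes hr h.prime).2 e)
  have h3 := order_dvdG (h.frobPU.cent1_ker hy h1 ⟨h2, hz⟩)
  rw [h.card] at h3
  exact Or.inr ((Nat.prime_dvd_prime_iff_eq hr hp).1 (hr.dvd_of_dvd_pow h3))

end Side

theorem sep_of_sides {P U Q V W₁ W₂ : Subgroup G} (hS : Side P U W₁ W₂) (hT : Side Q V W₂ W₁) :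
    Sep G {Nat.card W₁, Nat.card W₂} := by
  refine Sep.of_prime fun x hp hx => ?_
  rcases hx with e | e
  · refine cent1_pi_of_hall hT.hall (fun y hy h1 => ?_) hp ?_
    · rw [Set.pair_comm]
      exact hT.cent1_pi hS.prime hy h1
    · rw [hT.card, e]
      exact dvd_pow_self _ hT.prime.ne_zero
  · refine cent1_pi_of_hall hS.hall (fun y hy h1 => hS.cent1_pi hT.prime hy h1) hp ?_
    rw [hS.card, show orderOf x = _ from e]
    exact dvd_pow_self _ hS.prime.ne_zero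

end Cfsg.Lib.PG
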