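import Cfsg.Agent.Perm.GK
import Cfsg.Agent.FT.CFExt
import Cfsg.Agent.FT.CFInertia1

/-!
The transfer of a linear character to an extension by an element of prime order.
-/

set_option autoImplicit false

open Pointwise Cfsg Cfsg.Lib.Solv Cfsg.Lib.FT

namespace Cfsg.Lib.PG

variable {G : Type*} [Group G] [Finite G]

open Subgroup in
theorem commutator_le_of_pow_mem {P F : Subgroup G} {h : G} {n : ℕ}
    (hFP : F ≤ normalizer (P : Set G)) (hhP : h ∈ normalizer (P : Set G))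
    (hhF : h ∈ normalizer (F : Set G)) (hn : 0 < n) (hpow : ∀ v ∈ P, (v * h) ^ n * (h ^ n)⁻¹ ∈ ⁅P, P⁆)
    (hfpf : ∀ i, 0 < i → i < n → F ⊓ centralizer {h ^ i} = ⊥)
    (hcop : (Nat.card F).Coprime (Nat.card P)) : ⁅F, P⁆ ≤ ⁅P, P⁆ := by
  let _ := Perm.GK.abAction P
  have : NeZero n := ⟨hn.ne'⟩
  set a : normalizer (P : Set G) := ⟨h, hhP⟩ with ha
  have hof : ∀ (b : normalizer (P : Set G)) (v : P),
      b • Abelianization.of v = Abelianization.of (b • v) := fun _ _ => rfl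
  have h1 : ∀ (v : P) (i : ℕ), ∏ j ∈ Finset.range i, a ^ j • Abelianization.of v =
      Abelianization.of ⟨_, Fpf.mul_pow_mul_inv_pow_mem hhP v.2 i⟩ := by
    intro v i
    induction i with
    | zero => rw [Finset.prod_range_zero, ← map_one Abelianization.of]; congr 1; ext; simp
    | succ i ih =>
      rw [Finset.prod_range_succ, ih, hof, ← map_mul]
      congr 1; ext
      change (v * h) ^ i * (h ^ i)⁻¹ * (h ^ i * v * (h ^ i)⁻¹) = (v * h) ^ (i + 1) * (h ^ (i + 1))⁻¹
      rw [pow_succ, pow_succ]; group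
  have h2 : ∀ w : Abelianization P, ∏ j : Fin n, a ^ (j : ℕ) • w = 1 := by
    intro w
    obtain ⟨v, rfl⟩ := QuotientGroup.mk_surjective w
    refine (Fin.prod_univ_eq_prod_range (fun j => a ^ j • Abelianization.of v) n).trans ?_
    refine (h1 v n).trans ?_
    rw [← MonoidHom.mem_ker, Abelianization.ker_of, ← der_subgroupOf]
    exact hpow v v.2
  have h3 : ∀ u ∈ F.subgroupOf (normalizer (P : Set G)), ∀ w : Abelianization P, u • w = w := by
    intro u hu w
    have hc : (Nat.card (Abelianization P)).Coprime (Nat.card (F.subgroupOf (normalizer (P : Set G)))) := by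
      rw [card_subgroupOf_of_le hFP]
      exact (hcop.coprime_dvd_right (card_quotient_dvd_card _)).symm
    obtain ⟨w, rfl⟩ := (powCoprime hc).surjective w
    refine Fpf.smul_pow_card_of_family (F.subgroupOf (normalizer (P : Set G))) (0 : Fin n)
      (fun k i => k * a ^ (i : ℕ) * (k : normalizer (P : Set G))⁻¹)
      w (by simp) (fun k => ?_) (fun i hi => ?_) hu
    · simp only [mul_smul]
      rw [← Finset.smul_prod', h2, smul_one]
    · refine ⟨a ^ (i : ℕ), fun k => ⟨k * a ^ (i : ℕ) * (k : normalizer (P : Set G))⁻¹ * (a ^ (i : ℕ))⁻¹,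
        ?_⟩, ?_, fun k => by simp⟩
      · have := F.mul_mem k.2 (conj_mem_of_mem_normalizer (pow_mem hhF i) (F.inv_mem k.2))
        simpa [mul_assoc, mem_subgroupOf, ha] using this
      · intro x y e
        have h4 := congrArg Subtype.val (mul_right_cancel (congrArg Subtype.val e))
        exact Subtype.ext (Subtype.ext (Fpf.commutator_injOn
          (hfpf i (Nat.pos_of_ne_zero fun e => hi (Fin.ext e)) i.2) x.2 y.2 h4))
  rw [commutator_le]
  intro u hu v hv
  have h5 := h3 ⟨u, hFP hu⟩ hu (Abelianization.of ⟨v, hv⟩)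
  rw [hof, ← mul_inv_eq_one, ← map_inv, ← map_mul, ← MonoidHom.mem_ker, Abelianization.ker_of] at h5
  rw [← Solv.map_subtype_commutator]
  exact ⟨_, h5, rfl⟩

variable {H : Subgroup G} {μ : G → ℂ} {a v y : G}

omit [Finite G] in
theorem lin_pow_eq_prod (hμ : IsLin H μ) (ha : a ∈ 𝐍 H) (hv : v ∈ H) (n : ℕ) :
    μ ((v * a) ^ n * (a ^ n)⁻¹) = ∏ j ∈ Finset.range n, μ (a ^ j * v * (a ^ j)⁻¹) := by
  induction n with
  | zero => simpa using hμ.one
  | succ n ih =>
    rw [Finset.prod_range_succ, ← ih, ← hμ.map_mul (Fpf.mul_pow_mul_inv_pow_mem ha hv n), pow_succ,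
      pow_succ]
    congr 1
    group

theorem finprod_zpowers (F : G → ℂ) (a : G) :
    ∏ᶠ b : Subgroup.zpowers a, F b = ∏ j ∈ Finset.range (orderOf a), F (a ^ j) := by
  rw [← Fin.prod_univ_eq_prod_range (fun j => F (a ^ j)), ← finprod_eq_prod_of_fintype,
    ← finprod_comp_equiv (finEquivZPowers (isOfFinOrder_of_finite a))]
  rfl

theorem exists_lin_transfer (hy : y ∈ 𝐍 H) (hp : (orderOf y).Prime) (hyH : y ∉ H) (hv : v ∈ H)
    (hv' : (v * y) ^ orderOf y ∉ ⁅H, H⁆) :
    ∃ χ, IsLin (H ⊔ Subgroup.zpowers y) χ ∧ res H χ ≠ cf1 H ∧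
      ∀ g ∈ H ⊔ Subgroup.zpowers y, g ∉ H → g ^ orderOf y = 1 → χ g = 1 := by
  set Y := Subgroup.zpowers y with hY
  have := Fintype.ofFinite Y
  have hYN : Y ≤ 𝐍 H := Subgroup.zpowers_le.2 hy
  have hc : (Nat.card Y).Prime := by rwa [Nat.card_zpowers]
  have sd : SDProd H Y (H ⊔ Y) := ⟨rfl, hYN, by
    rw [inf_comm]; exact prime_TIg hc fun e => hyH (e (Subgroup.mem_zpowers y))⟩
  have hm : ∀ a ∈ Y, ∀ w ∈ H, (w * a) ^ orderOf y ∈ H := by
    intro a ha w hw
    have h1 := Fpf.mul_pow_mul_inv_pow_mem (hYN ha) hw (orderOf y)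
    rwa [orderOf_dvd_iff_pow_eq_one.1 (orderOf_dvd_of_mem_zpowers ha), inv_one, mul_one] at h1
  obtain ⟨μ, hμ, -, h1⟩ := exists_lin_ker_ge_ne_one le_rfl (der_sub H)
    (hm y (Subgroup.mem_zpowers y) v hv) hv'
  set θ : G → ℂ := fun x => ∏ b : Y, μ (b * x * (b : G)⁻¹) with hθ
  have key : ∀ a ∈ Y, a ≠ 1 → ∀ w ∈ H, θ w = μ ((w * a) ^ orderOf y) := by
    intro a ha a1 w hw
    have e : Subgroup.zpowers a = Y := by
      refine ((prime_subgroupVti hc (Subgroup.zpowers a)).resolve_right fun e => a1 ?_).antisymm'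
        (Subgroup.zpowers_le.2 ha)
      exact Subgroup.mem_bot.1 (e ▸ (⟨ha, Subgroup.mem_zpowers a⟩ : a ∈ Y ⊓ Subgroup.zpowers a))
    have eo : orderOf a = orderOf y := by rw [← Nat.card_zpowers, e, Nat.card_zpowers]
    have h2 := lin_pow_eq_prod hμ (hYN ha) hw (orderOf a)
    rw [pow_orderOf_eq_one, inv_one, mul_one,
      ← finprod_zpowers (fun b => μ (b * w * b⁻¹)), e, finprod_eq_prod_of_fintype, eo] at h2
    exact h2.symm
  have hl : IsLin H θ := by
    refine isLin_of_mul (fun x hx => Finset.prod_eq_zero (Finset.mem_univ 1) ?_)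
      (Finset.prod_eq_one fun b _ => by rw [mul_one, mul_inv_cancel, hμ.one]) fun x hx z _ => ?_
    · rw [Subgroup.coe_one, one_mul, inv_one, mul_one]
      exact cfun0 hμ.cf hx
    · rw [hθ]
      dsimp only
      rw [← Finset.prod_mul_distrib]
      refine Finset.prod_congr rfl fun b _ => ?_
      rw [← hμ.map_mul ((memJ_norm (hYN b.2)).2 hx)]
      congr 1
      group
  have hI : Y ≤ inertia θ := by
    intro a ha
    rw [mem_inertia_iff]
    intro x
    refine Fintype.prod_equiv (Equiv.mulRight (⟨a, ha⟩ : Y)) _ _ fun b => ?_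
    simp only [Equiv.coe_mulRight, Subgroup.coe_mul, mul_inv_rev, mul_assoc]
  obtain ⟨χ, x1, x2, x3⟩ := sd.extend_lin hl hI
  refine ⟨χ, x1, fun e => h1 ?_, fun g hg hgH hs => ?_⟩
  · rw [← key y (Subgroup.mem_zpowers y) (fun e => hyH (e ▸ one_mem H)) v hv, ← x2, e,
      cf1_of_mem hv]
  · obtain ⟨w, hw, a, ha, rfl⟩ := sd.exists_mul hg
    rw [x1.map_mul (sd.le_left hw), (x1.mem_cfker.1 (x3 ha)).2, mul_one, ← res_of_mem χ hw, x2,
      key a ha (fun e => hgH (by rwa [e, mul_one])) w hw, hs, hμ.one]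

end Cfsg.Lib.PG
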