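import Cfsg.Agent.PG.CTrans
import Cfsg.Agent.PG.CLin

/-!
The last configuration: a character of the normaliser of `H₁` with value `1` outside `S`.
-/

set_option autoImplicit false

open Pointwise Cfsg Cfsg.Lib.Solv Cfsg.Lib.FT
open scoped ComplexConjugate

namespace Cfsg.Lib.PG.Last

variable {X : Type*} [Group X] [Finite X] {S H₁ U H₂ D : Subgroup X} {y c : X}
  (h : Last S H₁ U H₂ D y c)
include h

theorem card_prime : (Nat.card (Subgroup.zpowers y)).Prime := by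
  rw [Nat.card_zpowers, h.y_ord]
  exact h.prime

theorem sd_top : SDProd S (Subgroup.zpowers y) ⊤ := by
  have := h.normal
  refine ⟨?_, Subgroup.le_normalizer_of_normal, ?_⟩
  · refine (eq_or_eq_of_prime_relIndex (by rw [Subgroup.relIndex_top_right]; exact h.prime)
      le_sup_left le_top).resolve_left fun e => h.y_not ?_
    exact e ▸ Subgroup.mem_sup_right (Subgroup.mem_zpowers y)
  · rw [inf_comm]
    exact prime_TIg h.card_prime fun e => h.y_not (e (Subgroup.mem_zpowers y))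

theorem sd_norm : SDProd (S ⊓ 𝐍 H₁) (Subgroup.zpowers y) (𝐍 H₁) := by
  have := h.sd_top.modl (Subgroup.zpowers_le.2 h.y_norm₁)
  rwa [top_inf_eq] at this

theorem sd_assoc : SDProd U (Subgroup.zpowers y) (U ⊔ Subgroup.zpowers y) ∧
    SDProd H₁ (U ⊔ Subgroup.zpowers y) (𝐍 H₁) :=
  h.frob₁.sdprod.assoc h.sd_norm (Subgroup.zpowers_le.2 h.y_norm₁)
    (Subgroup.zpowers_le.2 h.y_normU)

theorem reg : Semiregular U (Subgroup.zpowers y) :=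
  Semiregular.of_prime h.card_prime (by rw [cent_zpowers]; exact h.y_fpf)

theorem sd_T : SDProd H₁ (Subgroup.zpowers y) (H₁ ⊔ Subgroup.zpowers y) :=
  h.sd_assoc.2.subr le_sup_right

theorem T_le : H₁ ⊔ Subgroup.zpowers y ≤ 𝐍 H₁ :=
  sup_le Subgroup.le_normalizer (Subgroup.zpowers_le.2 h.y_norm₁)

theorem mem_of_T {x : X} (hx : x ∈ H₁ ⊔ Subgroup.zpowers y) (hS : x ∈ S) : x ∈ H₁ := by
  obtain ⟨a, ha, b, hb, rfl⟩ := h.sd_T.exists_mul hx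
  rwa [h.sd_top.eq_one ((S.mul_mem_cancel_left (h.le₁ ha)).1 hS) hb, mul_one]

theorem exists_conj_T {g : X} (hg : g ∈ 𝐍 H₁) (hS : g ∉ S) :
    ∃ k ∈ 𝐍 H₁, k⁻¹ * g * k ∈ H₁ ⊔ Subgroup.zpowers y := by
  obtain ⟨a, ha, w, hw, rfl⟩ := h.sd_assoc.2.exists_mul hg
  obtain ⟨k, hk, e⟩ := h.reg.exists_conj_mem h.sd_assoc.1 hw
    fun e => hS (mul_mem (h.le₁ ha) (h.frob₁.compl_le e).1)
  have k1 := (h.frob₁.compl_le hk).2
  refine ⟨k, k1, ?_⟩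
  rw [show k⁻¹ * (a * w) * k = k⁻¹ * a * k⁻¹⁻¹ * (k⁻¹ * w * k) by group]
  exact h.sd_T.mul_mem ((memJ_norm (inv_mem k1)).2 ha) e

theorem ti_T : NormedTI {x | x ∈ H₁ ⊔ Subgroup.zpowers y ∧ x ∉ H₁} (𝐍 H₁)
    (H₁ ⊔ Subgroup.zpowers y) := by
  refine ⟨⟨y, Subgroup.mem_sup_right (Subgroup.mem_zpowers y), fun e => h.y_not (h.le₁ e)⟩, h.T_le,
    fun g hg x hx => ⟨mul_mem (mul_mem hg hx.1) (inv_mem hg),
      fun e => hx.2 ((memJ_norm (h.T_le hg)).1 e)⟩, fun g hg x hx hc => ?_⟩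
  obtain ⟨a, ha, w, hw, rfl⟩ := h.sd_assoc.2.exists_mul hg
  obtain ⟨a', ha', b, hb, rfl⟩ := h.sd_T.exists_mul hx.1
  have w1 := h.sd_assoc.2.le_right hw
  have hT : H₁ ≤ H₁ ⊔ Subgroup.zpowers y := le_sup_left
  have h1 : w * b * w⁻¹ ∈ H₁ ⊔ Subgroup.zpowers y := by
    have := mul_mem (mul_mem (inv_mem (hT (mul_mem ha ((memJ_norm w1).2 ha')))) hc.1) (hT ha)
    rwa [show (a * (w * a' * w⁻¹))⁻¹ * (a * w * (a' * b) * (a * w)⁻¹) * a = w * b * w⁻¹ by group]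
      at this
  obtain ⟨a₂, ha₂, b₂, hb₂, e⟩ := h.sd_T.exists_mul h1
  have h2 : w * b * w⁻¹ ∈ U ⊔ Subgroup.zpowers y :=
    mul_mem (mul_mem hw (Subgroup.mem_sup_right hb)) (inv_mem hw)
  have h3 : a₂ = 1 := h.sd_assoc.2.eq_one ha₂
    ((Subgroup.mul_mem_cancel_right _ (Subgroup.mem_sup_right hb₂)).1 (e ▸ h2))
  rw [h3, one_mul] at e
  exact h.sd_T.mul_mem ha (h.reg.mem_of_conj_mem h.sd_assoc.1 hw hb
    (fun e => hx.2 (by rwa [e, mul_one])) (e ▸ hb₂))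

theorem exists_pow_not_mem : ∃ v ∈ H₁, (v * y) ^ orderOf y ∉ ⁅H₁, H₁⁆ := by
  by_contra hc
  push Not at hc
  have := h.nil₁
  have h1 := commutator_le_of_pow_mem h.frob₁.norm h.y_norm₁ h.y_normU (orderOf_pos y)
    (fun v hv => by rw [pow_orderOf_eq_one, inv_one, mul_one]; exact hc v hv)
    (fun i i0 i1 => h.reg _ (Subgroup.npow_mem_zpowers y i) (pow_ne_one_of_lt_orderOf i0.ne' i1))
    h.frob₁.coprime.symm
  rw [Subgroup.commutator_comm, h.frob₁.commg_eq] at h1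
  exact (sol_der1_proper inferInstance h.frob₁.ker_ne).not_ge h1

theorem exists_local : ∃ z lam : X → ℂ, IsLin H₁ lam ∧ lam ≠ cf1 H₁ ∧ z ∈ Irr (𝐍 H₁) ∧
    res (S ⊓ 𝐍 H₁) z = ind H₁ (S ⊓ 𝐍 H₁) lam ∧
    ∀ g ∈ 𝐍 H₁, g ∉ S → (∀ n : ℕ, g ^ n ∉ sharp H₁) → z g = 1 := by
  have := h.normal
  obtain ⟨v, hv, hv'⟩ := h.exists_pow_not_mem
  obtain ⟨χ, x1, x2, x3⟩ := exists_lin_transfer h.y_norm₁ (h.y_ord ▸ h.prime)
    (fun e => h.y_not (h.le₁ e)) hv hv'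
  have hl := x1.res (le_sup_left : H₁ ≤ _)
  have e1 : res (S ⊓ 𝐍 H₁) (ind (H₁ ⊔ Subgroup.zpowers y) (𝐍 H₁) χ) =
      ind H₁ (S ⊓ 𝐍 H₁) (res H₁ χ) := by
    rw [res_ind_of_mul h.T_le inf_le_right ?_ x1.cf, ind_res_self]
    · congr 2
      exact le_antisymm (fun x hx => h.mem_of_T hx.1 hx.2.1) (le_inf le_sup_left h.frob₁.ker_le)
    · intro g hg
      obtain ⟨b, hb, a, ha, rfl⟩ := h.sd_norm.exists_mul' hg
      exact ⟨b, Subgroup.mem_sup_right hb, a, ha, rfl⟩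
  refine ⟨_, _, hl, x2, (x1.char.ind h.T_le).irr_of_res_irr (inf_le_right (a := S)) ?_, e1, ?_⟩
  · rw [e1]
    exact (irr_induced_Frobenius_ker h.frob₁.isFrobKer hl.irr x2).1
  · intro g hg hS hn
    obtain ⟨k, hk, e⟩ := h.exists_conj_T hg hS
    have h1 : k⁻¹ * g * k ∉ H₁ := fun e => hS (by simpa [mul_assoc] using this.conj_mem _ (h.le₁ e) k)
    have h2 : (k⁻¹ * g * k) ^ orderOf y = k⁻¹ * g ^ orderOf y * k⁻¹⁻¹ := by
      rw [← conj_pow, inv_inv]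
    have h3 : g ^ orderOf y ∈ H₁ := by
      rw [← memJ_norm (inv_mem hk), ← h2]
      exact h.mem_of_T (pow_mem e _) (h.y_ord ▸ S.pow_index_mem _)
    have h4 : g ^ orderOf y = 1 := by
      by_contra e
      exact hn _ ⟨h3, e⟩
    rw [← cfunJ' (ind_mem_CF _ _ _) hk, normedTI_ind_id_aux h.ti_T x1.cf ⟨e, h1⟩ fun a ha hc =>
      cfun0 x1.cf fun e' => hc ⟨e', fun e'' => h1 ((memJ_norm ha).1 e'')⟩]
    exact x3 _ e h1 (by rw [h2, h4, mul_one, mul_inv_cancel])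

theorem ti_pow : NormedTI {g | ∃ n : ℕ, g ^ n ∈ sharp H₁} ⊤ (𝐍 H₁) := by
  have := h.normal
  have hN : ∀ g, g ∈ 𝐍 S := fun g => Subgroup.le_normalizer_of_normal (Subgroup.mem_top g)
  obtain ⟨a, ha, a1⟩ := trivgPn.1 h.in₁.ne
  refine ⟨⟨a, 1, by rw [pow_one]; exact ⟨ha, a1⟩⟩, le_top, ?_, ?_⟩
  · rintro g hg x ⟨n, hn⟩
    refine ⟨n, ?_⟩
    rw [conj_pow]
    exact ⟨(memJ_norm hg).2 hn.1, fun e => hn.2 (conjg_eq1.1 e)⟩
  · rintro g - x ⟨n, hn⟩ ⟨m, hm⟩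
    rw [conj_pow] at hm
    refine h.in₁.mem_norm (hN g) (h.iso₁ _ hn.1 hn.2 ⟨?_, ?_⟩)
      (fun e => hm.2 (conjg_eq1.2 e)) hm.1
    · simpa [mul_assoc] using this.conj_mem _ (h.le₁ hm.1) g⁻¹
    · exact mem_cent1.2 (Commute.pow_pow_self x m n).eq

theorem pow_subset : {g | ∃ n : ℕ, g ^ n ∈ sharp H₁} ⊆ 𝐍 H₁ := h.ti_pow.subset (Set.subset_univ _)

theorem pow_of_mem {g : X} (hS : g ∈ S) (hg : ∃ n : ℕ, g ^ n ∈ sharp H₁) : g ∈ H₁ :=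
  let ⟨n, hn⟩ := hg
  h.iso₁ _ hn.1 hn.2 ⟨hS, mem_cent1.2 (Commute.self_pow g n).eq⟩

theorem not_pow_y : ¬ ∃ n : ℕ, y ^ n ∈ sharp H₁ := fun ⟨n, hn⟩ =>
  hn.2 (h.sd_top.eq_one (h.le₁ hn.1) (Subgroup.npow_mem_zpowers y n))

theorem not_mem_support : y * c ∉ classSupport {g | ∃ n : ℕ, g ^ n ∈ sharp H₁} ⊤ := by
  have := h.normal
  rintro ⟨a, ⟨n, hn⟩, g, -, e⟩
  have h1 : (y * c) ^ n = g * a ^ n * g⁻¹ := by rw [e, conj_pow]
  have h2 : (y * c) ^ n ∈ H₂ := h.iso₂ c h.c_mem h.c_ne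
    ⟨h1 ▸ this.conj_mem _ (h.le₁ hn.1) g,
      mem_cent1.2 ((h.c_comm.mul_left (Commute.refl c)).pow_left n).eq⟩
  refine Set.disjoint_left.1 (disjoint_classSupport_sharp_of_coprime h.cop)
    ⟨_, hn, g, trivial, h1⟩ ⟨_, ⟨h2, fun e => hn.2 ?_⟩, 1, trivial, by simp⟩
  exact conjg_eq1.1 (h1.symm.trans e)

end Cfsg.Lib.PG.Last
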