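import Cfsg.Agent.PG.CLoc
import Cfsg.Agent.FT.CFInt

/-!
The last configuration does not occur.
-/

set_option autoImplicit false

open Pointwise Cfsg Cfsg.Lib.Solv Cfsg.Lib.FT
open scoped ComplexConjugate

namespace Cfsg.Lib.PG

variable {G : Type*} [Group G] [Finite G]

theorem eq_or_eq_of_dot_sub {T : Subgroup G} {p q r s : G → ℂ} (hp : p ∈ Irr T) (hq : q ∈ Irr T)
    (hr : r ∈ Irr T) (hs : s ∈ Irr T) (h : dot T (p - q) (r - s) = 1) : p = r ∨ q = s := by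
  by_contra hc
  rw [not_or] at hc
  rw [dot_sub_left, dot_sub_right, dot_sub_right, dot_irr_of_ne hp hr hc.1,
    dot_irr_of_ne hq hs hc.2, dot_irr hp hs, dot_irr hq hr] at h
  split_ifs at h <;> norm_num at h

theorem ti_pair {N L : Subgroup G} {A : Set G} (ti : NormedTI A ⊤ N) (hA : A ⊆ N)
    (h1 : (1 : G) ∉ A) {κ z : G → ℂ} (hκ : IsLin ⊤ κ) (hz : z ∈ Irr N) (hL : L ≤ N)
    (hκL : ∀ x ∈ L, κ x = 1) (n1 : res L z ≠ cf1 L) (n2 : res L z ≠ res L (cj z)) {y : G}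
    (hy : y ∈ N) (zy : z y ≠ 0) (κy : κ y ≠ 1) (hα : z - cj z ∈ CFon N A)
    (hγ : (cf1 N - res N κ) * (cf1 N - z) ∈ CFon N A) :
    ∃ χ₁ ∈ Irr (⊤ : Subgroup G), ∃ χ₂ ∈ Irr (⊤ : Subgroup G), ind N ⊤ (z - cj z) = χ₁ - χ₂ ∧
      (χ₁ = κ * χ₂ ∨ χ₂ = κ * χ₁ ∨
        ind N ⊤ ((cf1 N - res N κ) * (cf1 N - z)) = (cf1 ⊤ - κ) * (cf1 ⊤ - χ₁) ∨
        ind N ⊤ ((cf1 N - res N κ) * (cf1 N - z)) = (cf1 ⊤ - κ) * (cf1 ⊤ + χ₂)) := by
  have hk := hκ.res (le_top : N ≤ ⊤)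
  set k := res N κ with hkd
  have i1 := cf1_mem_Irr N
  have ik := hk.irr
  have iz' := cj_mem_Irr hz
  have ikz := hk.mul_irr hz
  have ikz' := hk.mul_irr iz'
  have n3 : res L (cj z) ≠ cf1 L := fun e => n1 (by
    rw [res_cfAut, cj_eq_iff, cfAut_cf1] at e; exact e)
  have r1 : res L (cf1 N) = cf1 L := res_cf1 hL
  have rk : res L k = cf1 L := by
    funext x
    by_cases hx : x ∈ L
    · rw [res_of_mem _ hx, hkd, res_of_mem _ (hL hx), hκL x hx, cf1_of_mem hx]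
    · rw [res_of_not_mem _ hx, cf1_of_not_mem hx]
  have rm : ∀ φ, res L (k * φ) = res L φ := fun φ => by
    rw [res_mul_left, rk, ← res_eq_cf1_mul]
  have o : ∀ {φ ψ}, φ ∈ Irr N → ψ ∈ Irr N → res L φ ≠ res L ψ → dot N φ ψ = 0 :=
    fun hφ hψ e => dot_irr_of_ne hφ hψ fun e' => e (congrArg _ e')
  have ky : k y ≠ 1 := by rwa [hkd, res_of_mem _ hy]
  have d1 : dot N (cf1 N) k = 0 := dot_irr_of_ne i1 ik fun e => ky (by rw [← e, cf1_of_mem hy])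
  have d2 : dot N z (k * z) = 0 := dot_irr_of_ne hz ikz fun e =>
    ky (mul_right_cancel₀ zy ((congrFun e y).symm.trans (one_mul _).symm))
  have d3 := o i1 hz (r1 ▸ n1.symm)
  have d4 := o i1 iz' (r1 ▸ n3.symm)
  have d5 := o i1 ikz (by rw [r1, rm]; exact n1.symm)
  have d6 := o i1 ikz' (by rw [r1, rm]; exact n3.symm)
  have d7 := o ik hz (rk ▸ n1.symm)
  have d8 := o ik iz' (rk ▸ n3.symm)
  have d9 := o ik ikz (by rw [rk, rm]; exact n1.symm)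
  have d10 := o ik ikz' (by rw [rk, rm]; exact n3.symm)
  have d11 := o hz iz' n2
  have d12 := o hz ikz' (by rw [rm]; exact n2)
  have d13 := o ikz iz' (by rw [rm]; exact n2)
  have d14 := o ikz ikz' (by rw [rm, rm]; exact n2)
  have eγ : (cf1 N - k) * (cf1 N - z) = cf1 N - k - z + k * z := by
    rw [sub_mul, mul_sub, mul_sub, mul_cf1 (irr_cf i1), mul_cf1 hk.cf, cf1_mul (irr_cf hz)]
    abel
  have hα' : k * z - k * cj z ∈ CFon N A :=
    ⟨sub_mem (irr_cf ikz) (irr_cf ikz'), fun x hx => by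
      rw [← mul_sub, Pi.mul_apply, hα.2 x hx, mul_zero]⟩
  have iso := normedTI_isometry ti hA
  have vz := irr_vchar hz
  have vz' := irr_vchar iz'
  obtain ⟨χ₁, c₁, χ₂, c₂, -, ea⟩ := vchar_norm2 (vchar_ind le_top (sub_mem vz vz'))
    (by rw [ind_one le_top, hα.2 1 h1, mul_zero])
    ((nrm_eq_natCast_iff (n := 2)).2 (by
      rw [iso _ hα _ hα, dot_sub_left, dot_sub_right, dot_sub_right, dot_irr_self hz,
        dot_irr_self iz', d11, dot_eq_zero_comm.1 d11]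
      norm_num))
  have eb : ind N ⊤ (k * z - k * cj z) = κ * χ₁ - κ * χ₂ := by
    rw [← mul_sub, ← mul_sub, ← ea, hkd, ind_res_mul _ hκ.cf]
  set θ := ind N ⊤ ((cf1 N - k) * (cf1 N - z)) with hθ
  have cκ : cf1 ⊤ - κ ∈ CF (⊤ : Subgroup G) := sub_mem (irr_cf (cf1_mem_Irr ⊤)) hκ.cf
  have rκ : res N (cf1 ⊤ - κ) = cf1 N - k := by rw [map_sub, res_cf1 le_top]
  have dκ : dot ⊤ (cf1 ⊤) κ = 0 := dot_irr_of_ne (cf1_mem_Irr ⊤) hκ.irr fun e =>
    κy (by rw [← e, cf1_of_mem (Subgroup.mem_top y)])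
  have t1 : dot ⊤ θ (cf1 ⊤ - κ) = 2 := by
    rw [hθ, dot_ind_left le_top _ cκ, rκ, eγ]
    simp only [dot_add_left, dot_sub_left, dot_sub_right, dot_irr_self i1, dot_irr_self ik, d1,
      dot_eq_zero_comm.1 d1, dot_eq_zero_comm.1 d3, dot_eq_zero_comm.1 d5, dot_eq_zero_comm.1 d7,
      dot_eq_zero_comm.1 d9]
    norm_num
  have t2 : dot ⊤ θ θ = 4 := by
    rw [hθ, iso _ hγ _ hγ, eγ]
    simp only [dot_add_left, dot_sub_left, dot_add_right, dot_sub_right, dot_irr_self i1,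
      dot_irr_self ik, dot_irr_self hz, dot_irr_self ikz, d1, d2, d3, d5, d7, d9,
      dot_eq_zero_comm.1 d1, dot_eq_zero_comm.1 d2, dot_eq_zero_comm.1 d3, dot_eq_zero_comm.1 d5,
      dot_eq_zero_comm.1 d7, dot_eq_zero_comm.1 d9]
    norm_num
  have vθ : θ ∈ VC (⊤ : Subgroup G) := vchar_ind le_top
    (vchar_mul (sub_mem (cf1_vchar N) hk.char.vchar) (sub_mem (cf1_vchar N) vz))
  have vκ : cf1 ⊤ - κ ∈ VC (⊤ : Subgroup G) := sub_mem (cf1_vchar ⊤) hκ.char.vchar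
  obtain ⟨ξ₁, x₁, ξ₂, x₂, -, eρ⟩ := vchar_norm2 (sub_mem vθ vκ)
    (by rw [Pi.sub_apply, hθ, ind_one le_top, hγ.2 1 h1, mul_zero, Pi.sub_apply, cf1_one, hκ.one,
      sub_self, sub_self])
    ((nrm_eq_natCast_iff (n := 2)).2 (by
      rw [dot_sub_left, dot_sub_right, dot_sub_right ⊤ _ θ, t1, t2, vchar_dot_comm vκ vθ, t1,
        dot_sub_left, dot_sub_right, dot_sub_right, dot_cf1_cf1, dot_irr_self hκ.irr, dκ,
        dot_eq_zero_comm.1 dκ]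
      norm_num))
  have u1 : dot ⊤ (ξ₁ - ξ₂) (χ₂ - χ₁) = 1 := by
    rw [← eρ, ← neg_sub χ₁, ← ea, dot_neg_right, dot_sub_left, hθ, iso _ hγ _ hα,
      dot_ind_right le_top cκ, rκ, eγ]
    simp only [dot_add_left, dot_sub_left, dot_sub_right, dot_irr_self hz, d3, d4, d7, d8, d11,
      d13, dot_eq_zero_comm.1 d2]
    norm_num
  have u2 : dot ⊤ (ξ₁ - ξ₂) (κ * χ₁ - κ * χ₂) = 1 := by
    rw [← eρ, ← eb, dot_sub_left, hθ, iso _ hγ _ hα', dot_ind_right le_top cκ, rκ, eγ]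
    simp only [dot_add_left, dot_sub_left, dot_sub_right, dot_irr_self ikz, d2, d5, d6, d9, d10,
      d12, d14]
    norm_num
  refine ⟨χ₁, c₁, χ₂, c₂, ea, ?_⟩
  have e0 : θ = cf1 ⊤ - κ + (ξ₁ - ξ₂) := by rw [← eρ]; abel
  rcases eq_or_eq_of_dot_sub x₁ x₂ c₂ c₁ u1 with e1 | e1 <;>
    rcases eq_or_eq_of_dot_sub x₁ x₂ (hκ.mul_irr c₁) (hκ.mul_irr c₂) u2 with e2 | e2
  · exact Or.inr (Or.inl (e1.symm.trans e2))
  · refine Or.inr (Or.inr (Or.inr ?_))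
    rw [e0, e1, e2, mul_add, mul_cf1 cκ, sub_mul, cf1_mul (irr_cf c₂)]
  · refine Or.inr (Or.inr (Or.inl ?_))
    rw [e0, e1, e2, mul_sub, mul_cf1 cκ, sub_mul, cf1_mul (irr_cf c₁)]
    abel
  · exact Or.inl (e1.symm.trans e2)

theorem Last.false {S H₁ U H₂ D : Subgroup G} {y c : G} (h : Last S H₁ U H₂ D y c) : False := by
  have hS := h.normal
  obtain ⟨z, lam, l1, l2, z1, z2, z3⟩ := h.exists_local
  obtain ⟨κ, k1, k2, k3⟩ := exists_lin_ker_ge_ne_one (h.sd_top.der_le_left (abelian_zpowers y))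
    le_top (Subgroup.mem_top y) h.y_not
  have k4 : ∀ x ∈ S, κ x = 1 := fun x hx => (k1.mem_cfker.1 (k2 hx)).2
  have ns := h.frob₁.normal
  have odd : Odd (Nat.card ↥(S ⊓ 𝐍 H₁)) := oddSg inf_le_right h.odd₁
  have Sζ : ind H₁ (S ⊓ 𝐍 H₁) lam ∈ seqIndD H₁ (S ⊓ 𝐍 H₁) H₁ ⊥ := seqIndC1P.2 ⟨lam, l1.irr, l2, rfl⟩
  have ζ0 : ∀ x, x ∉ H₁ → ind H₁ (S ⊓ 𝐍 H₁) lam x = 0 := (ind_mem_CFon_normal ns.2 lam).2
  have n2 := seqInd_conjC_neq ns odd le_rfl Sζ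
  have z4 : ∀ g ∈ 𝐍 H₁, g ∈ S → g ≠ 1 → (¬ ∃ n : ℕ, g ^ n ∈ sharp H₁) → z g = 0 := by
    intro g hg hgS g1 hn
    rw [← res_of_mem (H := S ⊓ 𝐍 H₁) z ⟨hgS, hg⟩, z2]
    exact ζ0 g fun e => hn ⟨1, by rw [pow_one]; exact ⟨e, g1⟩⟩
  have hα : z - cj z ∈ CFon (𝐍 H₁) {g | ∃ n : ℕ, g ^ n ∈ sharp H₁} := by
    refine ⟨sub_mem (irr_cf z1) (irr_cf (cj_mem_Irr z1)), fun g hn => ?_⟩
    rw [Pi.sub_apply, cj_apply, sub_eq_zero]
    by_cases hg : g ∈ 𝐍 H₁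
    · by_cases hgS : g ∈ S
      · by_cases g1 : g = 1
        · rw [g1, (irr_char z1).conj_one]
        · rw [z4 g hg hgS g1 hn, map_zero]
      · rw [z3 g hg hgS (not_exists.1 hn), map_one]
    · rw [irr0 z1 g hg, map_zero]
  have hγ : (cf1 (𝐍 H₁) - res (𝐍 H₁) κ) * (cf1 (𝐍 H₁) - z) ∈
      CFon (𝐍 H₁) {g | ∃ n : ℕ, g ^ n ∈ sharp H₁} := by
    refine ⟨vchar_cf (vchar_mul (sub_mem (cf1_vchar _) (k1.res le_top).char.vchar)
      (sub_mem (cf1_vchar _) (irr_vchar z1))), fun g hn => ?_⟩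
    rw [Pi.mul_apply, Pi.sub_apply, Pi.sub_apply]
    by_cases hg : g ∈ 𝐍 H₁
    · rw [cf1_of_mem hg, res_of_mem _ hg]
      by_cases hgS : g ∈ S
      · rw [k4 g hgS, sub_self, zero_mul]
      · rw [z3 g hg hgS (not_exists.1 hn), sub_self, mul_zero]
    · rw [cf1_of_not_mem hg, irr0 z1 g hg, sub_self, mul_zero]
  have h1 : (1 : G) ∉ {g : G | ∃ n : ℕ, g ^ n ∈ sharp H₁} := fun ⟨n, hn⟩ => hn.2 (one_pow n)
  obtain ⟨χ₁, c₁, χ₂, c₂, ea, hc⟩ := ti_pair h.ti_pow h.pow_subset h1 k1 z1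
    (inf_le_right (a := S)) (fun x hx => k4 x hx.1)
    (fun e => (irr_induced_Frobenius_ker h.frob₁.isFrobKer l1.irr l2).2 (by
      rw [← z2, e, cfker_cf1]; exact ns.1))
    (by rw [res_cfAut, z2]; exact n2.symm) h.y_norm₁
    (by rw [z3 y h.y_norm₁ h.y_not (not_exists.1 h.not_pow_y)]; exact one_ne_zero) k3 hα hγ
  have er : res S χ₁ - res S χ₂ =
      ind (S ⊓ 𝐍 H₁) S (ind H₁ (S ⊓ 𝐍 H₁) lam - cj (ind H₁ (S ⊓ 𝐍 H₁) lam)) := by
    rw [← map_sub, ← ea, res_ind_of_mul le_top le_top ?_ hα.1, inf_comm, ← z2, ← res_cfAut,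
      ← map_sub, ind_res_self]
    intro g _
    obtain ⟨b, hb, a, ha, rfl⟩ := h.sd_top.exists_mul' (Subgroup.mem_top g)
    exact ⟨b, Subgroup.zpowers_le.2 h.y_norm₁ hb, a, ha, rfl⟩
  have ne : res S χ₁ ≠ res S χ₂ := by
    intro e
    refine n2 (funext fun x => ?_)
    by_cases hx : x ∈ H₁
    · have hL := ns.1 hx
      rw [← z2, ← res_cfAut, res_of_mem _ hL, res_of_mem _ hL, eq_comm, ← sub_eq_zero,
        ← Pi.sub_apply]
      by_cases x1 : x = 1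
      · exact x1 ▸ hα.2 1 h1
      · rw [← normedTI_ind_id h.ti_pow h.pow_subset hα ⟨1, by rw [pow_one]; exact ⟨hx, x1⟩⟩, ea,
          Pi.sub_apply, ← res_of_mem χ₁ hL.1, ← res_of_mem χ₂ hL.1, e, sub_self]
    · rw [cj_apply, ζ0 x hx, map_zero]
  have rk : ∀ φ, res S (κ * φ) = res S φ := fun φ => funext fun x => by
    by_cases hx : x ∈ S
    · rw [res_of_mem _ hx, res_of_mem _ hx, Pi.mul_apply, k4 x hx, one_mul]
    · rw [res_of_not_mem _ hx, res_of_not_mem _ hx]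
  have e1 : χ₁ 1 = χ₂ 1 := by
    rw [← sub_eq_zero, ← Pi.sub_apply, ← ea, ind_one le_top, hα.2 1 h1, mul_zero]
  have cS := h.le₂ h.c_mem
  have ycS : y * c ∉ S := fun e => h.y_not ((S.mul_mem_cancel_right cS).1 e)
  have t0 := (ind_mem_CFon_classSupport (H := 𝐍 H₁) (fun x _ hx => hγ.2 x hx) ⊤).2 _
    h.not_mem_support
  have kyc : (cf1 (⊤ : Subgroup G) - κ : G → ℂ) (y * c) ≠ 0 := by
    rw [Pi.sub_apply, cf1_of_mem (Subgroup.mem_top _), k1.map_mul (Subgroup.mem_top y), k4 c cS,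
      mul_one]
    exact sub_ne_zero.2 k3.symm
  have fin : ∀ {χ χ' : G → ℂ} {n : ℤ}, χ ∈ Irr (⊤ : Subgroup G) → χ' ∈ Irr (⊤ : Subgroup G) →
      res S χ ≠ res S χ' → χ 1 = χ' 1 → IsUnit n → χ (y * c) = n →
      (res S χ ∈ Irr S → dot S (res S χ - res S χ') (res S χ) ≠ 0 → res S χ c = 0) → False := by
    intro χ χ' n hχ hχ' ne e1 hn e2 hv
    rcases cfRes_prime_irr_cases (H := S) (normal_top_iff.2 hS)
      (by rw [Subgroup.relIndex_top_right]; exact h.prime) hχ with i | ⟨θ, -, -, e⟩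
    · have h2 : χ c = 0 := by
        rw [← res_of_mem χ cS]
        refine hv i fun e => ne (((irr_char hχ').res le_top).eq_of_constt_of_deg
          (mem_irrConstt.2 ⟨i, ?_⟩) ?_).symm
        · rw [dot_sub_left, dot_irr_self i, sub_eq_zero] at e
          rw [← e]
          exact one_ne_zero
        · rw [res_of_mem _ S.one_mem, res_of_mem _ S.one_mem, e1]
      have h3 := vchar_ker_mod_prim (Complex.isPrimitiveRoot_exp _ h.prime.ne_zero) (irr_vchar hχ)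
        (Subgroup.mem_top y) h.y_ord h.c_comm.eq
      rw [e2, h2] at h3
      exact (Nat.prime_iff_prime_int.1 h.prime).not_unit (isUnit_of_dvd_unit
        (int_eqAmod_prime_prim h.prime (Complex.isPrimitiveRoot_exp _ h.prime.ne_zero) h3) hn)
    · rw [e, (ind_mem_CFon_normal Subgroup.le_normalizer_of_normal θ).2 _ ycS] at e2
      exact hn.ne_zero (by exact_mod_cast e2.symm)
  rcases hc with e | e | e | e
  · exact ne (by rw [e, rk])
  · exact ne (by rw [e, rk])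
  · rw [e, Pi.mul_apply, mul_eq_zero, or_iff_right kyc, Pi.sub_apply,
      cf1_of_mem (Subgroup.mem_top _), sub_eq_zero] at t0
    exact fin c₁ c₂ ne e1 isUnit_one (by rw [← t0, Int.cast_one])
      fun i hd => h.vanish l1 l2 i (er ▸ hd)
  · rw [e, Pi.mul_apply, mul_eq_zero, or_iff_right kyc, Pi.add_apply,
      cf1_of_mem (Subgroup.mem_top _), add_comm, add_eq_zero_iff_eq_neg] at t0
    refine fin c₂ c₁ ne.symm e1.symm isUnit_one.neg (by rw [t0, Int.cast_neg, Int.cast_one])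
      fun i hd => h.vanish l1 l2 i ?_
    rwa [← er, ← neg_sub, dot_neg_left, neg_ne_zero]

end Cfsg.Lib.PG
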