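import Cfsg.Agent.PG.Three
import Cfsg.Agent.FT.PF7
import Cfsg.Agent.FT.PF6.E

/-!
Two odd order Frobenius groups with TI kernels of coprime orders in a simple group: exceptional
characters of the first vanish on the kernel of the second.
-/

set_option autoImplicit false

open Pointwise Cfsg Cfsg.Lib.Solv Cfsg.Lib.FT
open scoped ComplexConjugate

namespace Cfsg.Lib.PG

variable {G : Type*} [Group G] [Finite G] {t : G} {L H L₁ L₂ H₁ H₂ : Subgroup G}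
  {D D₁ D₂ : G → Subgroup G}

theorem disjoint_coherent_ortho' (odd₁ : Odd (Nat.card L₁)) (odd₂ : Odd (Nat.card L₂))
    (ddA₁ : DadeHypothesis (sharp H₁) L₁ D₁) (ddA₂ : DadeHypothesis (sharp H₂) L₂ D₂)
    (disj : Disjoint (DadeSupp (sharp H₁) D₁) (DadeSupp (sharp H₂) D₂))
    {ν₁ ν₂ : (G → ℂ) →ₗ[ℂ] (G → ℂ)}
    (coh₁ : CoherentWith L₁ ⊤ (seqIndD H₁ L₁ H₁ ⊥) {1}ᶜ (Dade (sharp H₁) D₁) ν₁)
    (coh₂ : CoherentWith L₂ ⊤ (seqIndD H₂ L₂ H₂ ⊥) {1}ᶜ (Dade (sharp H₂) D₂) ν₂)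
    {χ₁ χ₂ : G → ℂ} (irr₁ : χ₁ ∈ Irr L₁) (S₁ : χ₁ ∈ seqIndD H₁ L₁ H₁ ⊥)
    (irr₂ : χ₂ ∈ Irr L₂) (S₂ : χ₂ ∈ seqIndD H₂ L₂ H₂ ⊥) : dot ⊤ (ν₁ χ₁) (ν₂ χ₂) = 0 := by
  have key : ∀ {L H : Subgroup G} {D : G → Subgroup G} (_ : Odd (Nat.card L))
      (_ : DadeHypothesis (sharp H) L D) {ν : (G → ℂ) →ₗ[ℂ] (G → ℂ)}
      (_ : CoherentWith L ⊤ (seqIndD H L H ⊥) {1}ᶜ (Dade (sharp H) D) ν) {χ : G → ℂ}
      (_ : χ ∈ Irr L) (_ : χ ∈ seqIndD H L H ⊥),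
      ν χ ∈ VC ⊤ ∧ ν (cj χ) ∈ VC ⊤ ∧ dot ⊤ (ν χ) (ν χ) = 1 ∧ dot ⊤ (ν (cj χ)) (ν (cj χ)) = 1 ∧
        dot ⊤ (ν χ) (ν (cj χ)) = 0 ∧ ν χ - ν (cj χ) = Dade (sharp H) D (χ - cj χ) := by
    intro L H D odd ddA ν coh χ irr S
    have nsHL := normal_of_Dade_sharp ddA
    have S' : cj χ ∈ seqIndD H L H ⊥ := cfAut_seqInd _ S
    refine ⟨coh.vc_map S, coh.vc_map S', ?_, ?_, ?_, ?_⟩
    · rw [coh.dot_map S S, dot_irr_self irr]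
    · rw [coh.dot_map S' S', dot_cj_cj, dot_irr_self irr]
    · rw [coh.dot_map S S', seqInd_conjC_ortho nsHL odd le_rfl S]
    · rw [← map_sub, coh.eq _ (seqInd_sub_aut_zchar nsHL _ S)]
  obtain ⟨a1, a2, a3, a4, a5, a6⟩ := key odd₁ ddA₁ coh₁ irr₁ S₁
  obtain ⟨b1, b2, b3, b4, b5, b6⟩ := key odd₂ ddA₂ coh₂ irr₂ S₂
  refine (vchar_pairs_orthonormal (u := 1) (v := 1) a1 a2 b1 b2 a3 a4 a5 b3 b4 b5 one_ne_zero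
    one_ne_zero ?_ ?_ ?_).1
  · rw [Complex.ofReal_one, one_smul, one_smul, a6, b6, disjoint_Dade_ortho disj]
  · rw [a6, Dade1 ddA₁]
  · rw [Complex.ofReal_one, one_smul, one_smul, b6, Dade1 ddA₂]

theorem avoid_of_ti (ht : t * t = 1) (ht1 : t ≠ 1) (odd : Odd (Nat.card L))
    (ti : NormedTI (sharp H) ⊤ L) : Avoid t (classSupport (sharp H) ⊤) := by
  have key : ∀ g : G, g * t * g⁻¹ ∉ L := by
    intro g hg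
    have h1 : orderOf (g * t * g⁻¹) = 2 := by
      rw [← MulAut.conj_apply, MulEquiv.orderOf_eq]
      exact orderOf_eq_prime (by rw [pow_two, ht]) ht1
    have h2 := odd.of_dvd_nat (h1 ▸ order_dvdG hg)
    exact absurd h2 (by decide)
  refine ⟨?_, ?_⟩
  · rintro ⟨a, ha, g, -, e⟩
    refine key g⁻¹ ?_
    rw [e, show g⁻¹ * (g * a * g⁻¹) * g⁻¹⁻¹ = a by group]
    exact ti.ti a trivial a ha (by rwa [mul_inv_cancel_right])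
  · rintro g h ⟨a, ha, k, -, e⟩
    refine key (k⁻¹ * g) (ti.ti _ trivial a ha ?_)
    have hi : t⁻¹ = t := inv_eq_of_mul_eq_one_right ht
    have h1 : a = k⁻¹ * (g * t * g⁻¹ * (h * t * h⁻¹)) * k := by rw [e]; group
    have h2 : k⁻¹ * g * t * (k⁻¹ * g)⁻¹ * a * (k⁻¹ * g * t * (k⁻¹ * g)⁻¹)⁻¹ = a⁻¹ := by
      rw [h1]
      simp only [mul_inv_rev, inv_inv, hi, mul_assoc, inv_mul_cancel_left, mul_inv_cancel_left]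
      rw [← mul_assoc t t, ht, one_mul, mul_inv_cancel_left]
    rw [h2]
    exact ⟨inv_mem ha.1, fun e => ha.2 (inv_eq_one.1 e)⟩

theorem coh_mem_RatS (ddA : DadeHypothesis (sharp H) L D) (frob : IsFrobKer L H)
    {ν : (G → ℂ) →ₗ[ℂ] (G → ℂ)}
    (coh : CoherentWith L ⊤ (seqIndD H L H ⊥) {1}ᶜ (Dade (sharp H) D) ν) {ζ : G → ℂ}
    (Sζ : ζ ∈ seqIndD H L H ⊥) (ζ1 : ζ 1 = H.relIndex L) (ht : t ∉ DadeSupp (sharp H) D)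
    {ξ : G → ℂ} (hξ : ξ ∈ seqIndD H L H ⊥) : ν ξ ∈ RatS t (ν ζ t / ν ζ 1) := by
  have irr := seqIndC1_Frobenius_irr frob
  refine dirr_mem_RatS' (coh.dirr hξ (irr hξ)) ?_
  have e := coh_Dade_sub_lin ddA coh Sζ ζ1 hξ
  have e1 := congrFun e 1
  have e2 := congrFun e t
  rw [Dade1 ddA] at e1
  rw [Dade_of_not_mem _ ht] at e2
  simp only [Pi.sub_apply, Pi.smul_apply, smul_eq_mul] at e1 e2
  have h0 := dirr_one_ne_zero (coh.dirr Sζ (irr Sζ))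
  rw [sub_eq_zero.1 e1.symm, sub_eq_zero.1 e2.symm]
  field_simp

theorem pair_vanish [IsSimpleGroup G] (ht : t * t = 1) (ht1 : t ≠ 1)
    (odd₁ : Odd (Nat.card L₁)) (odd₂ : Odd (Nat.card L₂)) (frob₁ : IsFrobKer L₁ H₁)
    (frob₂ : IsFrobKer L₂ H₂) (nil₁ : Group.IsNilpotent H₁) (nil₂ : Group.IsNilpotent H₂)
    (ti₁ : NormedTI (sharp H₁) ⊤ L₁) (ti₂ : NormedTI (sharp H₂) ⊤ L₂)
    (cop : (Nat.card H₁).Coprime (Nat.card H₂))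
    (ineq : (H₂.relIndex L₂ - 1) * H₁.relIndex L₁ ≤ Nat.card H₁ - 1) {ζ χ : G → ℂ}
    (Sζ : ζ ∈ seqIndD H₁ L₁ H₁ ⊥) (ζ1 : ζ 1 = H₁.relIndex L₁) (hχ : χ ∈ Dirr (⊤ : Subgroup G))
    (hd : dot ⊤ (ind L₁ ⊤ (ζ - cj ζ)) χ ≠ 0) {c : G} (hc : c ∈ sharp H₂) : χ c = 0 := by
  classical
  have ns₁ := frob₁.normal
  have ns₂ := frob₂.normal
  have dd₁ := normedTI_sharp_Dade ti₁
  have dd₂ := normedTI_sharp_Dade ti₂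
  have hT₁ := seqIndD_subT H₁ L₁ H₁ ⊥
  have hT₂ := seqIndD_subT H₂ L₂ H₂ ⊥
  obtain ⟨ν₁, coh₁⟩ : Coherent L₁ ⊤ (seqIndD H₁ L₁ H₁ ⊥) {1}ᶜ (Dade (sharp H₁) fun _ => ⊥) :=
    (Sibley_coherence_frob odd₁ nil₁ ti₁ frob₁).congr le_rfl fun φ hφ =>
      (Dade_Ind dd₁ ti₁ (zcharD1_seqInd_on ns₁ hT₁ hφ)).symm
  obtain ⟨ν₂, coh₂⟩ : Coherent L₂ ⊤ (seqIndD H₂ L₂ H₂ ⊥) {1}ᶜ (Dade (sharp H₂) fun _ => ⊥) :=
    (Sibley_coherence_frob odd₂ nil₂ ti₂ frob₂).congr le_rfl fun φ hφ =>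
      (Dade_Ind dd₂ ti₂ (zcharD1_seqInd_on ns₂ hT₂ hφ)).symm
  obtain ⟨ζ₂, S₂, ζ₂1⟩ := exists_seqIndC1_lin ns₂.le frob₂.ne_bot inferInstance
  have irr₁ := seqIndC1_Frobenius_irr frob₁
  have irr₂ := seqIndC1_Frobenius_irr frob₂
  have nt₁ := seqInd_nontrivial ns₁ odd₁ le_rfl Sζ
  have nt₂ := seqInd_nontrivial ns₂ odd₂ le_rfl S₂
  have DA₁ : DadeSupp (sharp H₁) (fun _ => ⊥) = classSupport (sharp H₁) ⊤ :=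
    DadeSupp_of_bot fun _ _ => rfl
  have DA₂ : DadeSupp (sharp H₂) (fun _ => ⊥) = classSupport (sharp H₂) ⊤ :=
    DadeSupp_of_bot fun _ _ => rfl
  have av₁ := DA₁ ▸ avoid_of_ti ht ht1 odd₁ ti₁
  have av₂ := DA₂ ▸ avoid_of_ti ht ht1 odd₂ ti₂
  have disj : Disjoint (DadeSupp (sharp H₂) fun _ => ⊥) (DadeSupp (sharp H₁) fun _ => ⊥) := by
    rw [DA₁, DA₂]
    exact disjoint_classSupport_sharp_of_coprime cop.symm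
  have oν : ∀ ξ ∈ seqIndD H₂ L₂ H₂ ⊥, ∀ ξ' ∈ seqIndD H₁ L₁ H₁ ⊥, dot ⊤ (ν₂ ξ) (ν₁ ξ') = 0 :=
    fun ξ hξ ξ' hξ' => disjoint_coherent_ortho' odd₂ odd₁ dd₂ dd₁ disj coh₂ coh₁ (irr₂ hξ) hξ
      (irr₁ hξ') hξ'
  have o₁ := coh_seqIndC1_ortho_1 dd₁ coh₁ nt₁ (irr₁ Sζ) Sζ ζ1
  set β := Dade (sharp H₂) (fun _ => ⊥) (ind H₂ L₂ (cf1 H₂) - ζ₂) with hβ
  obtain ⟨⟨o₂, -, βv⟩, ⟨Γ, -, -, ⟨a, hΓ⟩, hb⟩, -⟩ :=
    Dade_Ind1_sub_lin dd₂ coh₂ nt₂ (irr₂ S₂) S₂ ζ₂1 hβ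
  have hb2 := (hb (odd_Frobenius_index_ler odd₂ frob₂)).2
  have e2 : ∀ ξ ∈ seqIndD H₁ L₁ H₁ ⊥,
      dot ⊤ β (ν₁ ξ) = ξ 1 / H₁.relIndex L₁ * dot ⊤ β (ν₁ ζ) := by
    intro ξ hξ
    have e2 := disjoint_Dade_ortho disj (ind H₂ L₂ (cf1 H₂) - ζ₂)
      (ξ - (ξ 1 / H₁.relIndex L₁) • ζ)
    rw [coh_Dade_sub_lin dd₁ coh₁ Sζ ζ1 hξ, dot_sub_right, dot_smul_right,
      map_div₀, (seqInd_char ns₁ (hT₁ hξ)).conj_one, map_natCast] at e2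
    exact sub_eq_zero.mp e2
  have b0 : dot ⊤ β (ν₁ ζ) = 0 := by
    by_contra b0
    have b1 := one_le_norm_sq_of_vchar βv (coh₁.vc_map Sζ) b0
    set Y := ∑ ξ ∈ seqIndD H₁ L₁ H₁ ⊥, (ξ 1 / H₁.relIndex L₁ / nrm L₁ ξ) • ν₁ ξ with hY
    set m : ℝ := ((Nat.card H₁ : ℝ) - 1) / H₁.relIndex L₁ with hm
    have nY : nrm ⊤ Y = m := nrm_sum_seqIndC1_coh ns₁ coh₁
    have dY : dot ⊤ Γ Y = dot ⊤ β (ν₁ ζ) * m := by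
      refine dot_sum_seqIndC1_coh ns₁ fun ξ hξ => ?_
      rw [← e2 ξ hξ, hΓ, dot_add_left, dot_add_left, dot_sub_left, dot_smul_left, dot_sum_left,
        Finset.sum_eq_zero, dot_eq_zero_comm.mp (o₁ ξ hξ), oν _ S₂ ξ hξ]
      · ring
      · intro ξ' hξ'
        rw [dot_smul_left, oν ξ' hξ' ξ hξ, mul_zero]
    have u0 : (0 : ℝ) < H₁.relIndex L₁ := by exact_mod_cast relIndex_pos H₁ L₁
    have h1 : 1 < Nat.card H₁ := (Subgroup.one_lt_card_iff_ne_bot H₁).2 frob₁.ne_bot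
    have m0 : 0 < m := div_pos (sub_pos.2 (by exact_mod_cast h1)) u0
    have m1 : nrm ⊤ Γ ≤ m := by
      refine hb2.trans ((le_div_iff₀ u0).2 ?_)
      have h2 : 1 ≤ H₂.relIndex L₂ := relIndex_pos H₂ L₂
      have h3 : (((H₂.relIndex L₂ - 1) * H₁.relIndex L₁ : ℕ) : ℝ) ≤ (Nat.card H₁ - 1 : ℕ) := by
        exact_mod_cast ineq
      rwa [Nat.cast_mul, Nat.cast_sub h2, Nat.cast_sub h1.le, Nat.cast_one] at h3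
    have cs := norm_dot_sq_le ⊤ Γ Y
    have hY0 : Y ≠ 0 := (nrm_pos (H := ⊤)).1 (nY ▸ m0)
    have e3 : ‖dot ⊤ Γ Y‖ ^ 2 = nrm ⊤ Γ * nrm ⊤ Y := by
      refine le_antisymm cs ?_
      rw [dY, nY, norm_mul, mul_pow, Complex.norm_real, Real.norm_of_nonneg m0.le]
      nlinarith [mul_pos m0 m0]
    have e4 := eq_smul_of_norm_dot_sq_eq hY0 e3
    have r₁ := fun ξ hξ => coh_mem_RatS dd₁ frob₁ coh₁ Sζ ζ1 av₁.1 (ξ := ξ) hξ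
    have r₂ := fun ξ hξ => coh_mem_RatS dd₂ frob₂ coh₂ S₂ ζ₂1 av₂.1 (ξ := ξ) hξ
    refine one_ne_zero (three_term_one (c := 1) (θ := β)
      (f₁ := -ν₂ ζ₂ + (a : ℂ) • ∑ ξ ∈ seqIndD H₂ L₂ H₂ ⊥, (ξ 1 / H₂.relIndex L₂ / nrm L₂ ξ) • ν₂ ξ)
      (f₂ := Γ) (av₂.van ht fun x hx => Dade_of_not_mem _ hx) ?_ ?_ ?_
      (ratio_ne_one ht1 (coh₂.dirr S₂ (irr₂ S₂)) (o₂ _ S₂))
      (ratio_ne_one ht1 (coh₁.dirr Sζ (irr₁ Sζ)) (o₁ _ Sζ)))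
    · rw [one_smul, ← add_assoc, ← sub_eq_add_neg]
      exact hΓ
    · exact add_mem (neg_mem (r₂ _ S₂)) (Submodule.smul_mem _ _
        (Submodule.sum_mem _ fun ξ hξ => Submodule.smul_mem _ _ (r₂ ξ hξ)))
    · rw [e4]
      exact Submodule.smul_mem _ _
        (Submodule.sum_mem _ fun ξ hξ => Submodule.smul_mem _ _ (r₁ ξ hξ))
  have van : ∀ ξ ∈ seqIndD H₁ L₁ H₁ ⊥, ν₁ ξ c = 0 := by
    intro ξ hξ
    have h1 := (invDade_vchar_of_ortho_coh dd₂ coh₂ S₂ ζ₂1 hβ (coh₁.vc_map hξ)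
      fun ξ' hξ' => oν ξ' hξ' ξ hξ).1 c hc
    rwa [e2 ξ hξ, b0, mul_zero, invDade_eq_of_const hc fun u hu => by
      rw [Subgroup.mem_bot.1 hu, mul_one]] at h1
  have S' : cj ζ ∈ seqIndD H₁ L₁ H₁ ⊥ := cfAut_seqInd _ Sζ
  have hz := seqInd_sub_aut_zchar ns₁ (starRingEnd ℂ) Sζ
  rw [← Dade_Ind dd₁ ti₁ (zcharD1_seqInd_on ns₁ hT₁ hz), ← coh₁.eq _ hz, map_sub,
    dot_sub_left] at hd
  have fin : ∀ ξ ∈ seqIndD H₁ L₁ H₁ ⊥, dot ⊤ (ν₁ ξ) χ ≠ 0 → χ c = 0 := by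
    intro ξ hξ h
    rw [Ne, dot_dirr_eq_zero (coh₁.dirr hξ (irr₁ hξ)) hχ, not_and_or, not_not, not_not] at h
    have h1 := van ξ hξ
    rcases h with h | h
    · rwa [h] at h1
    · rwa [h, Pi.neg_apply, neg_eq_zero] at h1
  by_contra hne
  exact hd (by rw [not_not.1 fun h => hne (fin _ Sζ h), not_not.1 fun h => hne (fin _ S' h),
    sub_zero])

end Cfsg.Lib.PG
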