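import Cfsg.Agent.PG.Defs
import Cfsg.Agent.FT.PF10Defs

/-!
Odd components of the prime graph: interfaces of the character theoretic steps.
-/

set_option autoImplicit false

open Pointwise Cfsg Cfsg.Lib.Solv Cfsg.Lib.FT

namespace Cfsg.Lib.PG

variable {G : Type*} [Group G]

/-- Neither `t` nor a product of two conjugates of `t` lies in `A`. -/
def Avoid (t : G) (A : Set G) : Prop :=
  t ∉ A ∧ ∀ g h : G, g * t * g⁻¹ * (h * t * h⁻¹) ∉ A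

/-- `T345Hyp` with `M` of odd order instead of `G`. -/
structure T345 (M K W W₁ W₂ : Subgroup G) (A₀ : Set G) (R : G → Subgroup G) : Prop where
  dd : PrimeDadeHyp M K K W W₁ W₂ (sharp K) A₀ R
  prime : (Nat.card W₂).Prime
  W₂_le : W₂ ≤ ⁅K, K⁆
  odd : Odd (Nat.card M)
  sol : Group.IsSolvable K

/-- The last configuration in the proof of `Gate.PGO`. -/
structure Last (S H₁ U H₂ D : Subgroup G) (y c : G) : Prop where
  normal : S.Normal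
  simple : IsSimpleGroup S
  nonab : ¬ IsMulCommutative S
  prime : S.index.Prime
  y_not : y ∉ S
  y_ord : orderOf y = S.index
  le₁ : H₁ ≤ S
  le₂ : H₂ ≤ S
  nil₁ : Group.IsNilpotent H₁
  nil₂ : Group.IsNilpotent H₂
  iso₁ : ∀ x ∈ H₁, x ≠ 1 → S ⊓ 𝐂₁ x ≤ H₁
  iso₂ : ∀ x ∈ H₂, x ≠ 1 → S ⊓ 𝐂₁ x ≤ H₂
  cop : (Nat.card H₁).Coprime (Nat.card H₂)
  frob₁ : IsFrob (S ⊓ 𝐍 H₁) H₁ U
  frob₂ : IsFrob (S ⊓ 𝐍 H₂) H₂ D
  odd₁ : Odd (Nat.card (𝐍 H₁))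
  odd₂ : Odd (Nat.card (𝐍 H₂))
  y_norm₁ : y ∈ 𝐍 H₁
  y_normU : y ∈ 𝐍 U
  y_fpf : U ⊓ 𝐂₁ y = ⊥
  c_mem : c ∈ H₂
  c_ne : c ≠ 1
  c_comm : Commute y c
  ineq : (Nat.card D - 1) * Nat.card U ≤ Nat.card H₁ - 1

end Cfsg.Lib.PG
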