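import Cfsg.Agent.PG.OMin
import Cfsg.Agent.PG.Defs2

/-!
The minimal counterexample to `Gate.PGO`: isolated nilpotent subgroups.
-/

set_option autoImplicit false
set_option linter.unusedSectionVars false

open Pointwise Cfsg Cfsg.Lib.Solv Cfsg.Lib.FT

namespace Cfsg.Lib.PG

universe u

variable {X : Type u} [Group X] [Finite X] {Δ : Set ℕ} {S H H' K E Y : Subgroup X}
  {x y g : X} {r : ℕ}

/-- `H` is a nontrivial nilpotent subgroup which is isolated in `S`. -/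
structure IN (S H : Subgroup X) : Prop where
  le : H ≤ S
  ne : H ≠ ⊥
  nil : Group.IsNilpotent H
  iso : ∀ x ∈ H, x ≠ 1 → S ⊓ 𝐂₁ x ≤ H

namespace IN

theorem conj (h : IN S H) (hg : g ∈ 𝐍 S) : IN S (g •ᶜ H) where
  le := conj_sub_norm hg h.le
  ne := fun e => h.ne (conj_smul_eq_bot_iff.1 e)
  nil := (nilpotentJ g).2 h.nil
  iso x hx h1 := by
    obtain ⟨a, ha, rfl⟩ := mem_conj_smul_iff_exists.1 hx
    rw [cent1J, ← normP.1 hg, ← conjIg, conjSg]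
    exact h.iso a ha fun e => h1 (conjg_eq1.2 e)

theorem nil_le (h : IN S H) (hK : K ≤ S) (hn : Group.IsNilpotent K) (h1 : H ⊓ K ≠ ⊥) : K ≤ H := by
  obtain ⟨a, ha, ha1⟩ := trivgPn.1 h1
  obtain ⟨z, hz, hz1⟩ := trivgPn.1 (mt (center_nil_eq1 hn).1 (subG1_contra inf_le_right h1))
  exact (le_inf hK (le_cent1_iff.2 hz.2)).trans
    (h.iso z (h.iso a ha.1 ha1 ⟨hK hz.1, cent_le_cent1 ha.2 hz.2⟩) hz1)

theorem eq (h : IN S H) (h' : IN S H') (h1 : H ⊓ H' ≠ ⊥) : H = H' :=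
  le_antisymm (h'.nil_le h.le h.nil (by rwa [inf_comm])) (h.nil_le h'.le h'.nil h1)

theorem conj_eq (h : IN S H) (h' : IN S H') (hg : g ∈ 𝐍 S) (hx : x ∈ H) (h1 : x ≠ 1)
    (hc : g * x * g⁻¹ ∈ H') : g •ᶜ H = H' :=
  (h.conj hg).eq h' (trivgPn.2 ⟨_, ⟨conj_mem_conj_smul g hx, hc⟩, fun e => h1 (conjg_eq1.1 e)⟩)

theorem mem_norm (h : IN S H) (hg : g ∈ 𝐍 S) (hx : x ∈ H) (h1 : x ≠ 1) (hc : g * x * g⁻¹ ∈ H) :
    g ∈ 𝐍 H := normP.2 (h.conj_eq h hg hx h1 hc)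

theorem mem_norm_of_norm (h : IN S H) (hg : g ∈ 𝐍 S) (hK : K ≤ H) (h1 : K ≠ ⊥) (hc : g ∈ 𝐍 K) :
    g ∈ 𝐍 H :=
  let ⟨_, ha, ha1⟩ := trivgPn.1 h1
  h.mem_norm hg (hK ha) ha1 (hK ((memJ_norm hc).2 ha))

theorem mem_norm_of_comm (h : IN S H) (hg : g ∈ 𝐍 S) (hx : x ∈ H) (h1 : x ≠ 1)
    (hc : Commute x g) : g ∈ 𝐍 H :=
  h.mem_norm hg hx h1 (by rwa [← hc.eq, mul_inv_cancel_right])

theorem sub (h : IN S H) (hY : Y ≤ S) : Iso (H.subgroupOf Y) := fun x hx h1 a ha =>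
  h.iso x hx (fun e => h1 (Subtype.ext e)) ⟨hY a.2, mem_cent1.2 (congrArg Subtype.val (mem_cent1.1 ha))⟩

theorem hall (h : IN S H) : IsHallOf H S := by
  have := (h.sub le_rfl).hall.2
  rw [card_subgroupOf_of_le h.le, Subgroup.relIndex_top_right] at this
  exact ⟨h.le, this⟩

theorem exists_conj_mem (h : IN S H) (hY : Y ≤ S) (hx : x ∈ Y) (hp : (orderOf x).Prime)
    (hd : orderOf x ∣ Nat.card ↥(H ⊓ Y)) : ∃ g ∈ Y, g * x * g⁻¹ ∈ H := by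
  obtain ⟨g, hg⟩ := exists_conj_mem_of_hall (x := (⟨x, hx⟩ : Y)) (h.sub hY).hall
    (by rwa [Subgroup.orderOf_mk]) (by rwa [Subgroup.orderOf_mk, card_subgroupOf])
  exact ⟨g, g.2, hg⟩

theorem exists_conj (h : IN S H) (h' : IN S H') (hS : Y ≤ S) (hr : r.Prime)
    (hd : r ∣ Nat.card ↥(H ⊓ Y)) (hd' : r ∣ Nat.card ↥(H' ⊓ Y)) : ∃ g ∈ Y, g •ᶜ H = H' := by
  obtain ⟨a, ha, rfl⟩ := Cauchy hr hd
  obtain ⟨g, hg, hc⟩ := h'.exists_conj_mem hS ha.2 hr hd'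
  exact ⟨g, hg, h.conj_eq h' (normG S (hS hg)) ha.1 (ne_one_of_prime_order hr) hc⟩

theorem pi (h : IN S H) (hs : Sep X Δ) (hx : x ∈ H) (h1 : x ≠ 1) (hπ : PiElt Δ x) :
    IsPiSubgroup Δ H := by
  obtain ⟨z, hz, hz1⟩ := trivgPn.1 (mt (center_nil_eq1 h.nil).1 h.ne)
  exact pgroupS (le_cent1_iff.2 hz.2) (hs z hz1 (hs.elt h1 hπ (cent_le_cent1 hx hz.2)))

theorem frobKer (h : IN S H) (hs : IsSimpleGroup S) (hn : ¬ IsMulCommutative S)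
    (ho : Odd (Nat.card H)) : IsFrobKer (S ⊓ 𝐍 H) H := by
  refine IsFrobKer.of_cent1 h.ne (lt_of_le_of_ne (normalSG h.le).le fun e => ?_) (normalSG h.le)
    fun x hx h1 => (inf_le_inf_right _ inf_le_left).trans (h.iso x hx h1)
  obtain ⟨r, hr, hd⟩ := exists_prime_dvd_card h.ne
  have := Fact.mk hr
  have hS := nilpotent_pcore_Hall {r} h.nil
  obtain ⟨B, b1, b2, -, b4⟩ := exists_not_nil hs hn (fun e => (Nat.not_even_iff_odd.2 ho)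
    (even_iff_two_dvd.2 (e ▸ hd))) (subHall_Sylow (Hall_pi h.hall) ⟨hr, hd⟩ hS) (Sylow_ne_bot hS hd)
  refine b4 (nilpotentS (fun a ha => ?_) h.nil)
  rw [e]
  exact ⟨ha.1, h.mem_norm_of_norm (normG S ha.1) (b2.trans (pcore_sub _ H)) b1 ha.2⟩

end IN

namespace Min

theorem norms_inf (h : Min S Δ) (hy : y ∈ 𝐍 K) : y ∈ 𝐍 (K ⊓ S) :=
  normsI (A := Subgroup.zpowers y) (Subgroup.zpowers_le.2 hy) (fun g _ => h.norm g)
    (Subgroup.mem_zpowers y)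

theorem compl_of_not_dvd (h : Min S Δ) (hH : IN S H) (hπ : IsPiSubgroup Δ H) (hy : y ∉ S)
    (ho : orderOf y = S.index) (hn : y ∈ 𝐍 H) (hd : ¬ S.index ∣ Nat.card H) :
    ∃ E, IsFrob (S ⊓ 𝐍 H) H E ∧ y ∈ 𝐍 E := by
  have := h.normal
  have h1 : IsPiHallOf (piOf (Nat.card H)) H (𝐍 H) :=
    pHall_trans (pHall_subl (normalSG hH.le).le inf_le_left (Hall_pi hH.hall)) inf_le_right (by
      rw [Subgroup.inf_relIndex_right, relIndex_of_not_le h.prime fun e => hy (e hn), pnatE h.prime]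
      exact fun e => hd e.2)
  obtain ⟨E, e1, e2⟩ := Hall_superset (π := (piOf (Nat.card H))ᶜ)
    (odd_order_solvable (h.odd H hH.ne hπ)) (Subgroup.zpowers_le.2 hn)
    (pgroup_zpowers.2 ((p_elt_prime ho h.prime).2 fun e => hd e.2))
  have h2 := (sdprod_normal_pHall (normalG H) h1 e1).modr hH.le
  rw [inf_comm (𝐍 H)] at h2
  exact ⟨_, (hH.frobKer h.simple h.nonab (odd_of_pi h.two hπ)).set_compl h2,
    h.norms_inf (normG E (e2 (Subgroup.mem_zpowers y)))⟩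

theorem exists_not_mem (h : Min S Δ) : ∃ g, g ∉ S := by
  by_contra e
  push Not at e
  exact h.prime.ne_one (Subgroup.index_eq_one.2 (eq_top_iff.2 fun g _ => e g))

theorem exists_elt_of_dvd (h : Min S Δ) (hH : IN S H) (hπ : IsPiSubgroup Δ H)
    (hd : S.index ∣ Nat.card H) : ∃ y ∉ S, orderOf y = S.index ∧ y ∈ 𝐍 H ∧
      ∃ E, IsFrob (S ⊓ 𝐍 H) H E ∧ y ∈ 𝐍 E := by
  have := h.normal
  obtain ⟨E, hE⟩ := hH.frobKer h.simple h.nonab (odd_of_pi h.two hπ)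
  obtain ⟨g, hg⟩ := h.exists_not_mem
  obtain ⟨a, ha, e⟩ := (hH.conj (h.norm g)).exists_conj hH le_rfl h.prime
    (by rwa [inf_eq_left.2 (hH.conj (h.norm g)).le, card_conj_smul])
    (by rwa [inf_eq_left.2 hH.le])
  rw [← conj_mul_smul] at e
  have h1 := hE.sdprod.conj (a * g)
  rw [conjIg, ← normJ, e, normP.1 (h.norm _)] at h1
  obtain ⟨k, hk, e'⟩ := hE.sdprod.exists_conj_eq h1 hE.coprime (Or.inl (nilpotent_sol hH.nil))
  have h2 : k⁻¹ * (a * g) ∈ 𝐍 H ⊓ 𝐍 E :=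
    ⟨mul_mem (normG H (inv_mem hk)) (normP.2 e),
      normP.2 (by rw [conj_mul_smul, ← e', conj_inv_smul_conj_smul])⟩
  have h3 : k⁻¹ * (a * g) ∉ S := by
    rwa [S.mul_mem_cancel_left (hH.le (inv_mem hk)), S.mul_mem_cancel_left ha]
  have h4 := groupX_constt {S.index} h2
  have h5 := constt_index_not_mem h.prime h3
  have h6 := p_elt_constt {S.index} (k⁻¹ * (a * g))
  generalize constt {S.index} (k⁻¹ * (a * g)) = y at h4 h5 h6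
  have := Fact.mk h.prime
  refine ⟨y, h5, orderOf_eq_prime ?_ (ne_one h5), h4.1, E, hE, h4.2⟩
  refine p_elt_eq_one (p_eltX h6 _) (mem_p_elt (H := E) ((p'groupE h.prime).2 fun e =>
    h.prime.ne_one (Nat.eq_one_of_dvd_coprimes hE.coprime hd e))
    (hE.norm_le_compl le_rfl hE.compl_ne ⟨⟨S.pow_index_mem y, pow_mem h4.1 _⟩, pow_mem h4.2 _⟩))

theorem exists_elt (h : Min S Δ) (hB : ∀ x ∈ S, x ≠ 1 → PiElt Δ x → ∃ H, IN S H ∧ x ∈ H) :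
    ∃ y ∉ S, orderOf y = S.index ∧ ∀ H, IN S H → IsPiSubgroup Δ H → y ∈ 𝐍 H →
      ∃ E, IsFrob (S ⊓ 𝐍 H) H E ∧ y ∈ 𝐍 E := by
  have := Fact.mk h.prime
  by_cases hd : S.index ∣ Nat.card S
  · obtain ⟨x, hx, ho⟩ := Cauchy h.prime hd
    have x1 := ne_one_of_prime_order (ho ▸ h.prime)
    have x2 := (p_elt_prime ho h.prime).2 h.mem
    obtain ⟨H₁, h1, h2⟩ := hB x hx x1 x2
    have h3 : S.index ∣ Nat.card H₁ := ho ▸ order_dvdG h2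
    obtain ⟨y, y1, y2, y3, E, e1, e2⟩ := h.exists_elt_of_dvd h1 (h1.pi h.sep h2 x1 x2) h3
    have key : ∀ H, IN S H → y ∈ 𝐍 H → S.index ∣ Nat.card H →
        S.index ∣ Nat.card ↥(H ⊓ (S ⊓ 𝐂₁ y)) := fun H hH hn hd => by
      have h4 := pgroup_cent_ne_bot (isPGroup_of_card_prime ((Nat.card_zpowers y).trans y2))
        (pcore_isPGroup S.index H) (norms_pcore _ (Subgroup.zpowers_le.2 hn))
        (Sylow_ne_bot (nilpotent_pcore_Hall _ hH.nil) hd)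
      rw [cent_zpowers] at h4
      exact (pgroup_dvd_card (isPGroupS inf_le_left (pcore_isPGroup _ H)) h4).trans (cardSg
        fun a ha => ⟨pcore_sub _ H ha.1, hH.le (pcore_sub _ H ha.1), ha.2⟩)
    refine ⟨y, y1, y2, fun H hH hπ hn => ?_⟩
    by_cases hd : S.index ∣ Nat.card H
    · obtain ⟨g, hg, rfl⟩ := h1.exists_conj hH inf_le_left h.prime (key _ h1 y3 h3) (key _ hH hn hd)
      refine ⟨g •ᶜ E, ?_, ?_⟩
      · have := e1.conj g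
        rwa [conjIg, ← normJ, normP.1 (h.norm _)] at this
      · rw [normJ, mem_conj_smul, mul_assoc, ← mem_cent1.1 hg.2, inv_mul_cancel_left]
        exact e2
    · exact h.compl_of_not_dvd hH hπ y1 y2 hn hd
  · obtain ⟨y, -, ho⟩ := Cauchy (H := (⊤ : Subgroup X)) h.prime
      (by rw [Subgroup.card_top]; exact S.index_dvd_card)
    have hy : y ∉ S := fun e => hd (ho ▸ order_dvdG e)
    exact ⟨y, hy, ho, fun H hH hπ hn =>
      h.compl_of_not_dvd hH hπ hy ho hn fun e => hd (e.trans (cardSg hH.le))⟩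

section Last

variable (h : Min S Δ) (hB : ∀ x ∈ S, x ≠ 1 → PiElt Δ x → ∃ H, IN S H ∧ x ∈ H) (hy : y ∉ S)
  (ho : orderOf y = S.index)
  (hY : ∀ H, IN S H → IsPiSubgroup Δ H → y ∈ 𝐍 H → ∃ E, IsFrob (S ⊓ 𝐍 H) H E ∧ y ∈ 𝐍 E)
include h hB hy ho hY

/-- the fixed points of `y` do not lie in an isolated nilpotent subgroup -/
theorem not_le (hH : IN S H) (hπ : IsPiSubgroup Δ H) (hn : y ∈ 𝐍 H) : ¬ S ⊓ 𝐂₁ y ≤ H := by
  intro hC
  have hp : (orderOf y).Prime := ho ▸ h.prime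
  obtain ⟨D, d1, d2⟩ := hY H hH hπ hn
  have d3 : D ≤ S := d1.compl_le.trans inf_le_left
  have d4 : D ⊓ 𝐂₁ y = ⊥ := le_bot_iff.1 (d1.sdprod.inf ▸
    le_inf ((inf_le_inf_right _ d3).trans hC) inf_le_left)
  obtain ⟨d5, d6⟩ := TwoFrob.odd_cyclic d1.norm hH.ne d1.regular hp d2 (pow_orderOf_eq_one y) d4
  obtain ⟨B, b1, b2⟩ := exists_prime_subgroup_of_ne_bot d1.compl_ne
  have b3 := sub_cyclic_char d6 b1 d2
  have b4 := prime_ne_bot b2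
  obtain ⟨K, k1, k2, w, w1, w2, w3, w4⟩ : ∃ K : Subgroup X, H ⊓ K = ⊥ ∧ B ≤ K ∧
      ∃ w ∈ S, w ≠ 1 ∧ Commute w y ∧ w ∈ 𝐍 K := by
    by_cases hΔ : Nat.card B ∈ Δ
    · obtain ⟨b, hb, hb1⟩ := trivgPn.1 b4
      have b5 := mem_p_elt ((prime_pgroup rfl b2).2 hΔ) hb
      obtain ⟨K, k1, k2⟩ := hB b (d3 (b1 hb)) hb1 b5
      have k3 : B ≤ K := by
        rw [nt_gen_prime b2 hb hb1]; exact Subgroup.zpowers_le.2 k2
      have k4 := k1.mem_norm_of_norm (h.norm y) k3 b4 b3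
      have k5 : H ⊓ K = ⊥ := by
        by_contra e
        exact hb1 (d1.sdprod.eq_one (hH.eq k1 e ▸ k2) (b1 hb))
      obtain ⟨E, e1, e2⟩ := hY K k1 (k1.pi h.sep k2 hb1 b5) k4
      have e3 : E ⊓ 𝐂₁ y ≠ ⊥ := fun e => by
        obtain ⟨v, hv, v1, v2⟩ := exists_fix k1.nil e1.norm k4 e2 e1.compl_ne e1.regular hp e b2
          (cardSg k3)
        exact ne_one_of_prime_order (v1 ▸ b2) (Subgroup.mem_bot.1
          (k5 ▸ ⟨hC ⟨k1.le hv, mem_cent1_iff_commute.2 v2⟩, hv⟩))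
      obtain ⟨w, hw, hw1⟩ := trivgPn.1 e3
      exact ⟨K, k5, k3, w, (e1.compl_le hw.1).1, hw1, mem_cent1_iff_commute.1 hw.2, e1.norm hw.1⟩
    · obtain ⟨K, k1, k2⟩ := h.exists_norm ((prime_pgroup rfl b2).2 hΔ) hy b3 hp b2
        (fun e => (Nat.not_even_iff_odd.2 d5) (even_iff_two_dvd.2 (e ▸ cardSg b1))) dvd_rfl
      exact ⟨K, pgroup_TI hπ k1, k2⟩
  have w5 : w ∈ H := hC ⟨w1, mem_cent1_iff_commute.2 w3⟩
  obtain ⟨b, hb, hb1⟩ := trivgPn.1 b4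
  have : w * b * w⁻¹ * b⁻¹ ∈ H ⊓ K := Subgroup.mem_inf.2
    ⟨by simpa only [mul_assoc] using mul_mem w5 ((memJ_norm (d1.norm (b1 hb))).2 (inv_mem w5)),
      mul_mem ((memJ_norm w4).2 (k2 hb)) (inv_mem (k2 hb))⟩
  rw [k1, Subgroup.mem_bot, mul_inv_eq_one, mul_inv_eq_iff_eq_mul] at this
  exact w2 (d1.regular.eq_one (b1 hb) hb1 w5 this)

theorem exists_last : ∃ (H₁ U H₂ D : Subgroup X) (c : X), Last S H₁ U H₂ D y c := by
  have hp : (orderOf y).Prime := ho ▸ h.prime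
  have hπ : IsPiSubgroup Δ (S ⊓ 𝐂₁ y) := pgroupS inf_le_right (h.cent_pi hy)
  have hC : S ⊓ 𝐂₁ y ≠ ⊥ := fun e => h.not_sol
    (nilpotent_sol (Fpf.isNilpotent_of_prime hp (h.norm y) (pow_orderOf_eq_one y) e))
  have key : ∀ c ∈ S ⊓ 𝐂₁ y, c ≠ 1 → ∃ H E, IN S H ∧ c ∈ H ∧ IsPiSubgroup Δ H ∧ y ∈ 𝐍 H ∧
      IsFrob (S ⊓ 𝐍 H) H E ∧ y ∈ 𝐍 E := fun c hc h1 => by
    obtain ⟨H, a1, a2⟩ := hB c hc.1 h1 (mem_p_elt hπ hc)
    have a3 := a1.pi h.sep a2 h1 (mem_p_elt hπ hc)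
    have a4 := a1.mem_norm_of_comm (h.norm y) a2 h1 (mem_cent1_iff_commute.1 hc.2)
    obtain ⟨E, e1, e2⟩ := hY H a1 a3 a4
    exact ⟨H, E, a1, a2, a3, a4, e1, e2⟩
  obtain ⟨V, v1, v2⟩ := minnormal_exists hC (normG _)
  obtain ⟨p, -, v3⟩ := minnormal_solvable_abelem v2 (solvableS v1 (sol_of_pi h.two hπ))
  obtain ⟨c, c1, c2⟩ := trivgPn.1 v2.ne
  obtain ⟨H₂, D, a1, a2, a3, a4, d1, d2⟩ := key c (v1 c1) c2
  have v4 : V ≤ H₂ := a1.nil_le (v1.trans inf_le_left) (abelian_nil (abelem_abelian v3))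
    (trivgPn.2 ⟨c, ⟨a2, c1⟩, c2⟩)
  have hCN : S ⊓ 𝐂₁ y ≤ S ⊓ 𝐍 H₂ := fun g hg =>
    ⟨hg.1, a1.mem_norm_of_norm (h.norm g) v4 v2.ne (v2.norm hg)⟩
  have d3 : D ≤ S := d1.compl_le.trans inf_le_left
  have d4 : D ⊓ 𝐂₁ y ≠ ⊥ := fun e => h.not_le hB hy ho hY a1 a3 a4 fun g hg => by
    obtain ⟨k, hk, d, hd, rfl⟩ := d1.sdprod.exists_mul (hCN hg)
    have h1 := (d1.sdprod.unique ((memJ_norm a4).2 hk) hk ((memJ_norm d2).2 hd) hd (by
      rw [show y * k * y⁻¹ * (y * d * y⁻¹) = y * (k * d) * y⁻¹ by group, ← mem_cent1.1 hg.2,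
        mul_inv_cancel_right])).2
    rw [Fpf.eq_one_of_conj_eq e hd h1, mul_one]
    exact hk
  have d5 : Odd (Nat.card D) := oddSg d1.norm (h.odd _ a1.ne a3)
  obtain ⟨W, w1, w2⟩ := exists_prime_subgroup_of_ne_bot d4
  obtain ⟨w, w3, w4⟩ := trivgPn.1 (prime_ne_bot w2)
  obtain ⟨H₁, U, b1, b2, b3, b4, u1, u2⟩ := key w ⟨d3 (w1 w3).1, (w1 w3).2⟩ w4
  have d6 : D ≤ H₁ := fun d hd => by
    by_cases d0 : d = 1
    · exact d0 ▸ one_mem _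
    obtain ⟨a, ha, ap⟩ := exists_prime_order_pow d0
    have a5 : Subgroup.zpowers a ≤ D := Subgroup.zpowers_le.2 (Subgroup.zpowers_le.2 hd ha)
    have a6 : (Nat.card (Subgroup.zpowers a)).Prime := by rwa [Nat.card_zpowers]
    have w5 := w1.trans inf_le_left
    refine b1.iso a ?_ (ne_one_of_prime_order ap)
      ⟨d3 hd, cent1_le_cent1_of_mem_zpowers ha (cent1id d)⟩
    rcases prime_subgroupVti a6 W with e | e
    · rw [nt_gen_prime w2 w3 w4] at e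
      exact Subgroup.zpowers_le.2 b2 (e (Subgroup.mem_zpowers a))
    · exact b1.iso w b2 w4 ⟨d3 (a5 (Subgroup.mem_zpowers a)), cent_le_cent1 w3 (TI_cents
        (a5.trans (prime_odd_regular_normal d5 a1.ne d1.norm d1.regular w5 w2).norm)
        (w5.trans (prime_odd_regular_normal d5 a1.ne d1.norm d1.regular a5 a6).norm) e
        (Subgroup.mem_zpowers a))⟩
  have d7 : IsCyclic D :=
    nil_Zgroup_cyclic (odd_regular_zgroup d5 a1.ne d1.norm d1.regular) (nilpotentS d6 b1.nil)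
  have h12 : H₂ ⊓ H₁ = ⊥ := by
    by_contra e
    exact w4 (d1.sdprod.eq_one (a1.eq b1 e ▸ b2) (w1 w3).1)
  have d8 : D = H₁ ⊓ (S ⊓ 𝐍 H₂) := d1.sdprod.eq_of_le_of_inf_eq_bot (le_inf d6 d1.compl_le)
    inf_le_right (le_bot_iff.1 (h12 ▸ inf_le_inf_left _ inf_le_left))
  have u3 : U ⊓ 𝐂₁ y = ⊥ := le_bot_iff.1 fun a ha => by
    have a5 := hCN ⟨(u1.compl_le ha.1).1, ha.2⟩
    refine Subgroup.mem_bot.2 (u1.sdprod.eq_one (d6 (d1.norm_le_compl le_rfl d1.compl_ne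
      ⟨a5, ?_⟩)) ha.1)
    rw [d8]
    exact normsI (A := Subgroup.zpowers a) (Subgroup.zpowers_le.2 (u1.norm ha.1))
      (normsG (Subgroup.zpowers_le.2 a5)) (Subgroup.mem_zpowers a)
  have d9 : ∀ d ∈ D, (orderOf d).Prime → Commute d y := fun d hd dp => by
    obtain ⟨v, hv, e1, e2⟩ := exists_fix b1.nil u1.norm b4 u2 u1.compl_ne u1.regular hp u3 dp
      (order_dvdG (d6 hd))
    have e3 : v ∈ D := d8 ▸ ⟨hv, hCN ⟨b1.le hv, mem_cent1_iff_commute.2 e2⟩⟩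
    obtain ⟨n, rfl⟩ := Fpf.mem_zpowers_of_commute d1.norm a1.ne d1.regular dp e3 hd e1
      (pow_orderOf_eq_one d) (abelian_comm (cyclic_abelian d7) e3 hd)
    exact e2.zpow_left n
  have u4 : ∀ a ∈ U, ∀ d ∈ D, d ≠ 1 → a * d * a⁻¹ ∈ D → a = 1 := fun a ha d hd d0 hc => by
    obtain ⟨b, ⟨n, rfl⟩, bp⟩ := exists_prime_order_pow d0
    have e1 := d9 _ (zpow_mem hd n) bp
    have e2 := d9 (a * d ^ n * a⁻¹) (conj_zpow (a := a) ▸ zpow_mem hc n) (by rwa [orderJ])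
    have e3 : a⁻¹ * (y * a * y⁻¹) = 1 := u1.reg_compl.eq_one (d6 (zpow_mem hd n))
      (ne_one_of_prime_order bp) (mul_mem (inv_mem ha) ((memJ_norm u2).2 ha)) (by
        calc a⁻¹ * (y * a * y⁻¹) * d ^ n = a⁻¹ * (y * a * (y⁻¹ * d ^ n)) := by group
          _ = a⁻¹ * (y * (a * d ^ n * a⁻¹)) * a * y⁻¹ := by rw [← e1.inv_right.eq]; group
          _ = d ^ n * (a⁻¹ * (y * a * y⁻¹)) := by rw [← e2.eq]; group)
    exact Fpf.eq_one_of_conj_eq u3 ha (inv_mul_eq_one.1 e3).symm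
  refine ⟨H₁, U, H₂, D, c, h.normal, h.simple, h.nonab, h.prime, hy, ho, b1.le, a1.le, b1.nil,
    a1.nil, b1.iso, a1.iso, ?_, u1, d1, h.odd _ b1.ne b3, h.odd _ a1.ne a3, b4, u2, u3, a2, c2,
    (mem_cent1_iff_commute.1 (v1 c1).2).symm, ?_⟩
  · refine Nat.coprime_of_dvd fun r hr r1 r2 => ?_
    obtain ⟨g, -, e⟩ := b1.exists_conj a1 le_rfl hr (by rwa [inf_eq_left.2 b1.le])
      (by rwa [inf_eq_left.2 a1.le])
    have := d1.coprime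
    rw [← e, card_conj_smul] at this
    exact d1.compl_ne (trivg_card1.2 (Nat.eq_one_of_dvd_coprimes this (cardSg d6) dvd_rfl))
  · rw [← ncard_sharp, ← ncard_sharp, ← Nat.card_coe_set_eq, ← Nat.card_coe_set_eq, ← Nat.card_prod]
    refine Nat.card_le_card_of_injective (fun z => ⟨z.2 * z.1 * (z.2 : X)⁻¹,
      (conj_mem_sharp (u1.norm z.2.2)).2 (sharp_mono d6 z.1.2)⟩) ?_
    rintro ⟨⟨d, hd⟩, a, ha⟩ ⟨⟨d', hd'⟩, a', ha'⟩ e
    have e1 : a * d * a⁻¹ = a' * d' * a'⁻¹ := congrArg Subtype.val e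
    have e2 : a'⁻¹ * a * d * (a'⁻¹ * a)⁻¹ = d' := by
      rw [show a'⁻¹ * a * d * (a'⁻¹ * a)⁻¹ = a'⁻¹ * (a * d * a⁻¹) * a' by group, e1]; group
    have e3 := u4 _ (mul_mem (inv_mem ha') ha) d (mem_sharp.1 hd).1 (mem_sharp.1 hd).2
      (e2 ▸ (mem_sharp.1 hd').1)
    rw [e3, one_mul, inv_one, mul_one] at e2
    obtain rfl := inv_mul_eq_one.1 e3
    obtain rfl := e2
    rfl

end Last

end Min

end Cfsg.Lib.PG
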