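import Cfsg.Agent.PG.CPair
import Cfsg.Agent.PG.OIsol
import Cfsg.Agent.FT.Final

/-!
The last configuration: the exceptional characters of the normal simple subgroup vanish at `c`.
-/

set_option autoImplicit false

open Pointwise Cfsg Cfsg.Lib.Solv Cfsg.Lib.FT
open scoped ComplexConjugate

namespace Cfsg.Lib.PG

variable {X : Type*} [Group X] [Finite X] {S H K H₁ U H₂ D : Subgroup X} {y c : X}

omit [Finite X] in
theorem morphOn_id (h : K ≤ S) : MorphOn (MonoidHom.id S) K (K.subgroupOf S) :=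
  ⟨h, (MorphOn.of_injective (f := MonoidHom.id S) Function.injective_id h).ker, Subgroup.map_id _⟩

theorem IN.normedTI (h : IN S H) :
    NormedTI (sharp (H.subgroupOf S)) ⊤ ((S ⊓ 𝐍 H).subgroupOf S) := by
  obtain ⟨a, ha, a1⟩ := trivgPn.1 h.ne
  refine ⟨⟨⟨a, h.le ha⟩, ha, fun e => a1 (congrArg Subtype.val e)⟩, le_top,
    fun g hg b hb => ⟨(memJ_norm hg.2).2 hb.1, fun e => hb.2 (conjg_eq1.1 e)⟩,
    fun g _ b hb hc => ⟨g.2, h.mem_norm (Subgroup.le_normalizer g.2) hb.1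
      (fun e => hb.2 (Subtype.ext e)) hc.1⟩⟩

namespace Last

omit [Finite X] in
theorem in₁ (h : Last S H₁ U H₂ D y c) : IN S H₁ := ⟨h.le₁, h.frob₁.ker_ne, h.nil₁, h.iso₁⟩

omit [Finite X] in
theorem in₂ (h : Last S H₁ U H₂ D y c) : IN S H₂ := ⟨h.le₂, h.frob₂.ker_ne, h.nil₂, h.iso₂⟩

theorem vanish (h : Last S H₁ U H₂ D y c) {lam χ : X → ℂ} (hl : IsLin H₁ lam)
    (h1 : lam ≠ cf1 H₁) (hχ : χ ∈ Irr S)
    (hd : dot S (ind (S ⊓ 𝐍 H₁) S (ind H₁ (S ⊓ 𝐍 H₁) lam - cj (ind H₁ (S ⊓ 𝐍 H₁) lam))) χ ≠ 0) :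
    χ c = 0 := by
  have := h.simple
  have mS : MorphOn (MonoidHom.id S) S ⊤ := MorphOn.top Function.surjective_id
  have m₁ := morphOn_id h.le₁
  have m₂ := morphOn_id h.le₂
  have mL₁ := morphOn_id (inf_le_left : S ⊓ 𝐍 H₁ ≤ S)
  have mL₂ := morphOn_id (inf_le_left : S ⊓ 𝐍 H₂ ≤ S)
  have hk : pre (MonoidHom.id S) ⊥ = ⊥ := le_bot_iff.1 (morphOn_id bot_le).ker
  obtain ⟨lam', l1, rfl⟩ := m₁.exists_pull_irr hl.irr (hk ▸ bot_le)
  obtain ⟨χ', x1, rfl⟩ := mS.exists_pull_irr hχ (hk ▸ bot_le)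
  rw [mL₁.ind_pull m₁, ← pull_cfAut, ← map_sub, mS.ind_pull mL₁, mS.dot_pull (ind_mem_CF _ _ _)]
    at hd
  have ev : 2 ∣ Nat.card (⊤ : Subgroup S) := by
    rw [Subgroup.card_top, ← even_iff_two_dvd, ← Nat.not_odd_iff_even]
    exact fun e => h.nonab (IsSimpleGroup.comm_iff_isSolvable.2 (odd_order_solvable e) |> fun k =>
      ⟨⟨k⟩⟩)
  obtain ⟨t, -, t1, t2⟩ := exists_involution ev
  have o₁ : Odd (Nat.card ((S ⊓ 𝐍 H₁).subgroupOf S)) :=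
    h.odd₁.of_dvd_nat ((card_subgroupOf_dvd _ _).trans (cardSg inf_le_right))
  have o₂ : Odd (Nat.card ((S ⊓ 𝐍 H₂).subgroupOf S)) :=
    h.odd₂.of_dvd_nat ((card_subgroupOf_dvd _ _).trans (cardSg inf_le_right))
  rw [pull_apply _ (h.le₂ h.c_mem)]
  refine pair_vanish t1 t2 o₁ o₂ (h.frob₁.subgroupOf inf_le_left).isFrobKer
    (h.frob₂.subgroupOf inf_le_left).isFrobKer
    (m₁.img ▸ nilpotent_img _ h.nil₁) (m₂.img ▸ nilpotent_img _ h.nil₂) h.in₁.normedTI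
    h.in₂.normedTI ?_ ?_ (seqIndC1P.2 ⟨lam', l1, fun e => h1 (e ▸ m₁.pull_cf1), rfl⟩) ?_
    (mem_Dirr.2 (Or.inl x1)) hd ⟨h.c_mem, fun e => h.c_ne (congrArg Subtype.val e)⟩
  · rw [card_subgroupOf_of_le h.le₁, card_subgroupOf_of_le h.le₂]
    exact h.cop
  · rw [mL₁.relIndex m₁, mL₂.relIndex m₂, card_subgroupOf_of_le h.le₁,
      h.frob₁.sdprod.relIndex_left, h.frob₂.sdprod.relIndex_left]
    exact h.ineq
  · rw [ind_one (Subgroup.subgroupOf_mono _ h.frob₁.ker_le), ← pull_one (MonoidHom.id S) lam', hl.one,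
      mul_one]

end Last

end Cfsg.Lib.PG
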