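import Cfsg.Agent.FT.PF3Defs
import Cfsg.Agent.FT.Core

/-!
Odd components of the prime graph: the vocabulary of the structure theorem for simple groups.
-/

set_option autoImplicit false

open Pointwise Cfsg Cfsg.Lib.Solv Cfsg.Lib.FT

namespace Cfsg.Lib.PG

/-- Centralisers of non-identity `Δ`-elements are `Δ`-groups. -/
def Sep (G : Type*) [Group G] (Δ : Set ℕ) : Prop :=
  ∀ x : G, x ≠ 1 → PiElt Δ x → IsPiSubgroup Δ (𝐂₁ x)

/-- `Δ` is a connected component, not containing `2`, of the prime graph of `G`. -/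
structure Comp (G : Type*) [Group G] (Δ : Set ℕ) : Prop where
  two : 2 ∉ Δ
  sub : ∀ p ∈ Δ, p.Prime ∧ p ∣ Nat.card G
  ne : Δ.Nonempty
  sep : Sep G Δ
  conn : ∀ Γ : Set ℕ, Γ ⊆ Δ → Γ.Nonempty → Sep G Γ → Γ = Δ

variable {G : Type*} [Group G]

/-- `H` is a nilpotent Hall `Δ`-subgroup containing the centralisers of its non-identity elements. -/
structure Isol (Δ : Set ℕ) (H : Subgroup G) : Prop where
  nil : Group.IsNilpotent H
  hall : IsPiHallOf Δ H ⊤
  cent : ∀ x ∈ H, x ≠ 1 → 𝐂₁ x ≤ H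

/-- One half of the exceptional configuration: `N(P) = P ⋊ (U ⋊ W₁)`. -/
structure Side (P U W₁ W₂ : Subgroup G) : Prop where
  prime : (Nat.card W₁).Prime
  abelian : IsMulCommutative P
  card : Nat.card P = Nat.card W₂ ^ Nat.card W₁
  hall : IsHallOf P ⊤
  ti : NormedTI (sharp P) ⊤ (𝐍 P)
  sdprod : SDProd P (U ⊔ W₁) (𝐍 P)
  frobPU : IsFrob (P ⊔ U) P U
  frobUW : IsFrob (U ⊔ W₁) U W₁
  cyclic : IsCyclic U
  cent : P ⊓ 𝐂 W₁ = W₂

/-- The exceptional configuration: `Δ = {p, q}` and a self-normalising cyclic subgroup of order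
`p q`. -/
structure Special (Δ : Set ℕ) (P U Q V W₁ W₂ : Subgroup G) : Prop where
  S : Side P U W₁ W₂
  T : Side Q V W₂ W₁
  eq : Δ = {Nat.card W₁, Nat.card W₂}
  cycTI : CyclicTIHyp ⊤ (W₁ ⊔ W₂) W₁ W₂

end Cfsg.Lib.PG
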