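import Cfsg.Agent.FT.Final
import Cfsg.Agent.PG.Defs

/-!
The local analysis of the odd order theorem, for the normalisers of the `Δ`-subgroups of a simple
group, `Δ` an odd component of the prime graph: the context.
-/

set_option autoImplicit false
set_option linter.unusedSectionVars false

open Pointwise Cfsg Cfsg.Lib.Solv

namespace Cfsg.Lib.FT.PG

/-- The chosen set of primes `Δ`. -/
class Dl (G : Type*) where
  s : Set ℕ

/-- The chosen set of primes `Δ`. -/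
abbrev dl (G : Type*) [Dl G] : Set ℕ := Dl.s G

variable {G : Type*} [Group G] [Dl G] {H K L M X Y A B P Q : Subgroup G} {x y g : G} {p q : ℕ}
  {π : Set ℕ}

/-- `H` is a `Δ`-group -/
abbrev DG (H : Subgroup G) : Prop := IsPiSubgroup (dl G) H

/-- `H` normalises a nontrivial `Δ`-subgroup -/
def Loc (H : Subgroup G) : Prop := ∃ P : Subgroup G, P ≠ ⊥ ∧ DG P ∧ H ≤ 𝐍 P

/-- maximal `Δ`-local subgroups -/
def Mx (M : Subgroup G) : Prop := Loc M ∧ ∀ H : Subgroup G, M < H → ¬ Loc H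

/-- The standing hypothesis. -/
structure Ctx (G : Type*) [Group G] [Dl G] : Prop where
  fin : Finite G
  simple : IsSimpleGroup G
  nonab : ¬ IsMulCommutative G
  comp : Cfsg.Lib.PG.Comp G (dl G)
  odd : ∀ H : Subgroup G, Loc H → Odd (Nat.card H)

def InUniqueMaximal (X : Subgroup G) : Prop := ∃! M : Subgroup G, Mx M ∧ X ≤ M

def UniqMax (X M : Subgroup G) : Prop := Mx M ∧ X ≤ M ∧ ∀ L : Subgroup G, Mx L → X ≤ L → L = M

def sigma (M : Subgroup G) : Set ℕ :=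
  {p | p.Prime ∧ p ∣ Nat.card M ∧
    (∃ P : Sylow p M, Subgroup.normalizer (((P : Subgroup M).map M.subtype : Subgroup G) : Set G) ≤ M) ∧
    p ∈ dl G}

def sigmaCore (M : Subgroup G) : Subgroup G := (piCore (sigma M) M).map M.subtype

def kappa (M : Subgroup G) : Set ℕ :=
  {p | p.Prime ∧ p ∣ Nat.card M ∧ p ∉ sigma M ∧
    ∀ P : Sylow p M, IsCyclic P ∧
      ∃ x : M, x ∈ (P : Subgroup M) ∧ x ≠ 1 ∧ ∃ y ∈ sigmaCore M, y ≠ 1 ∧ (x : G) * y = y * x}

open scoped Classical in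
noncomputable def supportR (M : Subgroup G) (x : G) : Subgroup G :=
  if h : ¬ Subgroup.centralizer ({x} : Set G) ≤ M ∧
      ∃! L : Subgroup G, Mx L ∧ Subgroup.centralizer ({x} : Set G) ≤ L then
    fittingHallOf (Classical.choose h.2.exists) ⊓ Subgroup.centralizer ({x} : Set G)
  else ⊥

noncomputable def tildeOf (M : Subgroup G) (A : Set G) : Set G :=
  {g | ∃ a ∈ A, ∃ r ∈ supportR M a, ∃ y : G, g = y * (a * r) * y⁻¹}

def tau1 (M : Subgroup G) : Set ℕ :=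
  {p | p.Prime ∧ p ∉ sigma M ∧ p ∣ Nat.card M ∧ ¬ p ∣ Nat.card ↥⁅M, M⁆ ∧ PRankLE p 1 M}

def tau2 (M : Subgroup G) : Set ℕ :=
  {p | p.Prime ∧ p ∉ sigma M ∧ PRankLE p 2 M ∧ ¬ PRankLE p 1 M}

def tau3 (M : Subgroup G) : Set ℕ :=
  {p | p.Prime ∧ p ∉ sigma M ∧ p ∣ Nat.card ↥⁅M, M⁆ ∧ PRankLE p 1 M}

theorem Loc.mono (hK : Loc K) (h : H ≤ K) : Loc H :=
  let ⟨P, h1, h2, h3⟩ := hK
  ⟨P, h1, h2, h.trans h3⟩

theorem Mx.loc (hM : Mx M) : Loc M := hM.1

theorem Mx.sub (hM : Mx M) (h : H ≤ M) : Loc H := hM.1.mono h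

theorem sub_proper (h : H ≤ K) (hK : Loc K) : Loc H := hK.mono h

theorem loc_norm (h1 : H ≠ ⊥) (hd : DG H) : Loc (𝐍 H) := ⟨H, h1, hd, le_rfl⟩

theorem loc_cent (h1 : H ≠ ⊥) (hd : DG H) : Loc (𝐂 H) := (loc_norm h1 hd).mono (cent_sub H)

theorem loc_cent1 (h1 : x ≠ 1) (hd : PiElt (dl G) x) : Loc (𝐂₁ x) := by
  rw [← cent_zpowers]
  exact loc_cent (by rwa [Ne, Subgroup.zpowers_eq_bot]) (pgroup_zpowers.2 hd)

theorem dg_of_pgroup [Finite G] [Fact p.Prime] (h : IsPGroup p P) (hp : p ∈ dl G) : DG P :=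
  pi_singleton_pgroup (pgroup_iff.2 h) hp

theorem dg_of_pi (h : IsPiSubgroup {p} P) (hp : p ∈ dl G) : DG P := pi_singleton_pgroup h hp

theorem DG.mono (hK : DG K) (h : H ≤ K) [Finite G] : DG H := pgroupS h hK

theorem DG.mem (hK : DG K) (h : x ∈ K) : PiElt (dl G) x := mem_p_elt hK h

theorem DG.prime_mem (hK : DG K) (hp : p.Prime) (h : p ∣ Nat.card K) : p ∈ dl G := hK p hp h

theorem sigma_dl (h : p ∈ sigma M) : p ∈ dl G := h.2.2.2

theorem sigma_sub_dl (M : Subgroup G) : sigma M ⊆ dl G := fun _ h => h.2.2.2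

theorem dg_of_sigma (h : IsPiSubgroup (sigma M) H) : DG H := fun p hp hd => sigma_dl (h p hp hd)

theorem delt_of_sigma (h : PiElt (sigma M) x) : PiElt (dl G) x :=
  fun p hp hd => sigma_dl (h p hp hd)

theorem Msigma_dg [Finite G] (M : Subgroup G) : DG (sigmaCore M) :=
  dg_of_sigma (pcore_pgroup (sigma M) M)

theorem mFT_finite (hG : Ctx G) : Finite G := hG.fin

theorem mFT_simple (hG : Ctx G) : IsSimpleGroup G := hG.simple

theorem mFT_nonAbelian (hG : Ctx G) : ¬ IsMulCommutative G := hG.nonab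

theorem two_not_dl (hG : Ctx G) : 2 ∉ dl G := hG.comp.two

theorem ne_two_of_dl (hG : Ctx G) (h : p ∈ dl G) : p ≠ 2 := fun e => hG.comp.two (e ▸ h)

theorem DG.odd (hG : Ctx G) (h : DG H) : Odd (Nat.card H) := by
  rw [← Nat.not_even_iff_odd, even_iff_two_dvd]
  exact fun h2 => hG.comp.two (h 2 Nat.prime_two h2)

theorem cent1_dg (hG : Ctx G) (h1 : x ≠ 1) (hd : PiElt (dl G) x) : DG (𝐂₁ x) := hG.comp.sep x h1 hd

theorem cent_dg (hG : Ctx G) (h1 : H ≠ ⊥) (hd : DG H) : DG (𝐂 H) := by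
  have := hG.fin
  obtain ⟨x, hx, hx1⟩ := trivgPn.1 h1
  exact (cent1_dg hG hx1 (hd.mem hx)).mono (cent_le_cent1 hx)

theorem delt_of_cent1 (hG : Ctx G) (h1 : x ≠ 1) (hd : PiElt (dl G) x) (hy : y ∈ 𝐂₁ x) :
    PiElt (dl G) y := (cent1_dg hG h1 hd).mem hy

/-- a subgroup centralising a nontrivial `Δ`-subgroup -/
theorem dg_of_le_cent (hG : Ctx G) (h1 : H ≠ ⊥) (hd : DG H) (h : K ≤ 𝐂 H) : DG K :=
  have := hG.fin
  (cent_dg hG h1 hd).mono h

/-- a subgroup with a nontrivial fixed point on a `Δ`-group -/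
theorem dg_of_inf_cent (hG : Ctx G) (hd : DG H) (h : H ⊓ 𝐂 K ≠ ⊥) : DG K :=
  have := hG.fin
  dg_of_le_cent hG h (hd.mono inf_le_left) (centsC.1 inf_le_right)

theorem delt_of_inf_cent1 (hG : Ctx G) (hd : DG H) (h : H ⊓ 𝐂₁ x ≠ ⊥) : PiElt (dl G) x := by
  rw [← cent_zpowers] at h
  exact pgroup_zpowers.1 (dg_of_inf_cent hG hd h)

theorem DG.loc (hG : Ctx G) (h : DG H) : Loc H := by
  have := hG.fin
  by_cases h1 : H = ⊥
  · obtain ⟨p, hp⟩ := hG.comp.ne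
    obtain ⟨hp1, hp2⟩ := hG.comp.sub p hp
    obtain ⟨X, -, hX⟩ := exists_prime_subgroup (H := (⊤ : Subgroup G)) hp1
      (by rwa [Subgroup.card_top])
    refine ⟨X, fun e => ?_, (prime_pgroup hX hp1).2 hp, h1 ▸ bot_le⟩
    rw [e, Subgroup.card_bot] at hX
    exact hp1.one_lt.ne hX
  · exact ⟨H, h1, h, normG H⟩

theorem loc_bot (hG : Ctx G) : Loc (⊥ : Subgroup G) :=
  DG.loc hG fun p hp h => absurd (by simpa using h) hp.ne_one

/-- a nilpotent group whose order is divisible by a prime of `Δ` -/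
theorem dg_of_nil (hG : Ctx G) (hn : Group.IsNilpotent H) (hK : K ≤ H) (hd : DG K) (h1 : K ≠ ⊥) :
    DG H := by
  have := hG.fin
  obtain ⟨x, hx, hx1⟩ := trivgPn.1 h1
  have h2 : centerOf H ≠ ⊥ := by
    have := meet_center_nil hn (normal_refl H) (subG1_contra hK h1)
    rwa [inf_eq_right.2 inf_le_left] at this
  have h3 : DG (centerOf H) := dg_of_le_cent hG h1 hd (inf_le_right.trans (centS hK))
  exact dg_of_le_cent hG h2 h3 (centsC.1 inf_le_right)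

/-- a noncyclic elementary abelian group normalising a nontrivial `Δ`-group -/
theorem dl_of_noncyclic (hG : Ctx G) (hp : p.Prime) (hB : IsElementaryAbelian p B)
    (hnc : ¬ IsCyclic B) (hH : Loc B) : p ∈ dl G := by
  have := hG.fin
  have := Fact.mk hp
  obtain ⟨P, h1, h2, h3⟩ := hH
  by_cases hd : p ∣ Nat.card P
  · exact h2 p hp hd
  obtain ⟨a, ha, ha1, h4⟩ := bg7_exists_cent1_ne_bot (abelem_abelian hB) hnc h3
    (p'nat_coprime ((p'groupE hp).2 hd) (pgroup_iff.2 (abelem_pgroup hB))) h1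
  have h5 := delt_of_inf_cent1 hG h2 h4
  have h6 : PiElt {p} a := mem_p_elt (pgroup_iff.2 (abelem_pgroup hB)) ha
  obtain ⟨r, hr, hrd⟩ := Nat.exists_prime_and_dvd (fun e => ha1 (orderOf_eq_one_iff.1 e))
  exact (show r = p from h6 r hr hrd) ▸ h5 r hr hrd

theorem dl_of_elem (hG : Ctx G) (hp : p.Prime) {n : ℕ} (hA : A ∈ Elem p (n + 2) H) (hH : Loc H) :
    p ∈ dl G :=
  have := hG.fin
  have := Fact.mk hp
  dl_of_noncyclic hG hp (pnElem_abelem hA) (pnElem_not_cyclic hA (by omega))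
    (hH.mono (pnElem_sub hA))

theorem dl_of_pRank (hG : Ctx G) (hp : p.Prime) (h : 2 ≤ pRank p H) (hH : Loc H) : p ∈ dl G := by
  have := hG.fin
  have := Fact.mk hp
  obtain ⟨A, hA⟩ := p_rank_geP.1 h
  exact dl_of_elem hG hp (n := 0) hA hH

/-- a nontrivial `q`-group normalised by a noncyclic abelian `Δ`-group of coprime order -/
theorem dl_of_normed (hG : Ctx G) (hq : q.Prime) (hB : IsMulCommutative B) (hnc : ¬ IsCyclic B)
    (hd : DG B) (hQ : IsPiSubgroup {q} Q) (h1 : Q ≠ ⊥) (hn : B ≤ 𝐍 Q) : q ∈ dl G := by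
  have := hG.fin
  have := Fact.mk hq
  by_cases hqB : q ∣ Nat.card B
  · exact hd q hq hqB
  obtain ⟨a, ha, ha1, h4⟩ := bg7_exists_cent1_ne_bot hB hnc hn
    (pnat_coprime hQ ((p'groupE hq).2 hqB)) h1
  have h5 : DG (Q ⊓ 𝐂₁ a) := (cent1_dg hG ha1 (hd.mem ha)).mono inf_le_right
  exact h5 q hq (pgroup_dvd_card (pgroup_iff.1 (pgroupS inf_le_left hQ)) h4)

theorem tau2_dl (h : p ∈ tau2 M) (hM : Mx M) (hG : Ctx G) : p ∈ dl G := by
  have := hG.fin
  refine dl_of_pRank hG h.1 ?_ hM.1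
  have := mt (X10.pRank_le_iff h.1).1 h.2.2.2
  omega

theorem DG.mono' [Finite G] (h : H ≤ K) (hK : DG K) : DG H := pgroupS h hK

theorem DG.mem' (h : x ∈ K) (hK : DG K) : PiElt (dl G) x := mem_p_elt hK h

theorem Loc.mono' (h : H ≤ K) (hK : Loc K) : Loc H := hK.mono h

theorem dg_of_pgroup' [Finite G] (h : IsPGroup p P) (hp : p.Prime) (hd : p ∈ dl G) : DG P :=
  have := Fact.mk hp
  dg_of_pgroup h hd

theorem dg_of_elem [Finite G] {n : ℕ} (h : A ∈ Elem p n H) (hp : p.Prime) (hd : p ∈ dl G) : DG A :=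
  have := Fact.mk hp
  dg_of_pgroup (pnElem_pgroup h) hd

theorem dg_of_sylow (h : IsSylowOf p P H) (hd : p ∈ dl G) : DG P := dg_of_pi h.2.1 hd

theorem delt_of_pelt (h : PiElt {p} x) (hd : p ∈ dl G) : PiElt (dl G) x :=
  fun r hr hx => (show r = p from h r hr hx) ▸ hd

theorem elem_le {n : ℕ} (h : A ∈ Elem p n H) : A ≤ H := h.1

theorem hall_le (h : IsPiHallOf π A H) : A ≤ H := h.1

theorem sylow_le (h : IsSylowOf p A H) : A ≤ H := h.1

theorem Msigma_le (M : Subgroup G) : sigmaCore M ≤ M := Subgroup.map_subtype_le _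

theorem Malpha_le (M : Subgroup G) : alphaCore M ≤ M := Subgroup.map_subtype_le _

theorem Mbeta_le (M : Subgroup G) : betaCore M ≤ M := Subgroup.map_subtype_le _

theorem Fcore_le (M : Subgroup G) : fittingHallOf M ≤ M := Subgroup.map_subtype_le _

theorem loc_hall (h : IsPiHallOf π A H) (hH : Loc H) : Loc A := hH.mono h.1
theorem loc_sylow (h : IsSylowOf p A H) (hH : Loc H) : Loc A := hH.mono h.1
theorem loc_elem {n : ℕ} (h : A ∈ Elem p n H) (hH : Loc H) : Loc A := hH.mono h.1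
theorem loc_normal (h : A ⊲ H) (hH : Loc H) : Loc A := hH.mono h.1
theorem loc_inf_l (hH : Loc H) : Loc (H ⊓ K) := hH.mono inf_le_left
theorem loc_inf_r (hH : Loc K) : Loc (H ⊓ K) := hH.mono inf_le_right
theorem loc_pcore (hH : Loc H) : Loc (piCoreOf π H) := hH.mono (Subgroup.map_subtype_le _)
theorem loc_Fitting (hH : Loc H) : Loc (fittingOf H) := hH.mono (Subgroup.map_subtype_le _)
theorem loc_der (hH : Loc H) : Loc ⁅H, H⁆ := hH.mono (der_sub H)
theorem loc_Msigma (hH : Mx H) : Loc (sigmaCore H) := hH.sub (Msigma_le H)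
theorem loc_Malpha (hH : Mx H) : Loc (alphaCore H) := hH.sub (Malpha_le H)
theorem loc_Mbeta (hH : Mx H) : Loc (betaCore H) := hH.sub (Mbeta_le H)
theorem loc_Fcore (hH : Mx H) : Loc (fittingHallOf H) := hH.sub (Fcore_le H)
theorem loc_center (hH : Loc H) : Loc (centerOf H) := hH.mono inf_le_left
theorem loc_sdprod_l (h : SDProd A B H) (hH : Loc H) : Loc A := hH.mono h.le_left
theorem loc_sdprod_r (h : SDProd A B H) (hH : Loc H) : Loc B := hH.mono h.le_right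

theorem dg_hall [Finite G] (h : IsPiHallOf π A H) (hH : DG H) : DG A := hH.mono h.1
theorem dg_sylow [Finite G] (h : IsSylowOf p A H) (hH : DG H) : DG A := hH.mono h.1
theorem dg_elem [Finite G] {n : ℕ} (h : A ∈ Elem p n H) (hH : DG H) : DG A := hH.mono h.1
theorem dg_normal [Finite G] (h : A ⊲ H) (hH : DG H) : DG A := hH.mono h.1
theorem dg_inf_l [Finite G] (hH : DG H) : DG (H ⊓ K) := hH.mono inf_le_left
theorem dg_inf_r [Finite G] (hH : DG K) : DG (H ⊓ K) := hH.mono inf_le_right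
theorem dg_pcore [Finite G] (hH : DG H) : DG (piCoreOf π H) := hH.mono (pcore_sub _ _)
theorem dg_zpowers (h : PiElt (dl G) x) : DG (Subgroup.zpowers x) := pgroup_zpowers.2 h
theorem dg_of_pgroup'' [Finite G] [Fact p.Prime] (h : IsPGroup p P) (hd : p ∈ dl G) : DG P :=
  dg_of_pgroup h hd
theorem dg_of_elem' [Finite G] [Fact p.Prime] {n : ℕ} (h : A ∈ Elem p n H) (hd : p ∈ dl G) :
    DG A := dg_of_pgroup (pnElem_pgroup h) hd
theorem dl_of_elem_dg [Finite G] {n : ℕ} (h : A ∈ Elem p (n + 1) H) (hp : p.Prime) (hH : DG H) :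
    p ∈ dl G := hH p hp (X12.elem_dvd h)
theorem dl_of_dvd (h : p ∣ Nat.card H) (hp : p.Prime) (hH : DG H) : p ∈ dl G := hH p hp h

scoped macro "dlt_d" n:num : tactic => `(tactic|
  solve_by_elim (maxDepth := $n) (transparency := .reducible) (symm := false) (exfalso := false)
      (intro := false) [sigma_dl, tau2_dl, Msigma_dg, dg_inf_l, dg_inf_r, dg_zpowers, DG.mem',
      dg_of_pi, dg_of_pgroup', dg_of_pgroup'', dg_of_elem, dg_of_elem', dg_of_sylow, dg_of_sigma,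
      delt_of_sigma, delt_of_pelt, dg_hall, dg_sylow, dg_elem, dg_normal, dg_pcore, DG.mono',
      dl_of_elem_dg, dl_of_dvd])

scoped macro "loc_d" n:num : tactic => `(tactic|
  solve_by_elim (maxDepth := $n) (transparency := .reducible) (symm := false) (exfalso := false)
      (intro := false) [Mx.loc, loc_Msigma, loc_Malpha, loc_Mbeta, loc_Fcore, loc_inf_l, loc_inf_r,
      loc_pcore, loc_Fitting, loc_der, loc_center, loc_hall, loc_sylow, loc_elem, loc_normal,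
      loc_sdprod_l, loc_sdprod_r, Loc.mono'])

/-- proves that a prime lies in `Δ`, or that a subgroup or element is a `Δ`-group or element -/
scoped macro "dlt" : tactic => `(tactic| first
  | assumption
  | exact sigma_dl (by assumption)
  | dlt_d 3
  | dlt_d 4
  | dlt_d 5
  | dlt_d 7)

/-- proves that a subgroup is `Δ`-local -/
scoped macro "loc" : tactic => `(tactic| first
  | assumption
  | exact Mx.loc (by assumption)
  | loc_d 4
  | exact DG.loc (by assumption) (by dlt_d 3)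
  | loc_d 5
  | exact DG.loc (by assumption) (by dlt_d 5)
  | loc_d 6
  | loc_d 7
  | loc_d 8)

theorem mFT_odd (hG : Ctx G) (H : Subgroup G) (h : Loc H := by loc) : Odd (Nat.card H) :=
  hG.odd H h

theorem mFT_odd_order (hG : Ctx G) (x : G) (h : PiElt (dl G) x) : Odd (orderOf x) := by
  rw [← Nat.card_zpowers]
  exact DG.odd hG (pgroup_zpowers.2 h)

theorem mFT_odd_of_dvd (hG : Ctx G) {n : ℕ} (h : n ∣ Nat.card H) (hH : Loc H := by loc) : Odd n :=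
  Odd.of_dvd_nat (mFT_odd hG H hH) h

theorem mFT_prime_ne_two (hG : Ctx G) (h : p ∣ Nat.card H) (hH : Loc H := by loc) : p ≠ 2 := by
  rintro rfl
  exact absurd (mFT_odd_of_dvd hG h hH) (by decide)

theorem mFT_sol (hG : Ctx G) (h : Loc H) : Group.IsSolvable H :=
  have := hG.fin
  odd_order_solvable (hG.odd H h)

theorem mFT_top_nonAbelian (hG : Ctx G) :
    ¬ IsMulCommutative (⊤ : Subgroup G) := fun h =>
  mFT_nonAbelian hG ⟨⟨fun a b => abelian_comm h (Subgroup.mem_top a) (Subgroup.mem_top b)⟩⟩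

theorem mFT_nonSolvable (hG : Ctx G) : ¬ Group.IsSolvable G := by
  intro h
  have := mFT_simple hG
  exact mFT_nonAbelian hG ⟨⟨fun a b => IsSimpleGroup.comm_iff_isSolvable.2 h a b⟩⟩

theorem mFT_top_nonSolvable (hG : Ctx G) :
    ¬ Group.IsSolvable (⊤ : Subgroup G) := fun h =>
  mFT_nonSolvable hG (by
    have := h
    exact Group.isSolvable_of_surjective (f := (⊤ : Subgroup G).subtype)
      (fun a => ⟨⟨a, Subgroup.mem_top a⟩, rfl⟩))

theorem sol_ne_top (hG : Ctx G) (h : Group.IsSolvable H) : H ≠ ⊤ :=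
  fun e => mFT_top_nonSolvable hG (e ▸ h)

theorem Loc.ne_top (hG : Ctx G) (h : Loc H) : H ≠ ⊤ := sol_ne_top hG (mFT_sol hG h)

theorem mFT_neq1 (hG : Ctx G) : (⊤ : Subgroup G) ≠ ⊥ := fun h =>
  mFT_top_nonAbelian hG (h ▸ abelian_bot)

theorem mFT_pgroup_proper (hG : Ctx G) [Fact p.Prime] (h : IsPGroup p P)
    (hp : p ∈ dl G := by dlt) : Loc P :=
  have := hG.fin
  (dg_of_pgroup h hp).loc hG

theorem mFT_normal (hG : Ctx G) (h : 𝐍 H = ⊤) : H = ⊥ ∨ H = ⊤ := by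
  have := mFT_simple hG
  exact IsSimpleGroup.eq_bot_or_eq_top_of_normal H (Subgroup.normalizer_eq_top_iff.1 h)

theorem mFT_norm_proper (_hG : Ctx G) (h1 : H ≠ ⊥) (h2 : DG H) : Loc (𝐍 H) := loc_norm h1 h2

theorem mFT_cent_proper (_hG : Ctx G) (h1 : H ≠ ⊥) (h2 : DG H := by dlt) : Loc (𝐂 H) :=
  loc_cent h1 h2

theorem mFT_cent1_proper (_hG : Ctx G) (hx : x ≠ 1) (h2 : PiElt (dl G) x := by dlt) :
    Loc (𝐂₁ x) := loc_cent1 hx h2

theorem mFT_norm_pgroup_proper (hG : Ctx G) [Fact p.Prime] (h : IsPGroup p P)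
    (h1 : P ≠ ⊥) (hp : p ∈ dl G := by dlt) : Loc (𝐍 P) :=
  have := hG.fin
  loc_norm h1 (dg_of_pgroup h hp)

theorem mFT_der_top (hG : Ctx G) : ⁅(⊤ : Subgroup G), (⊤ : Subgroup G)⁆ = ⊤ := by
  have h : 𝐍 ⁅(⊤ : Subgroup G), (⊤ : Subgroup G)⁆ = ⊤ := top_le_iff.1 (der_normal ⊤).norm
  exact (mFT_normal hG h).resolve_left fun e => mFT_top_nonAbelian hG (abelian_iff_der.2 e)

theorem mFT_pcore_top (hG : Ctx G) (hp : p.Prime) (hd : p ∣ Nat.card G) (h : p ∉ π) :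
    piCoreOf π (⊤ : Subgroup G) = ⊥ := by
  have := mFT_finite hG
  refine (mFT_normal hG (top_le_iff.1 (pcore_normal π ⊤).norm)).resolve_right fun e => h ?_
  have := pcore_pgroup π (⊤ : Subgroup G)
  rw [e] at this
  exact this p hp (by rwa [Subgroup.card_top])

theorem mFT_no_normal_p_compl (hG : Ctx G) [hp : Fact p.Prime] (hd : p ∣ Nat.card G) :
    ¬ IsPiHallOf ({p}ᶜ : Set ℕ) (piCoreOf ({p}ᶜ : Set ℕ) (⊤ : Subgroup G)) ⊤ := by
  have := mFT_finite hG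
  intro h
  rw [mFT_pcore_top hG hp.out hd (by simp)] at h
  have h2 := p'group_of_Hall_bot h
  rw [compl_compl] at h2
  exact mFT_top_nonSolvable hG (pgroup_sol (pgroup_iff.1 h2))

/-! ### maximal subgroups -/

theorem mmax_exists [Finite G] (h : Loc H) : ∃ M, Mx M ∧ H ≤ M := by
  obtain ⟨M, h1, h2⟩ := Finite.exists_le_maximal (p := fun Y : Subgroup G => Loc Y) h
  exact ⟨M, ⟨h2.prop, fun K hK hL => hK.not_ge (h2.le_of_ge hL hK.le)⟩, h1⟩

theorem mmax_proper (hM : Mx M) : Loc M := hM.1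

theorem sub_mmax_proper (hM : Mx M) (h : H ≤ M) : Loc H := hM.sub h

theorem mmax_sol (hG : Ctx G) (hM : Mx M) : Group.IsSolvable M := mFT_sol hG hM.1

theorem sub_mmax_sol (hG : Ctx G) (hM : Mx M) (h : H ≤ M) :
    Group.IsSolvable H := mFT_sol hG (sub_mmax_proper hM h)

theorem mmax_max (hM : Mx M) (hH : Loc H) (h : M ≤ H) : H = M := by
  by_contra e
  exact hM.2 H (lt_of_le_of_ne h (Ne.symm e)) hH

theorem eq_mmax (hM : Mx M) (hL : Mx L) (h : M ≤ L) : M = L :=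
  (mmax_max hM hL.1 h).symm

theorem any_mmax (hG : Ctx G) : ∃ M : Subgroup G, Mx M := by
  have := mFT_finite hG
  obtain ⟨M, hM, -⟩ := mmax_exists (loc_bot hG)
  exact ⟨M, hM⟩

theorem Mx.exists_normal (hM : Mx M) : ∃ P : Subgroup G, P ≠ ⊥ ∧ DG P ∧ P ⊲ M := by
  obtain ⟨P, h1, h2, h3⟩ := hM.1
  exact ⟨P, h1, h2, mmax_max hM (loc_norm h1 h2) h3 ▸ normG P, h3⟩

theorem mmax_neq1 (_hG : Ctx G) (hM : Mx M) : M ≠ ⊥ := by
  obtain ⟨P, h1, -, h3⟩ := hM.exists_normal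
  exact subG1_contra h3.le h1

theorem Fitting_dg (hG : Ctx G) (hM : Mx M) : DG (fittingOf M) := by
  have := hG.fin
  obtain ⟨P, h1, h2, h3⟩ := hM.exists_normal
  have h4 : fittingOf P ≠ ⊥ := by rwa [Ne, trivg_Fitting (sub_mmax_sol hG hM h3.le)]
  exact dg_of_nil hG (Fitting_nil M)
    (Fitting_max ⟨(Fitting_sub P).trans h3.le, h3.norm.trans (norm_Fitting P)⟩ (Fitting_nil P))
    (h2.mono (Fitting_sub P)) h4

theorem nil_normal_dg (hG : Ctx G) (hM : Mx M) (h : H ⊲ M) (hn : Group.IsNilpotent H) : DG H :=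
  have := hG.fin
  (Fitting_dg hG hM).mono (Fitting_max h hn)

theorem Fcore_dg (hG : Ctx G) (hM : Mx M) : DG (fittingHallOf M) :=
  have := hG.fin
  nil_normal_dg hG hM (Fcore_normal M) (Fcore_nil M)

theorem loc_norm_of_normal (hG : Ctx G) (hM : Mx M) (h : H ⊲ M) (h1 : H ≠ ⊥) : Loc (𝐍 H) := by
  have := hG.fin
  have h4 : fittingOf H ≠ ⊥ := by rwa [Ne, trivg_Fitting (sub_mmax_sol hG hM h.le)]
  exact ⟨fittingOf H, h4, nil_normal_dg hG hM
    ⟨(Fitting_sub H).trans h.le, h.norm.trans (norm_Fitting H)⟩ (Fitting_nil H), norm_Fitting H⟩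

theorem mmaxJ (g : G) : Mx (g •ᶜ M) ↔ Mx M := by
  have k1 : ∀ (g : G) (M : Subgroup G), Loc M → Loc (g •ᶜ M) := by
    rintro g M ⟨P, h1, h2, h3⟩
    refine ⟨g •ᶜ P, by rwa [Ne, conj_smul_eq_bot_iff], (pgroupJ g).2 h2, ?_⟩
    rwa [normJ, conjSg]
  have key : ∀ (g : G) (M : Subgroup G), Mx M → Mx (g •ᶜ M) := by
    intro g M hM
    refine ⟨k1 g M hM.1, fun H hH hL => hM.2 (g⁻¹ •ᶜ H) ?_ (k1 _ _ hL)⟩
    refine lt_of_le_of_ne ?_ fun e => hH.ne ?_
    · rw [← conjSg g, conj_smul_conj_inv_smul]; exact hH.le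
    · rw [e, conj_smul_conj_inv_smul]
  refine ⟨fun h => ?_, key g M⟩
  have := key g⁻¹ _ h
  rwa [conj_inv_smul_conj_smul] at this

theorem mmax_norm (_hG : Ctx G) (hM : Mx M) (h1 : X ≠ ⊥) (h2 : DG X) (h : M ≤ 𝐍 X) : 𝐍 X = M :=
  mmax_max hM (loc_norm h1 h2) h

theorem mmax_normal (hG : Ctx G) (hM : Mx M) (h : H ⊲ M) (h1 : H ≠ ⊥) : 𝐍 H = M :=
  mmax_max hM (loc_norm_of_normal hG hM h h1) h.norm

theorem norm_mmax (hG : Ctx G) (hM : Mx M) : 𝐍 M = M :=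
  mmax_normal hG hM (normal_refl M) (mmax_neq1 hG hM)

theorem mmax_normal_cent (hG : Ctx G) (hM : Mx M) (h : H ⊲ M) (h1 : H ≠ ⊥) : 𝐂 H ≤ M :=
  mmax_normal hG hM h h1 ▸ cent_sub H

theorem mmax_conj_eq_iff (hG : Ctx G) (hM : Mx M) : g •ᶜ M = M ↔ g ∈ M := by
  rw [← normP, norm_mmax hG hM]

theorem mmax_Fitting_neq1 (hG : Ctx G) (hM : Mx M) : fittingOf M ≠ ⊥ := by
  have := mFT_finite hG
  rw [Ne, trivg_Fitting (mmax_sol hG hM)]
  exact mmax_neq1 hG hM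

theorem mmax_exists_norm (hG : Ctx G) (h1 : H ≠ ⊥) (h2 : DG H) : ∃ M, Mx M ∧ 𝐍 H ≤ M := by
  have := mFT_finite hG
  exact mmax_exists (loc_norm h1 h2)

theorem mmax_exists_cent (hG : Ctx G) (h1 : H ≠ ⊥) (h2 : DG H := by dlt) :
    ∃ M, Mx M ∧ 𝐂 H ≤ M := by
  have := mFT_finite hG
  exact mmax_exists (loc_cent h1 h2)

theorem mmax_exists_cent1 (hG : Ctx G) (hx : x ≠ 1) (h2 : PiElt (dl G) x := by dlt) :
    ∃ M, Mx M ∧ 𝐂₁ x ≤ M := by
  have := mFT_finite hG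
  exact mmax_exists (loc_cent1 hx h2)

theorem alpha_dl (hG : Ctx G) (hM : Loc M) (h : p ∈ alpha M) : p ∈ dl G := by
  have := hG.fin
  refine dl_of_pRank hG h.1 ?_ hM
  have := (mem_alpha_iff.1 h).2
  omega

/-- the `q`-core of a maximal `Δ`-local subgroup -/
theorem dl_of_pcore (hG : Ctx G) (hM : Mx M) (hq : q.Prime) (h1 : piCoreOf {q} M ≠ ⊥) :
    q ∈ dl G := by
  have := hG.fin
  have := Fact.mk hq
  have h := pgroup_iff.1 (pcore_pgroup {q} M)
  exact nil_normal_dg hG hM (pcore_normal _ M) (pgroup_nil h) q hq (pgroup_dvd_card h h1)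

/-- an element of prime order outside `Δ` has no fixed points on a `Δ`-group -/
theorem inf_cent1_eq_bot (hG : Ctx G) (hd : DG H) (hq : q.Prime) (ho : orderOf x = q)
    (h : q ∉ dl G) : H ⊓ 𝐂₁ x = ⊥ := by
  by_contra e
  exact h (delt_of_inf_cent1 hG hd e q hq (ho ▸ dvd_rfl))

theorem delt_of_order (ho : orderOf x = q) (hq : q.Prime) (h : q ∈ dl G) : PiElt (dl G) x :=
  fun r hr hx => ((Nat.prime_dvd_prime_iff_eq hr hq).1 (ho ▸ hx)) ▸ h

theorem Malpha_dg (hG : Ctx G) (hM : Loc M) : DG (alphaCore M) :=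
  have := hG.fin
  fun p hp hd => alpha_dl hG hM (Malpha_pgroup M p hp hd)

/-! ### uniqueness subgroups -/

theorem uniq_mmaxP : InUniqueMaximal X ↔ ∃ M, UniqMax X M :=
  ⟨fun ⟨M, ⟨h1, h2⟩, h3⟩ => ⟨M, h1, h2, fun L hL hX => h3 L ⟨hL, hX⟩⟩,
    fun ⟨M, h1, h2, h3⟩ => ⟨M, ⟨h1, h2⟩, fun L hL => h3 L hL.1 hL.2⟩⟩

theorem UniqMax.mmax (h : UniqMax X M) : Mx M := h.1
theorem UniqMax.le (h : UniqMax X M) : X ≤ M := h.2.1
theorem UniqMax.eq (h : UniqMax X M) (hL : Mx L) (hX : X ≤ L) : L = M := h.2.2 L hL hX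
theorem UniqMax.uniq (h : UniqMax X M) : InUniqueMaximal X := uniq_mmaxP.2 ⟨M, h⟩
theorem UniqMax.unique (h : UniqMax X M) (h' : UniqMax X L) : L = M := h.eq h'.mmax h'.le

theorem mem_uniq_mmax (h : UniqMax X M) : Mx M ∧ X ≤ M := ⟨h.1, h.2.1⟩

theorem eq_uniq_mmax (h : UniqMax X M) (hL : Mx L) (hX : X ≤ L) : L = M := h.eq hL hX

theorem def_uniq_mmax (h : InUniqueMaximal X) (hM : Mx M) (hX : X ≤ M) : UniqMax X M := by
  obtain ⟨L, hL⟩ := uniq_mmaxP.1 h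
  rwa [hL.eq hM hX]

theorem uniq_mmax_eq (h : InUniqueMaximal X) (hM : Mx M) (hX : X ≤ M) (hL : Mx L)
    (hXL : X ≤ L) : L = M := (def_uniq_mmax h hM hX).eq hL hXL

theorem uniq_mmax_proper (h : InUniqueMaximal X) : Loc X := by
  obtain ⟨M, hM⟩ := uniq_mmaxP.1 h
  exact sub_mmax_proper hM.mmax hM.le

theorem sub_uniq_mmax [Finite G] (h : UniqMax X M) (hXH : X ≤ H) (hH : Loc H) : H ≤ M := by
  obtain ⟨L, hL, hHL⟩ := mmax_exists hH
  rwa [h.eq hL (hXH.trans hHL)] at hHL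

theorem def_uniq_mmaxS [Finite G] (hXY : X ≤ Y) (hY : Loc Y) (h : UniqMax X M) : UniqMax Y M :=
  ⟨h.1, sub_uniq_mmax h hXY hY, fun _ hL hYL => h.eq hL (hXY.trans hYL)⟩

theorem UniqMax.mono (h : UniqMax X M) (hXY : X ≤ Y) (hY : Y ≤ M) : UniqMax Y M :=
  ⟨h.1, hY, fun _ hL hYL => h.eq hL (hXY.trans hYL)⟩

theorem uniq_mmaxS [Finite G] (hXY : X ≤ Y) (hY : Loc Y) (h : InUniqueMaximal X) :
    InUniqueMaximal Y := by
  obtain ⟨M, hM⟩ := uniq_mmaxP.1 h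
  exact (def_uniq_mmaxS hXY hY hM).uniq

theorem mmax_uniq_id (hM : Mx M) : UniqMax M M :=
  ⟨hM, le_rfl, fun _ hL h => (eq_mmax hM hL h).symm⟩

theorem def_uniq_mmaxJ (g : G) (h : UniqMax X M) : UniqMax (g •ᶜ X) (g •ᶜ M) := by
  refine ⟨(mmaxJ g).2 h.1, (conjSg g).2 h.le, fun L hL hX => ?_⟩
  have h1 : X ≤ g⁻¹ •ᶜ L := by
    rw [← conjSg g, conj_smul_conj_inv_smul]; exact hX
  have := h.eq ((mmaxJ g⁻¹).2 hL) h1
  rw [← this, conj_smul_conj_inv_smul]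

theorem uniqMaxJ (g : G) : UniqMax (g •ᶜ X) (g •ᶜ M) ↔ UniqMax X M :=
  ⟨fun h => by simpa only [conj_inv_smul_conj_smul] using def_uniq_mmaxJ g⁻¹ h, def_uniq_mmaxJ g⟩

theorem uniq_mmaxJ (g : G) : InUniqueMaximal (g •ᶜ X) ↔ InUniqueMaximal X := by
  have key : ∀ (g : G) (X : Subgroup G), InUniqueMaximal X → InUniqueMaximal (g •ᶜ X) := by
    intro g X h
    obtain ⟨M, hM⟩ := uniq_mmaxP.1 h
    exact (def_uniq_mmaxJ g hM).uniq
  refine ⟨fun h => ?_, key g X⟩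
  simpa only [conj_inv_smul_conj_smul] using key g⁻¹ _ h

theorem UniqMax.norm_le (hG : Ctx G) (h : UniqMax X M) : 𝐍 X ≤ M := by
  intro g hg
  have h1 := def_uniq_mmaxJ g h
  rw [normP.1 hg] at h1
  exact (mmax_conj_eq_iff hG h.mmax).1 (h.unique h1)

theorem uniq_mmax_norm_sub (hG : Ctx G) (h : InUniqueMaximal X) (hM : Mx M)
    (hX : X ≤ M) : 𝐍 X ≤ M := (def_uniq_mmax h hM hX).norm_le hG

theorem UniqMax.ne_bot (hG : Ctx G) (h : UniqMax X M) : X ≠ ⊥ := by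
  rintro rfl
  have := h.norm_le hG
  rw [norm_bot] at this
  exact h.mmax.1.ne_top hG (top_le_iff.1 this)

theorem uniq_mmax_neq1 (hG : Ctx G) (h : InUniqueMaximal X) : X ≠ ⊥ := by
  obtain ⟨M, hM⟩ := uniq_mmaxP.1 h
  exact hM.ne_bot hG

/-- if `X ≤ M ∩ M^g` for a uniqueness subgroup `X`, then `g ∈ M` -/
theorem UniqMax.mem_of_le_conj (hG : Ctx G) (h : UniqMax X M) (hX : X ≤ g •ᶜ M) :
    g ∈ M :=
  (mmax_conj_eq_iff hG h.mmax).1 (h.eq ((mmaxJ g).2 h.mmax) hX)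

theorem UniqMax.mem_of_conj_le (hG : Ctx G) (h : UniqMax X M) (hX : g •ᶜ X ≤ M) :
    g ∈ M := by
  have h1 : X ≤ g⁻¹ •ᶜ M := by
    rw [← conjSg g, conj_smul_conj_inv_smul]; exact hX
  simpa using h.mem_of_le_conj hG h1

theorem mmax_sup_id (hM : Mx M) : UniqMax M M := mmax_uniq_id hM

theorem uniqMax_of_norm_eq (hM : Mx M) (h : 𝐍 X = M) : UniqMax (𝐍 X) M :=
  h ▸ (h ▸ mmax_uniq_id hM : UniqMax (𝐍 X) (𝐍 X))

end Cfsg.Lib.FT.PG
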