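import Cfsg.Agent.PG.Three
import Cfsg.Agent.FT.PF10.Bridge

/-! No irreducible character induced from `M'` has the degree of a reducible one. -/

set_option autoImplicit false

open Pointwise Cfsg Cfsg.Lib.Solv Cfsg.Lib.FT
open scoped ComplexConjugate

namespace Cfsg.Lib.PG

variable {G : Type*} [Group G] [Finite G] {L M K H W W₁ W₂ : Subgroup G} {A A₀ : Set G}
  {R : G → Subgroup G} {ζ : G → ℂ} {t : G}

/-- For `W₁` of prime order the `η_ij`, `i ≠ 0`, agree at elements of order prime to `|W|`. -/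
theorem eta_apply_eq (h : CyclicTIHyp L W W₁ W₂) (hp : (Nat.card W₁).Prime) {i i' : Hat W₁}
    (hi : i ≠ 1) (hi' : i' ≠ 1) (j : Hat W₂) {x : G} (hx : x * x = 1) :
    cycTIeta L i' j x = cycTIeta L i j x := by
  obtain ⟨a, ha, rfl⟩ := exists_autHat_of_prime hp hi hi'
  have co : (orderOf i).Coprime (orderOf j) :=
    (h.coprime.coprime_dvd_left (orderOf_Hat_dvd_card i)).coprime_dvd_right (orderOf_Hat_dvd_card j)
  obtain ⟨k, h1, h2⟩ := Nat.chineseRemainder co a 1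
  have e1 : i ^ k = i ^ a := pow_eq_pow_iff_modEq.2 h1
  have e2 : j ^ k = j := (pow_eq_pow_iff_modEq.2 h2).trans (pow_one j)
  have hk : k.Coprime (orderOf i * orderOf j) :=
    Nat.Coprime.mul_right (by rw [Nat.Coprime, h1.gcd_eq]; exact ha)
      (by rw [Nat.Coprime, h2.gcd_eq]; exact Nat.gcd_one_left _)
  have := (cycTIiso_aut_exists h i j hk).2 x (by
    refine Nat.Coprime.coprime_dvd_left (orderOf_dvd_of_pow_eq_one (n := 2) (by rwa [sq])) ?_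
    exact (Nat.coprime_two_left.2 ((h.W₁_odd.of_dvd_nat (orderOf_Hat_dvd_card i)).mul
      (h.W₂_odd.of_dvd_nat (orderOf_Hat_dvd_card j)))))
  rwa [e1, e2] at this

theorem lam_lemma [IsSimpleGroup G] (dd : PrimeDadeHyp M K H W W₁ W₂ A A₀ R)
    (odd : Odd (Nat.card M)) (hp : (Nat.card W₁).Prime) (ht : t * t = 1) (ht1 : t ≠ 1)
    (av : Avoid t (DadeSupp A₀ R)) (irrζ : ζ ∈ Irr M) (Sζ : ζ ∈ seqIndD K M H ⊥) {j : Hat W₂}
    (hj : j ≠ 1) (h1 : primeTIred M W₁ j 1 = ζ 1) : False := by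
  have cy := dd.cycTI
  have nr : ∀ χ ∈ seqIndD K M H ⊥, cj χ ≠ χ := seqInd_notReal dd.prTI.K_normal odd dd.H_le
  obtain ⟨R', scoh, -⟩ := prDade_subcoherent dd (seqInd_conjC_subset1 le_rfl) nr
  obtain ⟨T, Tμ, Tζ, sT, τ, coh⟩ :=
    pair_degree_coherence scoh (prTIred_mem_seqIndD dd.prTI dd.W₂_le hj) Sζ h1
  have nrT : ∀ χ ∈ T, cj χ ≠ χ := fun χ hχ => nr χ (sT.sub hχ)
  obtain ⟨ε, k, hε, hk, hν⟩ : ∃ (ε : ℂ) (k : Hat W₂), ε ≠ 0 ∧ k ≠ 1 ∧
      τ (primeTIred M W₁ j) = ε • ∑ i : Hat W₁, cycTIeta ⊤ i k := by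
    rcases coherent_prDade_TIred dd sT nrT Tζ irrζ coh Tμ with h2 | ⟨h2, -⟩
    · exact ⟨_, j, prTIsign_neq0 j, hj, h2⟩
    · exact ⟨-_, j⁻¹, neg_ne_zero.2 (prTIsign_neq0 j), inv_ne_one.2 hj, by rw [h2, neg_smul]⟩
  obtain ⟨i₀, hi₀⟩ := exists_Hat_ne_one cy.W₁_cyclic.isMulCommutative cy.W₁_ne
  have d := fun (i : Hat W₁) (j : Hat W₂) => cycTIiso_dirr cy i j
  have e := coh.eq _ (sub_mem_ZSon_compl_one Tμ Tζ h1)
  have van : Van t (Dade A₀ R (primeTIred M W₁ j - ζ)) :=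
    av.van ht fun x hx => Dade_of_not_mem _ hx
  rw [← e, map_sub, hν, ← Finset.add_sum_erase _ _ (Finset.mem_univ (1 : Hat W₁))] at van
  have m₀ := Submodule.smul_mem _ ε (dirr_mem_RatS (d 1 k) t)
  have ma : ∀ i : Hat W₁, i ≠ 1 →
      cycTIeta ⊤ i k ∈ RatS t (cycTIeta ⊤ i₀ k t / cycTIeta ⊤ i₀ k 1) := fun i hi => by
    have := dirr_mem_RatS (d i k) t
    rwa [eta_apply_eq cy hp hi₀ hi k ht, eta_apply_eq cy hp hi₀ hi k (mul_one 1)] at this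
  have m₁ := Submodule.smul_mem _ ε
    (Submodule.sum_mem _ fun i (hi : i ∈ Finset.univ.erase 1) => ma i (Finset.mem_erase.1 hi).1)
  have m₂ := neg_mem (dirr_mem_RatS (coh.dirr Tζ irrζ) t)
  have n₀ : (ε • cycTIeta ⊤ (1 : Hat W₁) k) 1 ≠ 0 := mul_ne_zero hε (dirr_one_ne_zero (d 1 k))
  have n₁ : (ε • ∑ i ∈ Finset.univ.erase (1 : Hat W₁), cycTIeta ⊤ i k) 1 ≠ 0 := by
    refine mul_ne_zero hε ?_
    rw [Finset.sum_apply, Finset.sum_congr rfl fun i hi =>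
      eta_apply_eq cy hp hi₀ (Finset.mem_erase.1 hi).1 k (mul_one 1), Finset.sum_const,
      nsmul_eq_mul]
    exact mul_ne_zero (Nat.cast_ne_zero.2 (Finset.card_pos.2
      ⟨i₀, Finset.mem_erase.2 ⟨hi₀, Finset.mem_univ _⟩⟩).ne') (dirr_one_ne_zero (d i₀ k))
  have t₀ := three_term van (by module) m₀ m₁ m₂
  have t₁ := three_term van (by module) m₁ m₀ m₂
  rw [mul_assoc, mul_eq_zero, mul_eq_zero, sub_eq_zero, sub_eq_zero] at t₀ t₁
  have eq : cycTIeta ⊤ (1 : Hat W₁) k t / cycTIeta ⊤ (1 : Hat W₁) k 1 =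
      cycTIeta ⊤ i₀ k t / cycTIeta ⊤ i₀ k 1 := by
    rcases t₀.resolve_left n₀ with a | a
    · exact a
    · rcases t₁.resolve_left n₁ with b | b
      · exact b.symm
      · exact a.trans b.symm
  have van' : Van t (ind W ⊤ (cfCyclicTIset i₀ k)) := by
    refine av.van ht fun x hx => (ind_mem_CFon_classSupport
      (fun y _ hy => (cfCycTI_on cy.dprod i₀ k).2 y hy) ⊤).2 x fun hx' => hx ?_
    refine classSupport_subset_DadeSupp A₀ R (classSupport_mono ?_ le_rfl hx')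
    rw [dd.A₀_eq]
    exact (subset_classSupport _ M).trans Set.subset_union_right
  have o : ∀ (i : Hat W₁) (j : Hat W₂), i ≠ 1 → dot ⊤ (cycTIeta ⊤ i j) (cf1 ⊤) = 0 :=
    fun i j hi => by rw [← cycTIeta00 cy, cfdot_cycTIiso cy, if_neg fun e => hi e.1]
  refine one_ne_zero (three_term_one (c := 1) van' (f₁ := -cycTIeta ⊤ i₀ (1 : Hat W₂))
    (f₂ := cycTIeta ⊤ i₀ k - cycTIeta ⊤ (1 : Hat W₁) k) ?_ (neg_mem (dirr_mem_RatS (d i₀ 1) t))
    (sub_mem (ma i₀ hi₀) (eq ▸ dirr_mem_RatS (d 1 k) t)) (ratio_ne_one ht1 (d i₀ 1) (o _ _ hi₀))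
    (ratio_ne_one ht1 (d i₀ k) (o _ _ hi₀)))
  rw [cfInd_cfCyclicTIset cy]
  module

end Cfsg.Lib.PG
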