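import Cfsg.Agent.PG.PF12.Contra
import Cfsg.Agent.PG.Basic

/-! The structure theorem for an odd component of the prime graph of a simple group. -/

set_option autoImplicit false
set_option linter.unusedSectionVars false

open Pointwise Cfsg Cfsg.Lib.Solv

namespace Cfsg.Lib.FT.PG

variable {G : Type*} [Group G] [Dl G] [Finite G] {M U W W₁ W₂ S T : Subgroup G}

theorem isol_of_all1 (hG : Ctx G) (all1 : ∀ L : Subgroup G, Mx L → FTtype L = 1) :
    ∃ H : Subgroup G, Cfsg.Lib.PG.Isol (dl G) H := by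
  obtain ⟨M, hM⟩ := any_mmax hG
  refine ⟨fittingHallOf M, hG.comp.isol (fun x hx hx1 => ?_) (mmax_Fcore_neq1 hG hM)
    (Fcore_dg hG hM) (Fcore_nil M)⟩
  by_cases hC : 𝐂₁ x ≤ M
  · exact (le_inf hC le_rfl).trans ((FTtype1_Frobenius hG all1 hM).cent1 hx hx1)
  obtain ⟨-, L, hL, -, -, -, -, ⟨h1, h2⟩, -⟩ :=
    FTsupport_facts hG hM (Fcore_sub_FTsupp0 hG hM ⟨hx, hx1⟩) hC
  rw [FTsupp_eq_FTsupp1_of_Frobenius hG hL.mmax (FTtype1_Frobenius hG all1 hL.mmax)] at h1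
  exact absurd h1 h2

theorem side_of_typeP (hG : Ctx G) (hM : Mx M) (h : OfTypeP M U W W₁ W₂) :
    Cfsg.Lib.PG.Side (fittingHallOf M) U W₁ W₂ := by
  have := hG.simple
  have h5 := FTtype5_exclusion hG hM
  have h24 := typeP24_of_FT hG hM h h5
  have hp := (FTtypeP_primes hG hM h).2
  have h0 : Ptype_Fcore_kernel M U = ⊥ := by
    by_cases h2 : FTtype M = 2
    · exact FTtypeII_Fcore_kernel_trivial hG hM h h2
    · exact (FTtype34_hyp hG hM h h2).Fcore_kernel_eq_bot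
  rcases typeP_reducible_core_cases h24 with ⟨ξ, irrξ, Tξ, ξ1, -⟩ | ⟨-, -, hreg, hcyc, -⟩
  · obtain ⟨-, ⟨μ, hμ⟩, h1, h2⟩ := typeP_reducible_core_Ind h24
    obtain ⟨r, hr, rfl⟩ := h1 μ hμ
    obtain ⟨t, t1, t2, t3⟩ := FT_avoid hG hM
    exact (Cfsg.Lib.PG.lam_lemma (FT_prDade_hypF hG hM h) (mFT_odd hG M) h24.prime t1 t2 t3 irrξ
      (seqIndDS bot_le le_rfl Tξ) hr ((h2 _ hμ).deg.trans ξ1.symm)).elim
  have hN := norm_mmax_Fcore hG hM
  refine ⟨h24.prime, abelian_iff_der.2 (le_bot_iff.1 (h0 ▸ h24.der_H_le)), ?_,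
    (FTcore_facts hG hM).1,
    Fcore_TI_of_Fitting_TI hG hM (compl_of_typeII_IV hG hM h h5).Fitting_TI,
    by rw [hN]; exact Ptype_Fcore_sdprod h24,
    IsFrob.of_semiregular h24.U_norm_H (mmax_Fcore_neq1 hG hM) h24.U_ne
      (Semiregular.of_forall fun y hy hy1 x hx hc => ?_),
    Ptype_compl_Frobenius h24, hcyc, h24.cent_W₁⟩
  · have := Ptype_card_H h24
    rwa [h0, Subgroup.card_bot, mul_one, def_Ptype_factor_prime h24 hp] at this
  · have := hreg y hy hy1 x hx (by rw [← hc]; simp)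
    rwa [h0, Subgroup.mem_bot] at this

theorem special_of_pair (hG : Ctx G) (h : TypePPair S T W W₁ W₂) :
    ∃ P U Q V : Subgroup G, Cfsg.Lib.PG.Special (dl G) P U Q V W₁ W₂ := by
  obtain ⟨U, hS⟩ := typeP_pairW hG h
  obtain ⟨V, hT⟩ := typeP_pairW hG (typeP_pair_sym h)
  have h1 := side_of_typeP hG h.maxS hS
  have h2 := side_of_typeP hG h.maxT hT
  have hW := typeP_W_dg hG h.maxS hS
  refine ⟨_, U, _, V, h1, h2, (hG.comp.conn _ ?_ ⟨_, Or.inl rfl⟩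
    (Cfsg.Lib.PG.sep_of_sides h1 h2)).symm, hS.dprod.sup ▸ h.cycTI⟩
  rintro r (rfl | rfl)
  · exact hW _ h1.prime (cardSg hS.dprod.le_left)
  · exact hW _ h2.prime (cardSg hS.dprod.le_right)

end Cfsg.Lib.FT.PG

namespace Cfsg.Lib.PG

open Cfsg.Lib.FT

/-- Suzuki's theorem on odd components of the prime graph of a simple group. -/
theorem isol_or_special {G : Type*} [Group G] [Finite G] [IsSimpleGroup G] {Δ : Set ℕ}
    (hG : ¬ IsMulCommutative G) (h : Comp G Δ) :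
    (∃ H : Subgroup G, Isol Δ H) ∨ ∃ P U Q V W₁ W₂ : Subgroup G, Special Δ P U Q V W₁ W₂ := by
  let _ : PG.Dl G := ⟨Δ⟩
  by_cases ho : ∀ H : Subgroup G, PG.Loc H → Odd (Nat.card H)
  · have hC : PG.Ctx G := ⟨inferInstance, inferInstance, hG, h, ho⟩
    rcases PG.FTtypeP_pair_cases hC with h1 | ⟨S, T, W, W₁, W₂, h1⟩
    · exact Or.inl (PG.isol_of_all1 hC h1)
    · obtain ⟨P, U, Q, V, h2⟩ := PG.special_of_pair hC h1
      exact Or.inr ⟨P, U, Q, V, W₁, W₂, h2⟩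
  · push Not at ho
    obtain ⟨H, ⟨B, h1, h2, h3⟩, h4⟩ := ho
    obtain ⟨t, ht, t1, t2⟩ := exists_involution (even_iff_two_dvd.1 (Nat.not_odd_iff_even.1 h4))
    obtain ⟨K, k1, k2, k3, k4, -⟩ := h.sep.exists_iso h.two t1 t2 h1 h2 (h3 ht)
    exact Or.inl ⟨K, h.isol (fun x hx hx1 => (k4 x hx hx1).le) (subG1_contra k1 h1) k2
      (abelian_nil k3)⟩

end Cfsg.Lib.PG
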