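import Cfsg.Agent.PG.OMin
import Cfsg.Agent.FT.BG3.CFix
import Cfsg.Agent.FT.Metacyclic
import Cfsg.Agent.FT.PF3.Hyp

/-!
The minimal counterexample to `Gate.PGO`: the exceptional configuration does not occur.
-/

set_option autoImplicit false
set_option linter.unusedSectionVars false

open Pointwise Cfsg Cfsg.Lib.Solv Cfsg.Lib.FT

namespace Cfsg.Lib.PG

universe u

variable {X : Type u} [Group X] [Finite X] {Δ : Set ℕ} {S P U Q V W₁ W₂ K : Subgroup X}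
  {a g : X}

/-- `Side` inside the subgroup `S`. -/
structure SideX (S P U W₁ W₂ : Subgroup X) : Prop where
  prime : (Nat.card W₁).Prime
  prime' : (Nat.card W₂).Prime
  ne : Nat.card W₁ ≠ Nat.card W₂
  abelian : IsMulCommutative P
  card : Nat.card P = Nat.card W₂ ^ Nat.card W₁
  hall : IsHallOf P S
  ti : NormedTI (sharp P) S (S ⊓ 𝐍 P)
  sdprod : SDProd P (U ⊔ W₁) (S ⊓ 𝐍 P)
  frobPU : IsFrob (P ⊔ U) P U
  frobUW : IsFrob (U ⊔ W₁) U W₁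
  cyclic : IsCyclic U
  cent : P ⊓ 𝐂 W₁ = W₂
  self : S ⊓ (𝐍 W₁ ⊓ 𝐍 W₂) ≤ W₁ ⊔ W₂

theorem Side.sideX {P U Q V W₁ W₂ : Subgroup S} (h : Side P U W₁ W₂) (h' : Side Q V W₂ W₁)
    (hc : CyclicTIHyp ⊤ (W₁ ⊔ W₂) W₁ W₂) : SideX S (P.map S.subtype) (U.map S.subtype)
      (W₁.map S.subtype) (W₂.map S.subtype) where
  prime := by rw [card_map_subtype]; exact h.prime
  prime' := by rw [card_map_subtype]; exact h'.prime
  ne := by rw [card_map_subtype, card_map_subtype]; exact hc.card_ne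
  abelian := have := h.abelian; inferInstance
  card := by simp only [card_map_subtype]; exact h.card
  hall := ⟨Subgroup.map_subtype_le _, by
    rw [card_map_subtype, relIndex_map_subtype, ← Subgroup.relIndex_top_right]; exact h.hall.2⟩
  ti := by
    refine NormedTI.of_memJ (sharp_nonempty.2 fun e => h.frobPU.ker_ne
      ((Subgroup.map_eq_bot_iff_of_injective _ S.subtype_injective).1 e)) inf_le_left
      fun a ha g hg => ⟨fun hc => ?_, fun hc => (conj_mem_sharp hc.2).2 ha⟩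
    obtain ⟨⟨b, hb, rfl⟩, b1⟩ := mem_sharp.1 ha
    obtain ⟨⟨c, hc', e⟩, c1⟩ := mem_sharp.1 hc
    rw [← map_subtype_normalizer]
    refine ⟨⟨g, hg⟩, h.ti.ti _ trivial b ⟨hb, fun e => b1 (congrArg Subtype.val e)⟩ ?_, rfl⟩
    rw [show (⟨g, hg⟩ : S) * b * (⟨g, hg⟩ : S)⁻¹ = c from Subtype.ext e.symm]
    exact ⟨hc', fun e' => c1 (e ▸ congrArg Subtype.val e')⟩
  sdprod := by
    have := h.sdprod.map_of_injective S.subtype_injective
    rwa [Subgroup.map_sup, map_subtype_normalizer] at this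
  frobPU := by
    have := h.frobPU.map_of_injective S.subtype_injective
    rwa [Subgroup.map_sup] at this
  frobUW := by
    have := h.frobUW.map_of_injective S.subtype_injective
    rwa [Subgroup.map_sup] at this
  cyclic := have := h.cyclic; isCyclic_of_surjective _ (S.subtype.subgroupMap_surjective U)
  cent := by
    have := congrArg (Subgroup.map S.subtype) h.cent
    rwa [Subgroup.map_inf _ _ _ S.subtype_injective, map_subtype_centralizer, ← inf_assoc,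
      inf_eq_left.2 (Subgroup.map_subtype_le P)] at this
  self g hg := by
    have h1 : (⟨g, hg.1⟩ : S) ∈ 𝐍 W₁ := by
      have : g ∈ (𝐍 W₁).map S.subtype := map_subtype_normalizer W₁ ▸ ⟨hg.1, hg.2.1⟩
      obtain ⟨b, hb, rfl⟩ := this
      exact hb
    have h2 : (⟨g, hg.1⟩ : S) ∈ 𝐍 W₂ := by
      have : g ∈ (𝐍 W₂).map S.subtype := map_subtype_normalizer W₂ ▸ ⟨hg.1, hg.2.2⟩
      obtain ⟨b, hb, rfl⟩ := this
      exact hb
    obtain ⟨v, hv⟩ := hc.normedTI.nonempty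
    rw [← Subgroup.map_sup]
    refine ⟨⟨g, hg.1⟩, hc.normedTI.ti _ trivial v hv ?_, rfl⟩
    rw [mem_cyclicTIset] at hv ⊢
    rwa [memJ_norm h1, memJ_norm h2, memJ_norm (normsY (A := Subgroup.zpowers _)
      (Subgroup.zpowers_le.2 h1) (Subgroup.zpowers_le.2 h2) (Subgroup.mem_zpowers _))]

theorem exists_zpow_inv_mul_mem [S.Normal] (hp : S.index.Prime) (hg : g ∉ S) (a : X) :
    ∃ k : ℤ, (g ^ k)⁻¹ * a ∈ S := by
  have := Fact.mk hp
  obtain ⟨k, hk⟩ := mem_zpowers_of_prime_card (G := X ⧸ S) (p := S.index) rfl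
    (mt (QuotientGroup.eq_one_iff g).1 hg) (g' := a)
  exact ⟨k, QuotientGroup.eq.1 hk⟩

namespace SideX

theorem pgroup (h : SideX S P U W₁ W₂) : IsPGroup (Nat.card W₂) P := IsPGroup.of_card h.card

theorem sylow (h : SideX S P U W₁ W₂) : IsSylowOf (Nat.card W₂) P S :=
  have := Fact.mk h.prime'
  Sylow_of h.hall.1 h.pgroup (h.prime'.coprime_iff_not_dvd.1 (Nat.Coprime.coprime_dvd_left
    (h.card ▸ dvd_pow_self _ h.prime.ne_zero) h.hall.2))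

theorem W₂_le (h : SideX S P U W₁ W₂) : W₂ ≤ P := h.cent ▸ inf_le_left

theorem W₂_cent (h : SideX S P U W₁ W₂) : W₂ ≤ 𝐂 W₁ := h.cent ▸ inf_le_right

theorem sdprod' (h : SideX S P U W₁ W₂) : SDProd (P ⊔ U) W₁ (S ⊓ 𝐍 P) :=
  (h.frobUW.sdprod.assoc' h.sdprod).2

theorem copP (h : SideX S P U W₁ W₂) : (Nat.card P).Coprime (Nat.card W₁) :=
  h.card ▸ Nat.Coprime.pow_left _ ((Nat.coprime_primes h.prime' h.prime).2 h.ne.symm)

theorem cop (h : SideX S P U W₁ W₂) : (Nat.card ↥(P ⊔ U)).Coprime (Nat.card W₁) :=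
  h.frobPU.card ▸ h.copP.mul_left h.frobUW.coprime

theorem sylow₁ (h : SideX S P U W₁ W₂) : IsSylowOf (Nat.card W₁) W₁ (S ⊓ 𝐍 P) :=
  have := Fact.mk h.prime
  Sylow_of h.sdprod'.le_right (isPGroup_of_card_prime rfl)
    (h.sdprod'.relIndex_right ▸ h.prime.coprime_iff_not_dvd.1 h.cop.symm)

theorem norm_le [S.Normal] (h : SideX S P U W₁ W₂) (hK : K ≤ P) (h1 : K ≠ ⊥) : 𝐍 K ≤ 𝐍 P :=
  fun g hg => by
  have := Fact.mk h.prime'
  obtain ⟨k, hk, e⟩ := Sylow_trans h.sylow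
    ((pHallJnorm (g := g) (Fpf.le_normalizer_of_normal' S ⊤ trivial)).2 h.sylow)
  obtain ⟨b, hb, b1⟩ := trivgPn.1 h1
  have h2 : g * b * g⁻¹ ∈ sharp K := (conj_mem_sharp hg).2 ⟨hb, b1⟩
  have h3 : k⁻¹ * (g * b * g⁻¹) * k ∈ P := mem_conj_smul.1 (e ▸ conj_mem_conj_smul g (hK hb))
  have h4 := (h.ti.memJ_iff' (sharp_mono hK h2) hk).1 (mem_sharp.2 ⟨h3, fun e =>
    (mem_sharp.1 h2).2 ((conjg_eq1 (g := k⁻¹)).1 (by rwa [inv_inv]))⟩)
  rw [normP, e, normP.1 h4.2]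

theorem Y_le [S.Normal] (h : SideX S P U W₁ W₂) : 𝐍 W₁ ⊓ 𝐍 W₂ ≤ 𝐍 P :=
  inf_le_right.trans (h.norm_le h.W₂_le (prime_ne_bot h.prime'))

theorem norm_le_Y (h : SideX S P U W₁ W₂) : 𝐍 P ⊓ 𝐍 W₁ ≤ 𝐍 W₁ ⊓ 𝐍 W₂ :=
  le_inf inf_le_right (h.cent ▸ norms_subcent inf_le_left inf_le_right)

theorem not_le [S.Normal] (h : SideX S P U W₁ W₂) (hS : S ≠ ⊤) : ¬ 𝐍 W₁ ⊓ 𝐍 W₂ ≤ S := fun e => by
  have := Fact.mk h.prime
  have := Fact.mk h.prime'
  have h1 := Frattini_arg (normal_top_iff.2 ‹_›) h.sylow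
  have h2 := Frattini_arg (norm_normalI' (Fpf.le_normalizer_of_normal' S (𝐍 P))) h.sylow₁
  refine hS (top_le_iff.1 (h1 ▸ sup_le le_rfl (inf_le_right.trans ?_)))
  exact h2 ▸ sup_le inf_le_left (h.norm_le_Y.trans e)

theorem exists_norm [S.Normal] (h : SideX S P U W₁ W₂) (hg : g ∈ 𝐍 W₁ ⊓ 𝐍 W₂) :
    ∃ x ∈ S ⊓ 𝐂 W₁, x⁻¹ * g ∈ 𝐍 W₁ ⊓ 𝐍 W₂ ⊓ 𝐍 U := by
  have := Fact.mk h.prime'
  have h1 : g ∈ 𝐍 (P ⊔ U) := by
    rw [← normal_Hall_pcore (h.sdprod'.compl_p'Hall.2 h.sylow₁) h.sdprod'.norm_left]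
    exact norm_pcore _ _ (normsI (Fpf.le_normalizer_of_normal' S _) (norms_norm le_rfl) (h.Y_le hg))
  have h2 : IsPiHallOf {Nat.card W₂}ᶜ U (P ⊔ U) := h.frobPU.sdprod.compl_pHall.1
    (pHall_subl le_sup_left (h.sdprod'.le_left.trans inf_le_left) h.sylow)
  obtain ⟨x, hx, e⟩ := coprime_Hall_trans h.sdprod'.norm h.cop
    (h.frobPU.sdprod.solvable (abelian_sol h.abelian) (abelian_sol (cyclic_abelian h.cyclic)))
    ((pHallJnorm h1).2 h2) (by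
      rw [normJ, ← normP.1 hg.1, conjSg]
      exact h.frobUW.norm) h2 h.frobUW.norm
  have h3 := h.sdprod'.le_left hx.1
  exact ⟨x, ⟨h3.1, hx.2⟩, (𝐍 W₁ ⊓ 𝐍 W₂).mul_mem
    (inv_mem (h.norm_le_Y ⟨h3.2, cent_sub _ hx.2⟩)) hg,
    normP.2 (by rw [conj_mul_smul, e, conj_inv_smul_conj_smul])⟩

theorem Y_cent [S.Normal] (h : SideX S P U W₁ W₂) : 𝐍 W₁ ⊓ 𝐍 W₂ ≤ 𝐂 W₁ := fun g hg => by
  obtain ⟨x, hx, hf⟩ := h.exists_norm hg
  have h1 : 𝐍 W₁ ⊓ 𝐍 W₂ ⊓ 𝐍 U ≤ 𝐂 W₁ := commG1P.1 (le_bot_iff.1 (h.frobUW.trivg_cent' ▸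
    le_inf (commg_subr.2 (inf_le_left.trans inf_le_left))
      ((commgSS inf_le_right h.frobUW.norm).trans (Metacyclic.der_norm_cent_cyclic h.cyclic))))
  simpa using mul_mem hx.2 (h1 hf)

theorem F_inf (h : SideX S P U W₁ W₂) : S ⊓ (𝐍 W₁ ⊓ 𝐍 W₂ ⊓ 𝐍 U) = W₁ := by
  refine le_antisymm (fun g hg => ?_) (le_inf (h.sdprod'.le_right.trans inf_le_left)
    (le_inf (le_inf (normG _) (cents_norm (centsC.1 h.W₂_cent))) h.frobUW.norm))
  obtain ⟨a, ha, b, hb, rfl⟩ := (mem_sup_of_le_normalizer (cents_norm h.W₂_cent)).1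
    (h.self ⟨hg.1, hg.2.1⟩)
  have h1 : b ∈ 𝐍 U := (mul_mem_cancel_left (h.frobUW.norm ha)).1 hg.2.2
  have h2 : P ⊓ 𝐍 U ≤ 𝐂 U := commG1P.1 (le_bot_iff.1 (h.frobPU.sdprod.inf ▸
    le_inf ((commgSS inf_le_left le_rfl).trans (commg_subl.2 h.frobPU.norm))
      (commg_subr.2 inf_le_right)))
  rw [Subgroup.mem_bot.1 (h.frobPU.trivg_cent ▸ ⟨h.W₂_le hb, h2 ⟨h.W₂_le hb, h1⟩⟩ : b ∈ ⊥), mul_one]
  exact ha

theorem le_cent1 [S.Normal] (h : SideX S P U W₁ W₂) (ha : a ∈ 𝐂 W₂) (ha' : a ∈ 𝐂 W₁)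
    (h1 : U ⊓ 𝐂₁ a ≠ ⊥) : P ≤ 𝐂₁ a := by
  have h2 := Frobenius_Wielandt_card (K := U ⊓ 𝐂₁ a) (R := W₁) (M := P ⊓ 𝐂₁ a)
    (norms_sub_cyclic h.cyclic inf_le_left h.frobUW.norm)
    (h.frobUW.regular.mono inf_le_left le_rfl) (abelian_sol (abelianS inf_le_left h.abelian))
    (normsI (inf_le_left.trans h.frobPU.norm) (norms_cent1 inf_le_right))
    (normsI (h.sdprod'.le_right.trans inf_le_right) (norms_cent1 (le_cent1_iff.2 ha')))
    (coprimeSg inf_le_left (coprimegS inf_le_left h.frobPU.coprime))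
    (coprimeSg inf_le_left h.copP)
    ((h.frobPU.regular.mono inf_le_left le_rfl).cent inf_le_left h1)
  rw [inf_right_comm, h.cent, inf_eq_left.2 (le_cent1_iff.2 ha), ← h.card] at h2
  exact inf_eq_left.1 (eq_of_le_of_card_le inf_le_left h2.ge)

theorem exists_cent [S.Normal] (h : SideX S P U W₁ W₂) (hp : S.index.Prime)
    (hc : 𝐍 W₁ ⊓ 𝐍 W₂ ≤ 𝐂 W₂) (hs : S.index ≠ Nat.card W₂) :
    ∃ a ∈ 𝐍 W₁ ⊓ 𝐍 W₂, a ∉ S ∧ P ≤ 𝐂₁ a := by
  have h1 : ¬ 𝐍 W₁ ⊓ 𝐍 W₂ ⊓ 𝐍 U ≤ S := fun e =>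
    h.not_le (fun e => hp.ne_one (Subgroup.index_eq_one.2 e)) fun g hg => by
      obtain ⟨x, hx, hf⟩ := h.exists_norm hg
      simpa using mul_mem hx.1 (e hf)
  have h2 := card_inf_mul_relIndex S (𝐍 W₁ ⊓ 𝐍 W₂ ⊓ 𝐍 U)
  rw [h.F_inf, relIndex_of_not_le hp h1] at h2
  have h3 : W₁ ≤ 𝐍 W₁ ⊓ 𝐍 W₂ ⊓ 𝐍 U := h.F_inf.ge.trans inf_le_right
  have h4 : ¬ Semiregular U (𝐍 W₁ ⊓ 𝐍 W₂ ⊓ 𝐍 U) := fun e => by
    have h5 := Frobenius_Wielandt_card inf_le_right e (abelian_sol h.abelian) h.frobPU.norm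
      (inf_le_left.trans h.Y_le) h.frobPU.coprime (h2 ▸ h.copP.mul_right
        (h.card ▸ Nat.Coprime.pow_left _ ((Nat.coprime_primes h.prime' hp).2 hs.symm)))
      h.frobPU.trivg_cent
    rw [le_antisymm ((inf_le_inf_left P (centS h3)).trans h.cent.le)
      (le_inf h.W₂_le (centsC.1 (inf_le_left.trans hc))), h.card, ← h2] at h5
    have h6 := Nat.pow_right_injective h.prime'.two_le h5
    exact hp.ne_one ((Nat.mul_eq_left h.prime.ne_zero).1 h6.symm)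
  simp only [Semiregular, not_forall] at h4
  obtain ⟨a, ha, a1, a2⟩ := h4
  exact ⟨a, ha.1, fun e => a2 (h.frobUW.regular a (h.F_inf.le ⟨e, ha⟩) a1),
    h.le_cent1 (hc ha.1) (h.Y_cent ha.1) a2⟩

theorem not_le_W₂ (h : SideX S P U W₁ W₂) : ¬ P ≤ W₂ := fun e => by
  have := h.card
  rw [le_antisymm e h.W₂_le] at this
  exact h.prime.ne_one (Nat.pow_right_injective h.prime'.two_le (this.symm.trans (pow_one _).symm))

theorem cent1_pi (h : SideX S P U W₁ W₂) (hy : a ∈ P) (h1 : a ≠ 1) :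
    IsPiSubgroup {Nat.card W₁, Nat.card W₂} (S ⊓ 𝐂₁ a) := by
  intro r hr hd
  obtain ⟨z, hz, rfl⟩ := Cauchy hr hd
  by_cases e : orderOf z = Nat.card W₁
  · exact Or.inl e
  have h2 := h.sdprod'.mem_left_of_coprime (h.ti.cent1 ⟨hy, h1⟩ hz)
    ((Nat.coprime_primes hr h.prime).2 e)
  have h3 := order_dvdG (h.frobPU.cent1_ker hy h1 ⟨h2, hz.2⟩)
  rw [h.card] at h3
  exact Or.inr ((Nat.prime_dvd_prime_iff_eq hr h.prime').1 (hr.dvd_of_dvd_pow h3))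

/-- no solvable subgroup of `S` contains `Q` and properly contains `W₂` in `P` -/
theorem le_of_sol [S.Normal] (h : SideX S P U W₁ W₂) (h' : SideX S Q V W₂ W₁) (hK : K ≤ S)
    (hs : Group.IsSolvable K) (hQ : Q ≤ K) (hW : W₂ ≤ K) : P ⊓ K ≤ W₂ := by
  have := Fact.mk h.prime
  have := Fact.mk h.prime'
  obtain ⟨N, n1, n2⟩ := minnormal_exists (subG1_contra hQ h'.frobPU.ker_ne) (normG K)
  obtain ⟨r, hr, n3⟩ := minnormal_solvable_abelem n2 (solvableS n1 hs)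
  have := Fact.mk hr
  have n4 := abelem_pgroup n3
  by_cases e : r = Nat.card W₁
  · subst e
    have h1 := norm_sub_Hall h'.sylow (pgroup_iff.2 n4) (n1.trans hK) (hQ.trans n2.norm)
    exact (sub_Sylow h'.sylow₁ (isPGroupS inf_le_left h.pgroup) (le_inf h.W₂_le hW)
      (inf_le_right.trans (le_inf hK (n2.norm.trans (h'.norm_le h1 n2.ne))))).le
  by_cases e' : r = Nat.card W₂
  · subst e'
    obtain ⟨g, hg, h1⟩ := Sylow_Jsub h.sylow (n1.trans hK) n4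
    have h2 := pgroup_card_dvd_Hall h.sylow₁ ((pgroupJ g).2 (pgroup_iff.2 h'.pgroup))
      (le_inf (conj_subG hg h'.hall.1) (le_trans (by
        rw [normJ, conjSg]; exact hQ.trans n2.norm)
        (h.norm_le h1 fun e => n2.ne (conj_smul_eq_bot_iff.1 e))))
    rw [card_conj_smul] at h2
    exact absurd (eq_of_le_of_card_le h'.W₂_le (Nat.le_of_dvd (cardG_gt0 _) h2)).ge h'.not_le_W₂
  have := h'.abelian
  have h1 : IsCyclic Q := regular_abelian_cyclic n2.ne (hQ.trans n2.norm) fun a ha a1 => by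
    by_contra e''
    rcases mem_of_pgroup_of_ne_bot (isPGroupS inf_le_left n4) e''
      (pgroupS (inf_le_inf_right _ (n1.trans hK)) (h'.cent1_pi ha a1)) with e1 | e1
    · exact e' e1
    · exact e e1
  have h2 : V ≤ 𝐂 Q := h'.frobUW.commg_eq ▸ (commgSS h'.frobPU.norm
    (h'.sdprod'.le_right.trans inf_le_right)).trans (Metacyclic.der_norm_cent_cyclic h1)
  exact absurd (le_bot_iff.1 (h'.frobPU.trivg_cent' ▸ le_inf le_rfl h2)) h'.frobPU.compl_ne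

theorem false_of_ne (hX : Min S Δ) (h : SideX S P U W₁ W₂) (h' : SideX S Q V W₂ W₁)
    (hs : S.index ≠ Nat.card W₁) : False := by
  have := hX.normal
  have := Fact.mk h.prime'
  have c1 := h.Y_cent
  have c2 : 𝐍 W₁ ⊓ 𝐍 W₂ ≤ 𝐂 W₂ := inf_comm (𝐍 W₁) (𝐍 W₂) ▸ h'.Y_cent
  obtain ⟨a, a1, a2, a3⟩ := h'.exists_cent hX.prime (inf_comm (𝐍 W₁) (𝐍 W₂) ▸ c1) hs
  rw [inf_comm] at a1
  have b1 := groupX_constt {S.index} a1
  have b2 := constt_index_not_mem hX.prime a2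
  have h1 := h.le_of_sol h' inf_le_left (sol_of_pi hX.two (pgroupS inf_le_right (hX.cent_pi b2)))
    (le_inf h'.hall.1 (a3.trans (cent1_le_cent1_constt _ a)))
    (le_inf (h.W₂_le.trans h.hall.1) (le_cent1_iff.2 (c2 b1)))
  rw [← inf_assoc, inf_eq_left.2 h.hall.1] at h1
  by_cases e : S.index = Nat.card W₂
  · have h2 : ⁅P, W₁⁆ ≤ P := commg_subl.2 (h.sdprod'.le_right.trans inf_le_right)
    refine pgroup_cent_ne_bot (p_elt_singleton_iff.1 (e ▸ p_elt_constt {S.index} a))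
      (isPGroupS h2 h.pgroup) (Subgroup.zpowers_le.2 (normsR h.Y_le inf_le_left b1))
      (fun e => h.not_le_W₂ (h.cent ▸ le_inf le_rfl (commG1P.1 e))) (le_bot_iff.1 ?_)
    rw [cent_zpowers, ← coprime_abel_cent_TI (h.sdprod'.le_right.trans inf_le_right) h.copP
      h.abelian]
    exact le_inf inf_le_left (((inf_le_inf_right _ h2).trans h1).trans h.W₂_cent)
  obtain ⟨b, b3, b4, b5⟩ := h.exists_cent hX.prime c2 e
  obtain ⟨k, hk⟩ := exists_zpow_inv_mul_mem hX.prime b4 a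
  have h2 := h.self ⟨hk, (𝐍 W₁ ⊓ 𝐍 W₂).mul_mem (inv_mem (zpow_mem b3 k)) a1⟩
  have h3 : Commute (b ^ k) ((b ^ k)⁻¹ * a) := (mem_cent.1 ((cent_sup W₁ W₂).ge
    (le_inf c1 c2 (zpow_mem b3 k))) _ h2).symm
  have h4 : constt {S.index} a = constt {S.index} (b ^ k) := by
    conv_lhs => rw [← mul_inv_cancel_left (b ^ k) a, consttM _ h3]
    rw [(constt1P (π := {S.index})).2 (mem_p_elt (pgroupY (cents_norm h.W₂_cent)
      ((prime_pgroup rfl h.prime).2 hs.symm) ((prime_pgroup rfl h.prime').2 (Ne.symm e))) h2),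
      mul_one]
  refine h.not_le_W₂ (le_trans (le_inf le_rfl ?_) h1)
  rw [h4]
  exact (b5.trans (cent1_le_cent1_of_mem_zpowers (Subgroup.zpow_mem_zpowers b k))).trans
    (cent1_le_cent1_constt _ _)

end SideX

theorem Min.not_special (h : Min S Δ) {Γ : Set ℕ} {P U Q V W₁ W₂ : Subgroup S} :
    ¬ Special Γ P U Q V W₁ W₂ := fun hs => by
  have h1 := hs.S.sideX hs.T hs.cycTI
  have h2 := hs.T.sideX hs.S (sup_comm W₁ W₂ ▸ hs.cycTI.symm)
  by_cases e : S.index = Nat.card (W₁.map S.subtype)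
  · exact h2.false_of_ne h h1 (e ▸ h1.ne)
  · exact h1.false_of_ne h h2 e

end Cfsg.Lib.PG
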