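import Cfsg.Agent.PG.OIsol
import Cfsg.Agent.PG.OSpec
import Cfsg.Agent.Gate.PGD
import Cfsg.Agent.Gate.PGC

/-!
Proof of `Gate.PGO` from `Gate.PGD` and `Gate.PGC`.
-/

set_option autoImplicit false
set_option linter.unusedSectionVars false

open Pointwise Cfsg Cfsg.Lib.Solv Cfsg.Lib.FT

namespace Cfsg.Lib.PG

universe u

variable {X : Type u} [Group X] [Finite X] {Δ : Set ℕ} {S : Subgroup X}

theorem Min.exists_IN [Agent.Gate.PGD.{u}] (h : Min S Δ) :
    ∀ x ∈ S, x ≠ 1 → PiElt Δ x → ∃ H, IN S H ∧ x ∈ H := fun x hx h1 hπ => by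
  obtain ⟨z, hz, zp⟩ := exists_prime_order_pow h1
  have z1 : z ∈ S := Subgroup.zpowers_le.2 hx hz
  obtain ⟨Γ, -, g2, g3⟩ := (h.sep.sub S).exists_comp h.two zp (order_dvdG z1)
    (p_elt_of_mem_zpowers hπ hz _ zp dvd_rfl)
  have := h.simple
  rcases Agent.Gate.PGD.out h.nonab g3 with ⟨H, hH⟩ | ⟨P, U, Q, V, W₁, W₂, hs⟩
  swap
  · exact absurd hs h.not_special
  obtain ⟨g, hg⟩ := hH.exists_conj_mem (x := ⟨z, z1⟩)
    ((p_elt_prime (Subgroup.orderOf_mk z z1) zp).2 g2)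
  have z2 := ne_one_of_prime_order zp
  have z3 : (g : X) * z * (g : X)⁻¹ ∈ H.map S.subtype := ⟨_, hg, rfl⟩
  have h2 : IN S (H.map S.subtype) := by
    refine ⟨Subgroup.map_subtype_le H, trivgPn.2 ⟨_, z3, fun e => z2 (conjg_eq1.1 e)⟩,
      (isNilpotent_map_subtype_iff H).2 hH.nil, ?_⟩
    rintro _ ⟨a, ha, rfl⟩ a1 b hb
    exact ⟨⟨b, hb.1⟩, hH.cent a ha (fun e => a1 (congrArg Subtype.val e))
      (mem_cent1.2 (Subtype.ext (mem_cent1.1 hb.2))), rfl⟩
  have h3 := h2.conj (h.norm (g : X)⁻¹)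
  exact ⟨_, h3, h3.iso z (mem_conj_smul.2 (by rwa [inv_inv])) z2
    ⟨hx, cent1_le_cent1_of_mem_zpowers hz (cent1id x)⟩⟩

theorem Min.false [Agent.Gate.PGD.{u}] [Agent.Gate.PGC.{u}] (h : Min S Δ) : False := by
  obtain ⟨y, y1, y2, y3⟩ := h.exists_elt h.exists_IN
  obtain ⟨H₁, U, H₂, D, c, hl⟩ := h.exists_last h.exists_IN y1 y2 y3
  exact Agent.Gate.PGC.out hl

theorem Comp.odd_norm [S.Normal] (h : Comp X Δ) (hp : S.index.Prime) (hm : S.index ∈ Δ)
    {B : Subgroup X} (hB : B ≠ ⊥) (hπ : IsPiSubgroup Δ B) : Odd (Nat.card (𝐍 B)) := by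
  rw [← Nat.not_even_iff_odd, even_iff_two_dvd]
  intro e
  obtain ⟨t, ht, t1, t2⟩ := exists_involution e
  obtain ⟨K, k1, k2, -, k4, k5⟩ := h.sep.exists_iso h.two t1 t2 hB hπ ht
  have k6 : Iso K := fun x hx h1 => (k4 x hx h1).le
  have k7 : ¬ K ≤ S := fun e => hp.ne_one (Nat.eq_one_of_dvd_coprimes k6.hall.2
    (h.eq_piOf k6 (subG1_contra k1 hB) k2 ▸ hm : S.index ∈ piOf (Nat.card K)).2
    (by rw [Subgroup.relIndex_top_right]; exact Subgroup.index_dvd_of_le e))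
  have t3 : t ∈ S := by
    by_contra e
    exact not_piElt_of_inv h.two t1 t2 (h.sep.piElt_of_not_mem hp hm e)
  refine k7 fun k hk => ?_
  have h1 : t * (k * t⁻¹ * k⁻¹) ∈ S := mul_mem t3 (‹S.Normal›.conj_mem _ (inv_mem t3) k)
  rw [show t * (k * t⁻¹ * k⁻¹) = t * k * t⁻¹ * k⁻¹ by group, k5 k hk, ← mul_inv_rev, inv_mem_iff,
    ← pow_two] at h1
  obtain ⟨m, hm⟩ := (odd_of_pi h.two k2).of_dvd_nat (order_dvdG hk)
  have h2 : k * (k ^ 2) ^ m = 1 := by rw [← pow_mul, ← pow_succ', ← hm, pow_orderOf_eq_one]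
  rw [eq_inv_of_mul_eq_one_left h2]
  exact inv_mem (pow_mem h1 m)

theorem pgo_aux [Agent.Gate.PGD.{u}] [Agent.Gate.PGC.{u}] (n : ℕ) :
    ∀ (X : Type u) [Group X] [Finite X] (Δ : Set ℕ) (S : Subgroup X) [S.Normal], Nat.card X = n →
      Sep X Δ → 2 ∉ Δ → S.index.Prime → S.index ∈ Δ → Group.IsSolvable X := by
  induction n using Nat.strong_induction_on with | _ n ih => ?_
  intro X _ _ Δ₀ S _ hn hsep₀ h2₀ hp hm₀
  by_contra hs
  have hs' := mt sol_top_iff.1 hs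
  obtain ⟨Δ, -, hm, hΔ⟩ := hsep₀.exists_comp h2₀ hp S.index_dvd_card hm₀
  have sub : ∀ Y T : Subgroup X, T.Normal → Y ≠ ⊤ → T.relIndex Y = S.index →
      Group.IsSolvable Y := fun Y T _ hY e =>
    ih _ (by rw [← hn, ← Subgroup.card_top (G := X)]; exact proper_card hY.lt_top) Y Δ
      (T.subgroupOf Y) rfl (hΔ.sep.sub Y) hΔ.two (e.symm ▸ hp :) (e.symm ▸ hm :)
  obtain ⟨N, -, hN⟩ := minnormal_exists (K := (⊤ : Subgroup X)) (L := ⊤)
    (fun e => hs' (e ▸ abelian_sol abelian_bot)) (normG ⊤)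
  have hNn : N.Normal := normal_top_iff.1 ⟨le_top, hN.norm⟩
  have n1 : ¬ IsPiSubgroup Δ N := fun e =>
    hs' (solvableS hN.norm (odd_order_solvable (hΔ.odd_norm hp hm hN.ne e)))
  have n2 : N ≤ S := by
    rcases hN.minimal (N ⊓ S) inf_le_left (normsI hN.norm (Fpf.le_normalizer_of_normal' S ⊤))
      with e | e
    · refine absurd (pgroup_of_forall_pelt fun x hx => ?_) n1
      by_cases x1 : x ∈ S
      · rw [Subgroup.mem_bot.1 (e ▸ ⟨hx, x1⟩ : x ∈ ⊥)]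
        exact p_elt1
      · exact hΔ.sep.piElt_of_not_mem hp hm x1
    · exact inf_eq_left.1 e
  have hf := QuotientGroup.mk'_surjective N
  obtain ⟨r, hr, r1, r2⟩ : ∃ r, r.Prime ∧ r ∣ Nat.card N ∧ r ∈ Δ := by
    by_contra e
    push Not at e
    have e1 : (S.map (QuotientGroup.mk' N)).index = S.index :=
      Subgroup.index_map_eq _ hf (by rwa [QuotientGroup.ker_mk'])
    have := Subgroup.Normal.map ‹S.Normal› _ hf
    refine hΔ.sep.quot_nonsol e hs hp hm S.index_dvd_card (ih _ ?_ _ Δ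
      (S.map (QuotientGroup.mk' N)) rfl (hΔ.sep.quot hf (by rwa [QuotientGroup.ker_mk'])) hΔ.two
      (e1.symm ▸ hp :) (e1.symm ▸ hm :))
    rw [← hn, ← N.card_mul_index]
    exact lt_mul_of_one_lt_left Nat.card_pos (cardG_gt1.2 hN.ne)
  have n3 : ¬ Group.IsSolvable N := fun e => by
    obtain ⟨p, hp, hab⟩ := minnormal_solvable_abelem hN e
    have := Fact.mk hp
    exact n1 (pi_pgroup (abelem_pgroup hab) (eq_of_pgroup_of_dvd (abelem_pgroup hab) hr r1 ▸ r2))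
  have n4 : N = S := by
    obtain ⟨Y, -, hY⟩ := exists_prime_subgroup (H := (⊤ : Subgroup (X ⧸ N))) hp
      (by rw [Subgroup.card_top]; exact Subgroup.index_dvd_of_le n2)
    have hi : N.relIndex (Y.comap (QuotientGroup.mk' N)) = S.index := by
      conv_lhs => arg 1; rw [← QuotientGroup.ker_mk' N, ← MonoidHom.comap_bot]
      rw [Subgroup.relIndex_comap, Subgroup.map_comap_eq_self_of_surjective hf,
        Subgroup.relIndex_bot_left, hY]
    have h1 : Y.comap (QuotientGroup.mk' N) = ⊤ := by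
      by_contra e
      refine n3 (solvableS (fun a ha => ?_) (sub _ N hNn e hi))
      rw [Subgroup.mem_comap, QuotientGroup.mk'_apply, (QuotientGroup.eq_one_iff a).2 ha]
      exact one_mem Y
    rw [h1, Subgroup.relIndex_top_right, ← Subgroup.relIndex_mul_index n2] at hi
    exact le_antisymm n2 (Subgroup.relIndex_eq_one.1 ((Nat.mul_eq_right hp.ne_zero).1 hi))
  subst n4
  exact Min.false ⟨hNn, hΔ.sep.minnormal_simple hΔ.two hN le_top n3 hr r2 r1,
    fun e => n3 (abelian_sol e), hp, hm, hΔ.two, hΔ.sep,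
    fun Y hY e => sub Y N hNn hY (relIndex_of_not_le hp e), fun B => hΔ.odd_norm hp hm⟩

end Cfsg.Lib.PG
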