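import Cfsg.Agent.PG.Reduce
import Cfsg.Agent.FT.BG3.Semireg

/-!
The minimal counterexample to `Gate.PGO`: generalities.
-/

set_option autoImplicit false
set_option linter.unusedSectionVars false

open Pointwise Cfsg Cfsg.Lib.Solv Cfsg.Lib.FT

namespace Cfsg.Lib.PG

universe u

variable {X : Type u} [Group X] [Finite X] {Δ : Set ℕ} {S H K B E Y R : Subgroup X}
  {x y z g : X} {p q r : ℕ}

/-! ### normal subgroups of prime index -/

theorem constt_index_not_mem [S.Normal] (hp : S.index.Prime) (hx : x ∉ S) :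
    constt {S.index} x ∉ S := fun e => hx (by
  rw [← consttC {S.index} x]
  exact S.mul_mem e (mem_of_coprime_orderOf_index_of_normal (Nat.Coprime.symm
    (hp.coprime_iff_not_dvd.2 fun d => p_elt_constt ({S.index}ᶜ) x _ hp d rfl))))

theorem Sep.piElt_of_not_mem [S.Normal] (h : Sep X Δ) (hp : S.index.Prime) (hm : S.index ∈ Δ)
    (hx : x ∉ S) : PiElt Δ x :=
  h.elt (x := constt {S.index} x) (fun e => constt_index_not_mem hp hx (e ▸ S.one_mem))
    (sub_p_elt (Set.singleton_subset_iff.2 hm) (p_elt_constt _ x))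
    (cent1_le_cent1_constt _ x (cent1id x))

theorem relIndex_of_not_le [S.Normal] (hp : S.index.Prime) (hY : ¬ Y ≤ S) :
    S.relIndex Y = S.index :=
  ((Nat.dvd_prime hp).1 (S.relIndex_dvd_index_of_normal Y)).resolve_left
    fun e => hY (Subgroup.relIndex_eq_one.1 e)

theorem comm_mem_of_prime_index [S.Normal] (hp : S.index.Prime) (a b : X) :
    a * b * a⁻¹ * b⁻¹ ∈ S := by
  have := Fact.mk hp
  have : IsCyclic (X ⧸ S) := isCyclic_of_prime_card (p := S.index) rfl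
  have hc : ∀ c d : X ⧸ S, c * d = d * c := IsCyclic.isMulCommutative.1.1
  rw [← QuotientGroup.eq_one_iff]
  simp only [QuotientGroup.mk_mul, QuotientGroup.mk_inv]
  rw [hc (a : X ⧸ S) b]
  group

/-- a fixed point lemma for a group `K E ⟨y⟩` with `K E` and `E ⟨y⟩` Frobenius -/
theorem exists_fix (hK : Group.IsNilpotent K) (hE : E ≤ 𝐍 K) (hyK : y ∈ 𝐍 K) (hyE : y ∈ 𝐍 E)
    (h1 : E ≠ ⊥) (hreg : Semiregular K E) (hy : (orderOf y).Prime) (hf : E ⊓ 𝐂₁ y = ⊥)
    (hr : r.Prime) (hd : r ∣ Nat.card K) : ∃ v ∈ K, orderOf v = r ∧ Commute v y := by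
  have := Fact.mk hr
  have hS := nilpotent_pcore_Hall {r} hK
  have hV : centerOf (piCoreOf {r} K) ≤ K := inf_le_left.trans (pcore_sub _ K)
  have hp : IsPGroup r (centerOf (piCoreOf {r} K)) :=
    isPGroupS inf_le_left (pcore_isPGroup r K)
  have hne : centerOf (piCoreOf {r} K) ≠ ⊥ := fun e =>
    Sylow_ne_bot hS hd ((center_nil_eq1 (nilpotentS (pcore_sub _ K) hK)).1 e)
  have hn : 𝐍 K ≤ 𝐍 (centerOf (piCoreOf {r} K)) := norms_center (norm_pcore _ K)
  have := abelian_center (piCoreOf {r} K)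
  have h2 : centerOf (piCoreOf {r} K) ⊓ 𝐂₁ y ≠ ⊥ := fun e => by
    have h3 := frobenius_abelian_cent1 (K := E) (R := Subgroup.zpowers y)
      (V := centerOf (piCoreOf {r} K)) (Subgroup.zpowers_le.2 hyE) (Fpf.zpowers_of_prime hy hf)
      (hE.trans hn) (Subgroup.zpowers_le.2 (hn hyK)) (coprimeSg hV (hreg.coprime hE))
      (by rwa [cent_zpowers])
    exact hne (le_bot_iff.1 (hreg.cent le_rfl h1 ▸ le_inf hV (centsC.1 h3)))
  obtain ⟨v, hv, ho⟩ := Cauchy hr (pgroup_dvd_card (isPGroupS inf_le_left hp) h2)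
  exact ⟨v, hV hv.1, ho, mem_cent1_iff_commute.1 hv.2⟩

theorem simple_normal (hs : IsSimpleGroup S) (hK : K ≤ S) (hn : S ≤ 𝐍 K) : K = ⊥ ∨ K = S := by
  rcases hs.eq_bot_or_eq_top_of_normal (K.subgroupOf S) (normal_subgroupOf hn) with e | e
  · exact Or.inl (by rwa [Subgroup.subgroupOf_eq_bot, disjoint_iff, inf_eq_left.2 hK] at e)
  · exact Or.inr (le_antisymm hK (Subgroup.subgroupOf_eq_top.1 e))

theorem simple_not_sol (hs : IsSimpleGroup S) (hn : ¬ IsMulCommutative S) :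
    ¬ Group.IsSolvable S := fun e =>
  hn ⟨⟨IsSimpleGroup.comm_iff_isSolvable.2 e⟩⟩

/-- Thompson's normal complement theorem in a simple group. -/
theorem exists_not_nil (hs : IsSimpleGroup S) (hn : ¬ IsMulCommutative S) [Fact r.Prime]
    (h2 : r ≠ 2) (hR : IsSylowOf r R S) (h1 : R ≠ ⊥) :
    ∃ B : Subgroup X, B ≠ ⊥ ∧ B ≤ R ∧ 𝐍 R ≤ 𝐍 B ∧ ¬ Group.IsNilpotent ↥(S ⊓ 𝐍 B) := by
  by_contra key
  push Not at key
  obtain ⟨P, rfl⟩ := exists_sylow_of hR
  have hp := Sylow_pgroup hR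
  have hJ := key _ (Trans.TJ.J_ne_bot hp h1) (Trans.TJ.J_le _)
    (Trans.TJ.normalizer_le_normalizer_J _)
  have hZ := key (centerOf _) (pgroup_cent_ne_bot hp hp (normG _) h1) inf_le_left
    (norms_center le_rfl)
  have hnc : HasNormalPComplement r S := by
    refine (Cfsg.Agent.Gate.S0108.out h2 P).2 ⟨?_, ?_⟩
    · have : Group.IsNilpotent
          (Subgroup.normalizer (thompsonSubgroupOf r (P : Subgroup S) : Set S)) := by
        rw [← isNilpotent_map_subtype_iff, map_subtype_normalizer,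
          Trans.TJ.map_J _ S.subtype_injective]
        exact hJ
      exact hasNormalPComplement_of_isNilpotent r
    · have : Group.IsNilpotent (Subgroup.centralizer
          ((((P : Subgroup S) ⊓ Subgroup.centralizer (P : Set S)) : Subgroup S) : Set S)) := by
        rw [← isNilpotent_map_subtype_iff, map_subtype_centralizer]
        refine nilpotentS ?_ hZ
        refine inf_le_inf_left _ (le_trans (Subgroup.centralizer_le ?_) (cent_sub _))
        rintro y ⟨hy, hy'⟩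
        refine ⟨⟨y, hR.1 hy⟩, ⟨?_, fun z hz =>
          Subtype.ext (hy' z (Subgroup.mem_map_of_mem _ hz))⟩, rfl⟩
        obtain ⟨w, hw, rfl⟩ := hy
        exact hw
      exact hasNormalPComplement_of_isNilpotent r
  rw [Trans.hasNormalPComplement_iff_not_dvd] at hnc
  rcases hs.eq_bot_or_eq_top_of_normal (pResidual r S) inferInstance with h | h
  · exact simple_not_sol hs hn (pgroup_sol (Trans.pResidual_eq_bot_iff.1 h))
  · rw [h, Subgroup.card_top] at hnc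
    exact hnc ((pgroup_dvd_card hp h1).trans (cardSg hR.1))

/-- The minimal counterexample. -/
structure Min (S : Subgroup X) (Δ : Set ℕ) : Prop where
  normal : S.Normal
  simple : IsSimpleGroup S
  nonab : ¬ IsMulCommutative S
  prime : S.index.Prime
  mem : S.index ∈ Δ
  two : 2 ∉ Δ
  sep : Sep X Δ
  sol : ∀ Y : Subgroup X, Y ≠ ⊤ → ¬ Y ≤ S → Group.IsSolvable Y
  odd : ∀ B : Subgroup X, B ≠ ⊥ → IsPiSubgroup Δ B → Odd (Nat.card (𝐍 B))

namespace Min

theorem pi (h : Min S Δ) (hx : x ∉ S) : PiElt Δ x :=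
  have := h.normal
  h.sep.piElt_of_not_mem h.prime h.mem hx

theorem ne_one (hx : x ∉ S) : x ≠ 1 := fun e => hx (e ▸ S.one_mem)

theorem le (h : Min S Δ) (hK : IsPiSubgroup Δᶜ K) : K ≤ S := fun a ha => by
  by_contra e
  exact ne_one e (p_elt_eq_one (h.pi e) (mem_p_elt hK ha))

theorem norm (h : Min S Δ) (g : X) : g ∈ 𝐍 S := (normal_top_iff.2 h.normal).norm trivial

theorem not_sol (h : Min S Δ) : ¬ Group.IsSolvable S := simple_not_sol h.simple h.nonab

theorem nil (h : Min S Δ) (hK : IsPiSubgroup Δᶜ K) (hy : y ∉ S) (hn : y ∈ 𝐍 K) :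
    Group.IsNilpotent K :=
  h.sep.nil hK (pgroup_zpowers.2 (h.pi hy)) (fun e => ne_one hy (Subgroup.zpowers_eq_bot.1 e))
    (Subgroup.zpowers_le.2 hn)

theorem cent_pi (h : Min S Δ) (hy : y ∉ S) : IsPiSubgroup Δ (𝐂₁ y) :=
  h.sep y (ne_one hy) (h.pi hy)

/-- normalisers of `Δ'`-subgroups that do not lie in `S` are Frobenius groups -/
theorem frob (h : Min S Δ) (hB : B ≠ ⊥) (hπ : IsPiSubgroup Δᶜ B) (hy : y ∉ S) (hn : y ∈ 𝐍 B) :
    ∃ K E : Subgroup X, IsFrob (𝐍 B) K E ∧ y ∈ E ∧ IsPiSubgroup Δᶜ K ∧ IsPiSubgroup Δ E := by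
  have := h.normal
  have h1 : 𝐍 B ≠ ⊤ := fun e => by
    have := (simple_normal h.simple (h.le hπ) (e ▸ le_top)).resolve_left hB
    exact h.not_sol (this ▸ nilpotent_sol (h.nil hπ hy hn))
  have := h.sol _ h1 fun e => hy (e hn)
  have hS : ∀ K : Subgroup (𝐍 B), IsPiNum Δᶜ (Nat.card K) → K ≤ S.subgroupOf (𝐍 B) :=
    fun K hK => Subgroup.map_le_iff_le_comap.1 (h.le (pgroup_map _ hK))
  obtain ⟨C, c1, c2, c3, c4⟩ := (h.sep.compl.sub (𝐍 B)).psep.structure
    (fun e => hB (le_bot_iff.1 (by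
      have := pcore_max hπ (normalG B)
      rwa [piCoreOf, e, Subgroup.map_bot] at this)))
    (fun e => hy (h.le (K := 𝐍 B) e hn))
  rw [compl_compl] at c2
  rcases c4 with c4 | ⟨D, c4, c5⟩
  · have h3 : IsFrob (𝐍 B) (piCoreOf Δᶜ (𝐍 B)) (C.map (𝐍 B).subtype) := by
      have := (IsFrob.of_semiregular (Fpf.le_normalizer_of_normal' _ C) (fun e => hB (le_bot_iff.1 (by
        have := pcore_max hπ (normalG B)
        rwa [piCoreOf, e, Subgroup.map_bot] at this))) c1 c3).map_of_injective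
          (𝐍 B).subtype_injective
      rwa [c4, ← MonoidHom.range_eq_map, Subgroup.range_subtype] at this
    obtain ⟨k, hk, hk'⟩ := h3.exists_conj_mem hn fun e => hy (h.le (pcore_pgroup _ _) e)
    exact ⟨_, _, h3.conj_compl (h3.ker_le hk), mem_conj_smul.2 hk', pcore_pgroup _ _,
      (pgroupJ k).2 (pgroup_map _ c2)⟩
  · have h3 := (IsFrob.of_semiregular c4.norm c4.Cne c4.Dne c4.fC).commg_eq
    have h4 : C ≤ S.subgroupOf (𝐍 B) := h3 ▸ (commgSS le_rfl (hS D c5)).trans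
      (Subgroup.commutator_le_right _ _)
    have h5 := sup_le (hS _ (isPiNum_card_piCore _ _)) (sup_le h4 (hS D c5))
    rw [c4.sup] at h5
    exact absurd (h5 (x := ⟨y, hn⟩) trivial) hy

/-- an invariant `Δ'`-subgroup lies in one that is normalised by a fixed point -/
theorem exists_norm (h : Min S Δ) (hB : IsPiSubgroup Δᶜ B) (hy : y ∉ S) (hn : y ∈ 𝐍 B)
    (hp : (orderOf y).Prime) (hr : r.Prime) (h2 : r ≠ 2) (hd : r ∣ Nat.card B) :
    ∃ K : Subgroup X, IsPiSubgroup Δᶜ K ∧ B ≤ K ∧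
      ∃ w ∈ S, w ≠ 1 ∧ Commute w y ∧ w ∈ 𝐍 K := by
  have := Fact.mk hr
  obtain ⟨K, k0, ⟨k1, k2⟩, k3⟩ := (Set.toFinite
    {K : Subgroup X | IsPiSubgroup Δᶜ K ∧ y ∈ 𝐍 K}).exists_le_maximal (a := B) ⟨hB, hn⟩
  have kn := h.nil k1 hy k2
  have key : ∀ C : Subgroup X, C ≠ ⊥ → C ≤ K → 𝐍 K ≤ 𝐍 C →
      ∃ E, IsFrob (𝐍 C) K E ∧ y ∈ E ∧ IsPiSubgroup Δ E := fun C c1 c2 c3 => by
    obtain ⟨K', E, f1, f2, f3, f4⟩ := h.frob c1 (pgroupS c2 k1) hy (c3 k2)
    have h4 : K ≤ K' := f1.sdprod.le_left_of_coprime ((normG K).trans c3) (p'nat_coprime k1 f4)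
    exact ⟨E, le_antisymm h4 (k3 ⟨f3, f1.norm f2⟩ h4) ▸ f1, f2, f4⟩
  have hS := nilpotent_pcore_Hall {r} kn
  have hd' := hd.trans (cardSg k0)
  have h1 := Sylow_ne_bot hS hd'
  obtain ⟨E, f1, -, f3⟩ := key _ h1 (pcore_sub _ K) (norm_pcore _ K)
  have hRS : piCoreOf {r} K ≤ S := (pcore_sub _ K).trans (h.le k1)
  have hR : IsSylowOf r (piCoreOf {r} K) S := (Sylow_subnorm hRS).1 (pHall_subl
    (le_inf hRS (normG _)) inf_le_right (subHall_Sylow (f1.sdprod.isPiHallOf_left_iff.2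
      ⟨k1, by rwa [compl_compl]⟩) (k1 r hr hd') hS))
  obtain ⟨C, c1, c2, c3, c4⟩ := exists_not_nil h.simple h.nonab h2 hR h1
  obtain ⟨E, f1, f2, -⟩ := key C c1 (c2.trans (pcore_sub _ K)) ((norm_pcore _ K).trans c3)
  have f5 := f1.sdprod.modr (h.le k1)
  have f6 : E ⊓ S ≠ ⊥ := fun e => c4 (by
    rw [inf_comm, ← f5.eq_left_of_right_eq_bot e]; exact kn)
  have f7 : E ⊓ S ⊓ 𝐂₁ y ≠ ⊥ := fun e => by
    obtain ⟨v, hv, ho, hc⟩ := exists_fix kn (inf_le_left.trans f1.norm) k2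
      (normsI (A := Subgroup.zpowers y) (normsG (Subgroup.zpowers_le.2 f2))
        (fun g _ => h.norm g) (Subgroup.mem_zpowers y)) f6
      (f1.regular.mono le_rfl inf_le_left) hp e hr hd'
    rw [f1.regular.eq_one f2 (ne_one hy) hv hc, orderOf_one] at ho
    exact hr.one_lt.ne ho
  obtain ⟨w, hw, hw1⟩ := trivgPn.1 f7
  exact ⟨K, k1, k0, w, hw.1.2, hw1, mem_cent1_iff_commute.1 hw.2, f1.norm hw.1.1⟩

end Min

end Cfsg.Lib.PG
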