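import Cfsg.Agent.PG.Three
import Cfsg.Agent.FT.PF10.Type5

/-! Peterfalvi, section 10, for a subgroup of odd order of a group of even order. -/

set_option autoImplicit false

open Pointwise Cfsg Cfsg.Lib.Solv Cfsg.Lib.FT
open scoped ComplexConjugate

namespace Cfsg.Lib.PG

variable {G : Type*} [Group G] [Finite G] {M K W W₁ W₂ : Subgroup G} {A₀ : Set G}
  {R : G → Subgroup G} {ζ : G → ℂ} {τ₁ : (G → ℂ) →ₗ[ℂ] (G → ℂ)}

local notation "d" => FTtype345_TIirr_degree M W₁ W₂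
local notation "δ" => FTtype345_TIsign M W₁ W₂
local notation "n" => FTtype345_ratio M W₁ W₂

namespace T345

variable (h : T345 M K W W₁ W₂ A₀ R)
include h

omit [Finite G] in
theorem prTI : PrimeTIHyp M K W W₁ W₂ := h.dd.prTI
omit [Finite G] in
theorem cycTI : CyclicTIHyp ⊤ W W₁ W₂ := h.dd.cycTI
omit [Finite G] in
theorem dade : DadeHypothesis A₀ M R := h.dd.dade
omit [Finite G] in
theorem nsK : K ⊲ M := h.dd.H_normal
omit [Finite G] in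
theorem oddM : Odd (Nat.card M) := h.odd
omit [Finite G] in
theorem sharp_sub : sharp K ⊆ A₀ := by
  rw [h.dd.A₀_eq]
  exact Set.subset_union_left
theorem hatNe_ne : hatNe W₂ ≠ 1 :=
  hatNe_ne_one (exists_Hat_ne_one h.cycTI.symm.W₁_cyclic.isMulCommutative h.cycTI.W₂_ne)
theorem w₁_gt2 : 2 < Nat.card W₁ := h.cycTI.W₁_gt2
theorem w₂_gt2 : 2 < Nat.card W₂ := h.cycTI.W₂_gt2
theorem Smu {j : Hat W₂} (hj : j ≠ 1) : primeTIred M W₁ j ∈ seqIndD K M K ⊥ :=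
  prTIred_mem_seqIndD h.prTI h.prTI.W₂_le hj
theorem cjSubset : CjSubset (seqIndD K M K ⊥) (seqIndD K M K ⊥) := seqInd_conjC_subset1 le_rfl
theorem noReal {S : Finset (G → ℂ)} (hS : S ⊆ seqIndD K M K ⊥) : ∀ χ ∈ S, cj χ ≠ χ :=
  fun _ hχ => seqInd_conjC_neq h.nsK h.oddM le_rfl (hS hχ)
theorem subcoherent : ∃ R', Subcoherent M ⊤ (seqIndD K M K ⊥) (Dade A₀ R) R' := by
  obtain ⟨R', hR, -⟩ := prDade_subcoherent h.dd h.cjSubset (h.noReal subset_rfl)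
  exact ⟨R', hR⟩
theorem ref_irr : ∃ ζ ∈ Irr M, ζ ∈ seqIndD K M K ⊥ ∧ ζ 1 = Nat.card W₁ :=
  prTI_ref_irr h.prTI h.W₂_le h.sol

/-- The restriction of the Dade hypothesis to `A(M) = K^#`. -/
theorem dade_sharp : DadeHypothesis (sharp K) M R :=
  restr_Dade_hyp h.dade h.sharp_sub h.dd.A_norm

theorem zson_on {S : Finset (G → ℂ)} (hS : S ⊆ seqIndD K M K ⊥) {φ : G → ℂ}
    (hφ : φ ∈ ZSon (S : Set (G → ℂ)) {1}ᶜ) : φ ∈ CFon M A₀ :=
  cfun_onS h.sharp_sub (zcharD1_seqInd_on h.nsK (hS.trans (seqIndD_subT K M K ⊥)) hφ)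

end T345

/-- Peterfalvi (10.3): the degrees. -/
theorem FTtype345_TIirr1 (h : T345 M K W W₁ W₂ A₀ R) (i : Hat W₁) {j : Hat W₂} (hj : j ≠ 1) :
    primeTIirr M i j 1 = FTtype345_TIirr_degree M W₁ W₂ := by
  obtain ⟨σ, rfl⟩ := exists_autHat_eq (prime_cycTIhyp h.prTI) h.prime h.hatNe_ne hj
  have h1 := irr_char (prTIirr_mem_Irr h.prTI (1 : Hat W₁) (hatNe W₂))
  rw [prTIirr_1 h.prTI, prTIres_aut h.prTI, cfAut_apply, ← prTIirr_1 h.prTI 1, h1.cfAut_one]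
  exact h1.deg_eq

/-- Peterfalvi (10.3): the signs. -/
theorem FTtype345_TIsign_eq (h : T345 M K W W₁ W₂ A₀ R) {j : Hat W₂} (hj : j ≠ 1) :
    primeTIsign M W₁ j = FTtype345_TIsign M W₁ W₂ := by
  obtain ⟨σ, rfl⟩ := exists_autHat_eq (prime_cycTIhyp h.prTI) h.prime h.hatNe_ne hj
  exact prTIsign_aut h.prTI σ _

theorem FTtype345_TIres_deg (h : T345 M K W W₁ W₂ A₀ R) {j : Hat W₂} (hj : j ≠ 1) :
    deg (primeTIres M K W₁ j) = FTtype345_TIirr_degree M W₁ W₂ :=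
  deg_eq_of (by rw [← prTIirr_1 h.prTI 1, FTtype345_TIirr1 h 1 hj])

/-- Peterfalvi (10.3): `d > 1`. -/
theorem FTtype345_degree_gt1 (h : T345 M K W W₁ W₂ A₀ R) :
    1 < FTtype345_TIirr_degree M W₁ W₂ := by
  have hirr := prTIres_mem_Irr h.prTI (hatNe W₂)
  have h1 := irr_deg_pos hirr
  have h2 := FTtype345_TIres_deg h h.hatNe_ne
  by_contra hlt
  have h3 : deg (primeTIres M K W₁ (hatNe W₂)) = 1 := by omega
  exact cfker_prTIres_W₂ h.prTI h.hatNe_ne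
    (h.W₂_le.trans ((irr_char hirr).lin_of_deg h3).der_le_cfker)

/-- Peterfalvi (10.3): `d - δ = n w₁`. -/
theorem FTtype345_ratioE (h : T345 M K W W₁ W₂ A₀ R) :
    (FTtype345_TIirr_degree M W₁ W₂ : ℤ) - FTtype345_TIsign M W₁ W₂ =
      FTtype345_ratio M W₁ W₂ * Nat.card W₁ := by
  obtain ⟨m, hm⟩ := prTIirr1_mod h.prTI (1 : Hat W₁) (hatNe W₂)
  rw [FTtype345_TIirr1 h 1 h.hatNe_ne] at hm
  have hm' : (FTtype345_TIirr_degree M W₁ W₂ : ℤ) - FTtype345_TIsign M W₁ W₂ =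
      m * Nat.card W₁ := by exact_mod_cast hm
  have h1 := FTtype345_degree_gt1 h
  have h2 := FTtype345_TIsign_cases M W₁ W₂
  have h3 := h.w₁_gt2
  have hm0 : 0 ≤ m := by
    by_contra hneg
    have : m * (Nat.card W₁ : ℤ) ≤ 0 := mul_nonpos_of_nonpos_of_nonneg (by omega) (by omega)
    omega
  obtain ⟨k, rfl⟩ := Int.eq_ofNat_of_zero_le hm0
  unfold FTtype345_ratio
  rw [hm', ← Nat.cast_mul, Int.toNat_natCast, Nat.mul_div_cancel _ (by omega), Nat.cast_mul]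

theorem FTtype345_ratioC (h : T345 M K W W₁ W₂ A₀ R) :
    (FTtype345_TIirr_degree M W₁ W₂ : ℂ) - FTtype345_TIsign M W₁ W₂ =
      FTtype345_ratio M W₁ W₂ * Nat.card W₁ := by exact_mod_cast FTtype345_ratioE h

theorem FTtype345_degree_odd (h : T345 M K W W₁ W₂ A₀ R) :
    Odd (FTtype345_TIirr_degree M W₁ W₂) :=
  h.oddM.of_dvd_nat (irr_deg_dvd_card (prTIirr_mem_Irr h.prTI _ _))

/-- `n` is even and positive. -/
theorem FTtype345_ratio_even (h : T345 M K W W₁ W₂ A₀ R) :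
    Even (FTtype345_ratio M W₁ W₂) ∧ 2 ≤ FTtype345_ratio M W₁ W₂ := by
  have h1 := FTtype345_ratioE h
  have h2 := FTtype345_TIsign_cases M W₁ W₂
  have h3 := FTtype345_degree_gt1 h
  obtain ⟨a, ha⟩ := FTtype345_degree_odd h
  obtain ⟨b, hb⟩ := h.cycTI.W₁_odd
  have h4 : Even (FTtype345_ratio M W₁ W₂) := by
    by_contra hne
    obtain ⟨c, hc⟩ := Nat.not_even_iff_odd.1 hne
    rw [ha, hb, hc] at h1
    push_cast at h1
    have : (2 * (c : ℤ) + 1) * (2 * b + 1) = 2 * (2 * c * b + c + b) + 1 := by ring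
    omega
  refine ⟨h4, ?_⟩
  obtain ⟨c, hc⟩ := h4
  rcases Nat.eq_zero_or_pos c with rfl | hc0
  · rw [hc] at h1
    simp only [add_zero, Nat.cast_zero, zero_mul] at h1
    omega
  · omega

/-- Peterfalvi (10.3), the constants. -/
theorem FTtype345_constants (h : T345 M K W W₁ W₂ A₀ R) :
    (∀ (i : Hat W₁) (j : Hat W₂), j ≠ 1 → primeTIirr M i j 1 = FTtype345_TIirr_degree M W₁ W₂) ∧
    (∀ j : Hat W₂, j ≠ 1 → primeTIsign M W₁ j = FTtype345_TIsign M W₁ W₂) ∧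
    1 < FTtype345_TIirr_degree M W₁ W₂ ∧
    (FTtype345_TIirr_degree M W₁ W₂ : ℤ) - FTtype345_TIsign M W₁ W₂ =
      FTtype345_ratio M W₁ W₂ * Nat.card W₁ :=
  ⟨fun i _ hj => FTtype345_TIirr1 h i hj, fun _ hj => FTtype345_TIsign_eq h hj,
    FTtype345_degree_gt1 h, FTtype345_ratioE h⟩

theorem FTtype345_TIred1 (h : T345 M K W W₁ W₂ A₀ R) {j : Hat W₂} (hj : j ≠ 1) :
    primeTIred M W₁ j 1 = Nat.card W₁ * FTtype345_TIirr_degree M W₁ W₂ := by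
  rw [prTIred_1 h.prTI, FTtype345_TIirr1 h 1 hj]

/-- `μ_j - d ζ ∈ 'Z[S, M^#]`. -/
theorem FTtype345_muBzeta (h : T345 M K W W₁ W₂ A₀ R) {S : Finset (G → ℂ)} (Sζ : ζ ∈ S)
    (ζ1 : ζ 1 = Nat.card W₁) {j : Hat W₂} (hj : j ≠ 1) (Sj : primeTIred M W₁ j ∈ S) :
    primeTIred M W₁ j - (FTtype345_TIirr_degree M W₁ W₂ : ℂ) • ζ ∈
      ZSon (S : Set (G → ℂ)) {1}ᶜ := by
  refine mem_ZSon_compl_one.2 ⟨sub_mem (mem_ZS Sj) (natCast_smul_mem _ (mem_ZS Sζ)), ?_⟩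
  rw [Pi.sub_apply, Pi.smul_apply, FTtype345_TIred1 h hj, ζ1, smul_eq_mul]
  ring

theorem FTtype345_mu0Bzeta_on (h : T345 M K W W₁ W₂ A₀ R) (Sζ : ζ ∈ seqIndD K M K ⊥)
    (ζ1 : ζ 1 = Nat.card W₁) : primeTIred M W₁ (1 : Hat W₂) - ζ ∈ CFon M (sharp K) := by
  refine cfun_onD1.2 ⟨sub_mem (prTIred_on h.prTI 1) (seqInd_on h.nsK (seqIndD_subT _ _ _ _ Sζ)), ?_⟩
  rw [Pi.sub_apply, prTIred_1 h.prTI, prTIirr0_1 h.prTI, ζ1, mul_one, sub_self]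

theorem FTtype345_mu0Bzeta_vchar (h : T345 M K W W₁ W₂ A₀ R) (Sζ : ζ ∈ seqIndD K M K ⊥) :
    primeTIred M W₁ (1 : Hat W₂) - ζ ∈ VC M :=
  sub_mem (prTIred_vcharW h.prTI 1) (seqInd_vcharW h.nsK (seqIndD_subT _ _ _ _ Sζ))

theorem vchar_FTtype345_bridge (h : T345 M K W W₁ W₂ A₀ R) (Sζ : ζ ∈ seqIndD K M K ⊥)
    (i : Hat W₁) (j : Hat W₂) : FTtype345_bridge M ζ i j ∈ VC M :=
  sub_mem (sub_mem (prTIirr_vchar h.prTI i j) (intCast_smul_mem _ (prTIirr_vchar h.prTI i 1)))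
    (natCast_smul_mem _ (seqInd_vcharW h.nsK (seqIndD_subT _ _ _ _ Sζ)))

theorem FTtype345_bridge_apply (h : T345 M K W W₁ W₂ A₀ R) (Sζ : ζ ∈ seqIndD K M K ⊥)
    (i : Hat W₁) {j : Hat W₂} (hj : j ≠ 1) {x : G} (hx : x ∈ W) (hx2 : x ∉ W₂) :
    FTtype345_bridge M ζ i j x =
      FTtype345_TIsign M W₁ W₂ * (cycTIirr i j x - cycTIirr i (1 : Hat W₂) x) := by
  have hxK : x ∉ K := fun hK => hx2 (h.prTI.W_inf_K ▸ ⟨hx, hK⟩)
  unfold FTtype345_bridge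
  simp only [Pi.sub_apply, Pi.smul_apply, smul_eq_mul]
  rw [prTIirr_id h.prTI i j hx hx2, prTIirr_id h.prTI i 1 hx hx2, prTIsign0 h.prTI,
    FTtype345_TIsign_eq h hj, cfun_on0 (seqInd_on h.nsK (seqIndD_subT _ _ _ _ Sζ)) hxK]
  push_cast
  ring

/-- Peterfalvi (10.5), first part. -/
theorem supp_FTtype345_bridge (h : T345 M K W W₁ W₂ A₀ R) (Sζ : ζ ∈ seqIndD K M K ⊥)
    (ζ1 : ζ 1 = Nat.card W₁) (i : Hat W₁) {j : Hat W₂} (hj : j ≠ 1) :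
    FTtype345_bridge M ζ i j ∈ CFon M A₀ := by
  have hcf := vchar_cf (vchar_FTtype345_bridge h Sζ i j)
  refine ⟨hcf, fun x hx => ?_⟩
  rw [h.dd.A₀_eq, Set.mem_union, not_or] at hx
  by_cases hxM : x ∈ M
  swap
  · exact cfun0 hcf hxM
  by_cases hxK : x ∈ K
  · have hx1 : x = 1 := by
      by_contra hne
      exact hx.1 ⟨hxK, hne⟩
    subst hx1
    unfold FTtype345_bridge
    simp only [Pi.sub_apply, Pi.smul_apply, smul_eq_mul]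
    rw [FTtype345_TIirr1 h i hj, prTIirr0_1 h.prTI, ζ1, mul_one, FTtype345_ratioC h, sub_self]
  · have hx' : x ∈ classSupport ((W : Set G) \ (W₂ : Set G)) M := by
      rw [classSupport_prTIset h.prTI]
      exact ⟨hxM, hxK⟩
    obtain ⟨y, ⟨hyW, hy2⟩, g, hg, rfl⟩ := hx'
    have hy1 : y ∈ W₁ := by
      by_contra hy1
      exact hx.2 (conj_mem_classSupport (mem_cyclicTIset.2 ⟨hyW, hy1, hy2⟩) hg)
    rw [cfunJ hcf hg, FTtype345_bridge_apply h Sζ i hj hyW hy2,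
      cycTIirr_apply_left h.prTI.dprod i j hy1, cycTIirr_apply_left h.prTI.dprod i 1 hy1, sub_self,
      mul_zero]

theorem vchar_Dade_FTtype345_bridge (h : T345 M K W W₁ W₂ A₀ R) (Sζ : ζ ∈ seqIndD K M K ⊥)
    (ζ1 : ζ 1 = Nat.card W₁) (i : Hat W₁) {j : Hat W₂} (hj : j ≠ 1) :
    Dade A₀ R (FTtype345_bridge M ζ i j) ∈ VC (⊤ : Subgroup G) :=
  Dade_vchar h.dade
    (mem_VCon_of (vchar_FTtype345_bridge h Sζ i j) (supp_FTtype345_bridge h Sζ ζ1 i hj))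

theorem dot_FTtype345_bridge_self (h : T345 M K W W₁ W₂ A₀ R) (irrζ : ζ ∈ Irr M)
    (Sζ : ζ ∈ seqIndD K M K ⊥) (i : Hat W₁) {j : Hat W₂} (hj : j ≠ 1) :
    dot M (FTtype345_bridge M ζ i j) (FTtype345_bridge M ζ i j) =
      2 + (FTtype345_ratio M W₁ W₂ : ℂ) ^ 2 := by
  have hT := seqIndD_subT _ _ _ _ Sζ
  have hs := FTtype345_TIsign_mul_self M W₁ W₂
  rw [dot_FTtype345_bridge]
  unfold FTtype345_bridge
  simp only [dot_sub_right, dot_smul_right, cfdot_prTIirr h.prTI, dot_prTIirr_seqIndT_irr h.prTI hT irrζ,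
    dot_seqIndT_irr_prTIirr h.prTI hT irrζ, dot_irr_self irrζ, hj, hj.symm, and_false, if_false,
    and_self, if_true, map_intCast, map_natCast]
  linear_combination hs

theorem norm_FTtype345_bridge (h : T345 M K W W₁ W₂ A₀ R) (irrζ : ζ ∈ Irr M)
    (Sζ : ζ ∈ seqIndD K M K ⊥) (ζ1 : ζ 1 = Nat.card W₁) (i : Hat W₁) {j : Hat W₂} (hj : j ≠ 1) :
    dot ⊤ (Dade A₀ R (FTtype345_bridge M ζ i j)) (Dade A₀ R (FTtype345_bridge M ζ i j)) =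
      2 + (FTtype345_ratio M W₁ W₂ : ℂ) ^ 2 := by
  have hs := supp_FTtype345_bridge h Sζ ζ1 i hj
  rw [Dade_isometry h.dade hs hs, dot_FTtype345_bridge_self h irrζ Sζ i hj]

theorem nrm_FTtype345_bridge (h : T345 M K W W₁ W₂ A₀ R) (irrζ : ζ ∈ Irr M)
    (Sζ : ζ ∈ seqIndD K M K ⊥) (ζ1 : ζ 1 = Nat.card W₁) (i : Hat W₁) {j : Hat W₂} (hj : j ≠ 1) :
    nrm ⊤ (Dade A₀ R (FTtype345_bridge M ζ i j)) = 2 + (FTtype345_ratio M W₁ W₂ : ℝ) ^ 2 := by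
  have := norm_FTtype345_bridge h irrζ Sζ ζ1 i hj
  rw [dot_self] at this
  exact_mod_cast this

/-- The last paragraph of the proof of (10.5). -/
theorem FTtype345_bridge_split (h : T345 M K W W₁ W₂ A₀ R) (irrζ : ζ ∈ Irr M)
    (Sζ : ζ ∈ seqIndD K M K ⊥) (ζ1 : ζ 1 = Nat.card W₁) (i : Hat W₁) {j : Hat W₂} (hj : j ≠ 1)
    {X Y : G → ℂ} (hXY : Dade A₀ R (FTtype345_bridge M ζ i j) = X + Y) (hY : Y ∈ VC ⊤)
    (oXY : dot ⊤ X Y = 0) (oY : ∀ (i : Hat W₁) (j : Hat W₂), dot ⊤ Y (cycTIeta ⊤ i j) = 0)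
    (nY : nrm ⊤ Y = (FTtype345_ratio M W₁ W₂ : ℝ) ^ 2) :
    X = (FTtype345_TIsign M W₁ W₂ : ℂ) • (cycTIeta ⊤ i j - cycTIeta ⊤ i (1 : Hat W₂)) := by
  have hX : X = Dade A₀ R (FTtype345_bridge M ζ i j) - Y := by rw [hXY, add_sub_cancel_right]
  refine eq_signed_sub_cTIiso h.cycTI (FTtype345_TIsign_casesC M W₁ W₂) i ?_ ?_ hj ?_
  · rw [hX]
    exact sub_mem (vchar_Dade_FTtype345_bridge h Sζ ζ1 i hj) hY
  · have h1 := nrm_FTtype345_bridge h irrζ Sζ ζ1 i hj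
    rw [hXY, nrm_add_of_dot_eq_zero oXY, nY] at h1
    rw [dot_self, show nrm ⊤ X = 2 by linarith]
    norm_num
  · intro x hx
    obtain ⟨hxW, -, hx2⟩ := mem_cyclicTIset.1 hx
    rw [hX, Pi.sub_apply, ortho_cycTIiso_vanish h.cycTI (vchar_cf hY) oY hx,
      prDade_id_V h.dd (vchar_cf (vchar_FTtype345_bridge h Sζ i j)) hx,
      FTtype345_bridge_apply h Sζ i hj hxW hx2, Pi.smul_apply, Pi.sub_apply,
      cycTIeta_restrict h.cycTI i j hx, cycTIeta_restrict h.cycTI i 1 hx, sub_zero, smul_eq_mul]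

/-- The form of the end of (10.5) used in (11.8). -/
theorem FTtype345_bridge_coherence (h : T345 M K W W₁ W₂ A₀ R) (irrζ : ζ ∈ Irr M)
    (Sζ : ζ ∈ seqIndD K M K ⊥) (ζ1 : ζ 1 = Nat.card W₁) {S₁ : Finset (G → ℂ)}
    {τ₁ : (G → ℂ) →ₗ[ℂ] (G → ℂ)} (coh : CoherentWith M ⊤ S₁ {1}ᶜ (Dade A₀ R) τ₁) (i : Hat W₁)
    {j : Hat W₂} {X Y : G → ℂ} (hXY : Dade A₀ R (FTtype345_bridge M ζ i j) = X + Y)
    (sS₁ : CjSubset S₁ (seqIndD K M K ⊥)) (irrS₁ : S₁ ⊆ Irr M) (hj : j ≠ 1)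
    (hY : Y ∈ ZS (τ₁ '' (S₁ : Set (G → ℂ)))) (oX : ∀ φ ∈ S₁, dot ⊤ X (τ₁ φ) = 0)
    (nY : nrm ⊤ Y = (FTtype345_ratio M W₁ W₂ : ℝ) ^ 2) :
    X = (FTtype345_TIsign M W₁ W₂ : ℂ) • (cycTIeta ⊤ i j - cycTIeta ⊤ i (1 : Hat W₂)) := by
  refine FTtype345_bridge_split h irrζ Sζ ζ1 i hj hXY (ZS_le_VC ?_ hY) ?_ (fun i' j' => ?_) nY
  · rintro _ ⟨φ, hφ, rfl⟩
    exact coh.vc_map hφ
  · refine dot_eq_zero_of_mem_span_right ?_ hY
    rintro _ ⟨φ, hφ, rfl⟩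
    exact oX φ hφ
  · refine dot_eq_zero_of_mem_span_left ?_ hY
    rintro _ ⟨φ, hφ, rfl⟩
    exact coherent_prDade_ortho_cycTIiso h.dd sS₁ (h.noReal sS₁.sub) coh hφ (irrS₁ hφ) i' j'

/-- The form of the end of (10.5) used in (10.5) and (10.10). -/
theorem FTtype345_def_tau_alpha (h : T345 M K W W₁ W₂ A₀ R) (irrζ : ζ ∈ Irr M)
    (ζ1 : ζ 1 = Nat.card W₁) {S₁ : Finset (G → ℂ)}
    {τ₁ : (G → ℂ) →ₗ[ℂ] (G → ℂ)} (coh : CoherentWith M ⊤ S₁ {1}ᶜ (Dade A₀ R) τ₁)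
    (sS₁ : CjSubset S₁ (seqIndD K M K ⊥)) (S₁ζ : ζ ∈ S₁) (i : Hat W₁) {j : Hat W₂} (hj : j ≠ 1)
    (ha : dot ⊤ (Dade A₀ R (FTtype345_bridge M ζ i j)) (τ₁ ζ) = -(FTtype345_ratio M W₁ W₂ : ℂ)) :
    Dade A₀ R (FTtype345_bridge M ζ i j) =
      (FTtype345_TIsign M W₁ W₂ : ℂ) • (cycTIeta ⊤ i j - cycTIeta ⊤ i (1 : Hat W₂)) -
        (FTtype345_ratio M W₁ W₂ : ℂ) • τ₁ ζ := by
  have hd := coh.dirr S₁ζ irrζ
  rw [← FTtype345_bridge_split h irrζ (sS₁.sub S₁ζ) ζ1 i hj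
    (X := Dade A₀ R (FTtype345_bridge M ζ i j) + (FTtype345_ratio M W₁ W₂ : ℂ) • τ₁ ζ)
    (Y := -((FTtype345_ratio M W₁ W₂ : ℂ) • τ₁ ζ)) (by rw [add_neg_cancel_right])
    (neg_mem (natCast_smul_mem _ (dirr_vchar hd))) ?_ (fun i' j' => ?_) ?_, add_sub_cancel_right]
  · rw [dot_neg_right, dot_smul_right, dot_add_left, dot_smul_left, ha, dirr_dot_self hd]
    ring
  · rw [nrm_neg, nrm_natCast_smul, dirr_nrm hd, mul_one]
  · rw [dot_neg_left, dot_smul_left,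
      coherent_prDade_ortho_cycTIiso h.dd sS₁ (h.noReal sS₁.sub) coh S₁ζ irrζ, mul_zero, neg_zero]

/-- `∑_i α_ij = (μ_j - d ζ) - δ (μ_0 - ζ)`. -/
theorem sum_FTtype345_bridge (h : T345 M K W W₁ W₂ A₀ R) (ζ : G → ℂ) (j : Hat W₂) :
    ∑ i : Hat W₁, FTtype345_bridge M ζ i j =
      (primeTIred M W₁ j - (FTtype345_TIirr_degree M W₁ W₂ : ℂ) • ζ) -
        (FTtype345_TIsign M W₁ W₂ : ℂ) • (primeTIred M W₁ (1 : Hat W₂) - ζ) := by
  unfold FTtype345_bridge primeTIred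
  rw [Finset.sum_sub_distrib, Finset.sum_sub_distrib, ← Finset.smul_sum, Finset.sum_const,
    Finset.card_univ, h.cycTI.card_Hat₁, ← Nat.cast_smul_eq_nsmul ℂ, smul_smul,
    mul_comm (Nat.card W₁ : ℂ), ← FTtype345_ratioC h]
  module

/-- Peterfalvi (10.9). -/
theorem FTtype345_Dade_bridge0 (h : T345 M K W W₁ W₂ A₀ R) (irrζ : ζ ∈ Irr M)
    (Sζ : ζ ∈ seqIndD K M K ⊥) (ζ1 : ζ 1 = Nat.card W₁) (hlt : Nat.card W₁ < Nat.card W₂) :
    ∃ χ : G → ℂ, Dade A₀ R (primeTIred M W₁ (1 : Hat W₂) - ζ) =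
        ∑ i : Hat W₁, cycTIeta ⊤ i (1 : Hat W₂) - χ ∧ χ ∈ VC (⊤ : Subgroup G) ∧ dot ⊤ χ χ = 1 ∧
      ∀ (i : Hat W₁) (j : Hat W₂), dot ⊤ χ (cycTIeta ⊤ i j) = 0 := by
  have hT := seqIndD_subT _ _ _ _ Sζ
  have hK := FTtype345_mu0Bzeta_on h Sζ ζ1
  have hA := cfun_onS h.sharp_sub hK
  have hZ := Dade_vchar h.dade (mem_VCon_of (FTtype345_mu0Bzeta_vchar h Sζ) hA)
  have hn : nrm ⊤ (Dade A₀ R (primeTIred M W₁ (1 : Hat W₂) - ζ)) = (Nat.card W₁ + 1 : ℕ) := by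
    rw [Dade_nrm h.dade hA, nrm_sub_of_dot_eq_zero (dot_prTIred_seqIndT_irr h.prTI hT irrζ 1),
      nrm_prTIred h.prTI, nrm_irr irrζ]
    push_cast
    rfl
  have h00 : dot ⊤ (Dade A₀ R (primeTIred M W₁ (1 : Hat W₂) - ζ))
      (cycTIeta ⊤ (1 : Hat W₁) (1 : Hat W₂)) = 1 := by
    rw [cycTIeta00 h.cycTI, Dade_dot_cf1 h.dade hA, dot_sub_left, seqInd_ortho_1 h.nsK le_rfl Sζ,
      ← prTIirr00 h.prTI, ← conj_dot, cfdot_prTIirr_red h.prTI]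
    simp
  have hV : ∀ x ∈ cyclicTIset W W₁ W₂, Dade A₀ R (primeTIred M W₁ (1 : Hat W₂) - ζ) x = 0 :=
    fun x hx => by
      rw [prDade_id_V h.dd hA.1 hx]
      exact cfun_on0 hK fun hx' => cyclicTIset_disjoint h.prTI hx hx'.1
  have hNC := cycTI_NC_norm h.cycTI hZ hn.le
  have h3 := h.w₁_gt2
  rcases small_cycTI_NC h.cycTI (vchar_cf hZ) hV (by omega) 1 1 (by rw [h00]; exact one_ne_zero)
    with hc | hc
  · rw [h00] at hc
    obtain ⟨h1, h2⟩ := split_colsum_eta h.cycTI hc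
    refine ⟨_, (sub_sub_cancel _ _).symm, sub_mem (colsum_eta_vchar h.cycTI 1) hZ, ?_, h1⟩
    rw [hn] at h2
    push_cast at h2
    exact nrm_eq_one_iff.1 (by linarith)
  · exfalso
    rw [h00] at hc
    obtain ⟨-, h2⟩ := split_colsum_eta h.cycTI.symm (k := (1 : Hat W₁))
      (β := Dade A₀ R (primeTIred M W₁ (1 : Hat W₂) - ζ)) fun j i => by rw [cycTIetaC, hc]
    rw [hn] at h2
    have h4 : (Nat.card W₂ : ℝ) ≤ (Nat.card W₁ + 1 : ℕ) := by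
      rw [h2]
      exact le_add_of_nonneg_right (nrm_nonneg _ _)
    have h5 : Nat.card W₂ ≤ Nat.card W₁ + 1 := by exact_mod_cast h4
    obtain ⟨a, ha⟩ := h.cycTI.W₁_odd
    obtain ⟨b, hb⟩ := h.cycTI.W₂_odd
    omega

section Coh

variable (h : T345 M K W W₁ W₂ A₀ R) (irrζ : ζ ∈ Irr M) (Sζ : ζ ∈ seqIndD K M K ⊥)
  (ζ1 : ζ 1 = Nat.card W₁) (coh : CoherentWith M ⊤ (seqIndD K M K ⊥) {1}ᶜ (Dade A₀ R) τ₁)
include h irrζ Sζ ζ1 coh

theorem t345_dot_alpha_mu (i : Hat W₁) {j k : Hat W₂} (hj : j ≠ 1) (hk : k ≠ 1) :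
    dot ⊤ (Dade A₀ R (FTtype345_bridge M ζ i j)) (τ₁ (primeTIred M W₁ k)) -
        d * dot ⊤ (Dade A₀ R (FTtype345_bridge M ζ i j)) (τ₁ ζ) =
      (if j = k then 1 else 0) + n * d := by
  have hT := seqIndD_subT _ _ _ _ Sζ
  have hz := FTtype345_muBzeta h Sζ ζ1 hk (h.Smu hk)
  have h1 := Dade_isometry h.dade (supp_FTtype345_bridge h Sζ ζ1 i hj) (h.zson_on subset_rfl hz)
  rw [← coh.eq _ hz, map_sub, map_smul, dot_sub_right, dot_smul_right, map_natCast] at h1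
  rw [h1, dot_FTtype345_bridge]
  simp only [dot_sub_right, dot_smul_right, cfdot_prTIirr_red h.prTI,
    dot_prTIirr_seqIndT_irr h.prTI hT irrζ, dot_seqIndT_irr_prTIred h.prTI hT irrζ,
    dot_irr_self irrζ, hk.symm, if_false, map_natCast]
  ring

/-- Peterfalvi (10.5), second part. -/
theorem t345_tau_alpha (i : Hat W₁) {j : Hat W₂} (hj : j ≠ 1) :
    Dade A₀ R (FTtype345_bridge M ζ i j) =
      (δ : ℂ) • (cycTIeta ⊤ i j - cycTIeta ⊤ i (1 : Hat W₂)) - (n : ℂ) • τ₁ ζ := by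
  refine FTtype345_def_tau_alpha h irrζ ζ1 coh h.cjSubset Sζ i hj ?_
  obtain ⟨c, hc⟩ := vchar_dot_int (vchar_Dade_FTtype345_bridge h Sζ ζ1 i hj) (coh.vc_map Sζ)
  have hk : j⁻¹ ≠ 1 := inv_ne_one.2 hj
  have h1 := t345_dot_alpha_mu h irrζ Sζ ζ1 coh i hj hk
  rw [if_neg (Hat_inv_ne h.cycTI.W₂_odd hj).symm, hc] at h1
  have h2 : dot ⊤ (Dade A₀ R (FTtype345_bridge M ζ i j)) (τ₁ (primeTIred M W₁ j⁻¹)) =
      ((d * (c + n) : ℤ) : ℂ) := by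
    push_cast
    linear_combination h1
  have h3 := norm_dot_sq_le ⊤ (Dade A₀ R (FTtype345_bridge M ζ i j)) (τ₁ (primeTIred M W₁ j⁻¹))
  rw [h2, nrm_FTtype345_bridge h irrζ Sζ ζ1 i hj, coh.nrm_map (mem_ZS (h.Smu hk)),
    nrm_prTIred h.prTI, Complex.norm_intCast, sq_abs] at h3
  have h4 : ((d : ℤ) * (c + n)) ^ 2 ≤ (2 + (n : ℤ) ^ 2) * Nat.card W₁ := by exact_mod_cast h3
  have h5 : c + n = 0 := by
    by_contra hne
    have h6 : 1 ≤ (c + n) ^ 2 := by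
      have := sq_pos_of_ne_zero hne
      omega
    have h7 := FTtype345_ratioE h
    have h8 := FTtype345_TIsign_cases M W₁ W₂
    have h9 : (2 : ℤ) ≤ n := by exact_mod_cast (FTtype345_ratio_even h).2
    have h10 : (3 : ℤ) ≤ Nat.card W₁ := by exact_mod_cast h.w₁_gt2
    generalize (n : ℤ) = N at *
    generalize (Nat.card W₁ : ℤ) = w at *
    generalize (d : ℤ) = D at *
    have h11 : N * w - 1 ≤ D := by omega
    have h12 : D ^ 2 ≤ (2 + N ^ 2) * w := by nlinarith [sq_nonneg D]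
    have h13 : (N * w - 1) ^ 2 ≤ D ^ 2 := pow_le_pow_left₀ (by nlinarith) h11 2
    have h14 : 2 * N + 2 ≤ N ^ 2 * (w - 1) := by nlinarith
    nlinarith
  rw [hc, show c = -(n : ℤ) by omega]
  push_cast
  rfl

theorem t345_ortho_eta (i : Hat W₁) (j : Hat W₂) : dot ⊤ (τ₁ ζ) (cycTIeta ⊤ i j) = 0 :=
  coherent_prDade_ortho_cycTIiso h.dd h.cjSubset (h.noReal subset_rfl) coh Sζ irrζ i j

end Coh

/-- Steps (10.10.3) and (10.10.4). -/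
theorem t345_coherent_of_split (h : T345 M K W W₁ W₂ A₀ R) (hlt : Nat.card W₁ < Nat.card W₂)
    (hbig : n ^ 2 + 3 < (seqIndD K M K ⁅K, K⁆).card)
    (hS : ∀ φ ∈ seqIndD K M K ⊥, φ ∈ seqIndD K M K ⁅K, K⁆ ∨
      ∃ j : Hat W₂, j ≠ 1 ∧ φ = primeTIred M W₁ j) :
    Coherent M ⊤ (seqIndD K M K ⊥) {1}ᶜ (Dade A₀ R) := by
  obtain ⟨R₀, scoh⟩ := h.subcoherent
  have sS₁ : CjSubset (seqIndD K M K ⁅K, K⁆) (seqIndD K M K ⊥) := seqInd_conjC_subset1 le_rfl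
  have hirr := fun φ hφ => seqIndD_der_irr h.prTI h.W₂_le (φ := φ) hφ
  obtain ⟨τ₁, coh⟩ := uniform_degree_coherence (subset_subcoherent scoh sS₁)
    fun φ hφ ψ hψ => (hirr φ hφ).2.trans (hirr ψ hψ).2.symm
  obtain ⟨ζ, S₁ζ⟩ := seqIndD_der_nonempty h.prTI h.sol
  obtain ⟨irrζ, ζ1⟩ := hirr ζ S₁ζ
  have Sζ := sS₁.sub S₁ζ
  have hT := seqIndD_subT _ _ _ _ Sζ
  have hd := coh.dirr S₁ζ irrζ
  have oζ := coherent_prDade_ortho_cycTIiso h.dd sS₁ (h.noReal sS₁.sub) coh S₁ζ irrζ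
  have oζ' : ∀ (i : Hat W₁) (j : Hat W₂), dot ⊤ (cycTIeta ⊤ i j) (τ₁ ζ) = 0 :=
    fun i j => dot_eq_zero_comm.1 (oζ i j)
  have tau_alpha : ∀ (i : Hat W₁) (j : Hat W₂), j ≠ 1 → Dade A₀ R (FTtype345_bridge M ζ i j) =
      (δ : ℂ) • (cycTIeta ⊤ i j - cycTIeta ⊤ i (1 : Hat W₂)) - (n : ℂ) • τ₁ ζ := by
    intro i j hj
    refine FTtype345_def_tau_alpha h irrζ ζ1 coh sS₁ S₁ζ i hj ?_
    obtain ⟨c, hc⟩ := vchar_dot_int (vchar_Dade_FTtype345_bridge h Sζ ζ1 i hj) (coh.vc_map S₁ζ)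
    have h1 : ∀ φ ∈ (seqIndD K M K ⁅K, K⁆).erase ζ,
        ‖dot ⊤ (Dade A₀ R (FTtype345_bridge M ζ i j)) (τ₁ φ)‖ ^ 2 = ((c + n : ℤ) : ℝ) ^ 2 := by
      intro φ hφ
      obtain ⟨hne, hφ⟩ := Finset.mem_erase.1 hφ
      obtain ⟨irrφ, φ1⟩ := hirr φ hφ
      have hTφ := seqIndD_subT _ _ _ _ hφ
      have hz := sub_mem_ZSon_compl_one (S := (seqIndD K M K ⁅K, K⁆ : Set (G → ℂ))) hφ S₁ζ
        (φ1.trans ζ1.symm)
      have h2 := Dade_isometry h.dade (supp_FTtype345_bridge h Sζ ζ1 i hj) (h.zson_on sS₁.sub hz)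
      rw [← coh.eq _ hz, map_sub, dot_sub_right, hc, dot_FTtype345_bridge] at h2
      simp only [dot_sub_right, dot_prTIirr_seqIndT_irr h.prTI hT irrζ,
        dot_prTIirr_seqIndT_irr h.prTI hTφ irrφ, dot_irr_self irrζ,
        dot_irr_of_ne irrζ irrφ hne.symm] at h2
      rw [show dot ⊤ (Dade A₀ R (FTtype345_bridge M ζ i j)) (τ₁ φ) = ((c + n : ℤ) : ℂ) by
        push_cast; linear_combination h2, Complex.norm_intCast, sq_abs]
    have h3 := coh.bessel (fun φ hφ => (hirr φ hφ).1) (Dade A₀ R (FTtype345_bridge M ζ i j))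
    rw [← Finset.add_sum_erase _ _ S₁ζ, Finset.sum_congr rfl h1, Finset.sum_const,
      Finset.card_erase_of_mem S₁ζ, nrm_FTtype345_bridge h irrζ Sζ ζ1 i hj, nsmul_eq_mul] at h3
    have h4 : c + n = 0 := by
      by_contra hne
      have h5 : (1 : ℝ) ≤ ((c + n : ℤ) : ℝ) ^ 2 := by
        have := sq_pos_of_ne_zero hne
        exact_mod_cast this
      have h6 : ((n ^ 2 + 3 : ℕ) : ℝ) ≤ ((seqIndD K M K ⁅K, K⁆).card - 1 : ℕ) := by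
        exact_mod_cast Nat.le_sub_one_of_lt hbig
      push_cast at h6
      nlinarith [sq_nonneg ‖dot ⊤ (Dade A₀ R (FTtype345_bridge M ζ i j)) (τ₁ ζ)‖, sq_nonneg (n : ℝ)]
    rw [hc, show c = -(n : ℤ) by omega]
    push_cast
    rfl
  obtain ⟨χ, hχ, Zχ, nχ, oχ⟩ := FTtype345_Dade_bridge0 h irrζ Sζ ζ1 hlt
  have oχ' : ∀ (i : Hat W₁) (j : Hat W₂), dot ⊤ (cycTIeta ⊤ i j) χ = 0 :=
    fun i j => dot_eq_zero_comm.1 (oχ i j)
  have eχ : τ₁ ζ = χ := by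
    have hj := h.hatNe_ne
    have h1 := Dade_isometry h.dade (supp_FTtype345_bridge h Sζ ζ1 1 hj)
      (cfun_onS h.sharp_sub (FTtype345_mu0Bzeta_on h Sζ ζ1))
    rw [tau_alpha 1 _ hj, hχ, dot_FTtype345_bridge] at h1
    simp only [dot_sub_left, dot_sub_right, dot_smul_left, dot_eta_colsum h.cycTI, oχ',
      dot_colsum_eta_eq_zero oζ, cfdot_prTIirr_red h.prTI, dot_prTIirr_seqIndT_irr h.prTI hT irrζ,
      dot_seqIndT_irr_prTIred h.prTI hT irrζ, dot_irr_self irrζ, hj, if_false, if_true] at h1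
    have hn : (n : ℂ) ≠ 0 := by
      have := (FTtype345_ratio_even h).2
      exact Nat.cast_ne_zero.2 (by omega)
    refine (dot_dirr_eq_one hd (vchar_norm1 Zχ nχ)).1 (mul_left_cancel₀ hn ?_)
    linear_combination h1
  refine pivot_coherence scoh Sζ (dirr_vchar hd) (fun η hη hne => ?_)
    ((dirr_dot_self hd).trans (dot_irr_self irrζ).symm)
  rcases hS η hη with hη₁ | ⟨j, hj, rfl⟩
  · refine ⟨1, by rw [(hirr η hη₁).2, ζ1, Nat.cast_one, one_mul], ?_⟩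
    have hz := sub_mem_ZSon_compl_one (S := (seqIndD K M K ⁅K, K⁆ : Set (G → ℂ))) hη₁ S₁ζ
      ((hirr η hη₁).2.trans ζ1.symm)
    rw [Nat.cast_one, one_smul, ← coh.eq _ hz, map_sub, dot_sub_left, coh.dot_map hη₁ S₁ζ,
      coh.dot_map S₁ζ S₁ζ, dot_irr_of_ne (hirr η hη₁).1 irrζ hne]
    ring
  · refine ⟨d, by rw [FTtype345_TIred1 h hj, ζ1, mul_comm], ?_⟩
    rw [← sub_add_cancel (primeTIred M W₁ j - (d : ℂ) • ζ)
      ((δ : ℂ) • (primeTIred M W₁ (1 : Hat W₂) - ζ)), ← sum_FTtype345_bridge h, map_add, map_sum,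
      map_smul, hχ, ← eχ, dot_add_left, dot_sum_left]
    simp only [tau_alpha _ j hj, dot_sub_left, dot_smul_left, oζ', dirr_dot_self hd,
      dot_eq_zero_comm.1 (dot_colsum_eta_eq_zero oζ 1), Finset.sum_const, Finset.card_univ,
      h.cycTI.card_Hat₁, dot_irr_self irrζ, nsmul_eq_mul]
    linear_combination FTtype345_ratioC h

/-- Steps (10.10.1) and (10.10.2). -/
theorem t345_coherent_of_p3 (h : T345 M K W W₁ W₂ A₀ R) {p : ℕ} (hp : p.Prime)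
    (hK : Nat.card K = p ^ 3) (hdvd : Nat.card W₁ ∣ p + 1) (hndvd : ¬ Nat.card W₁ ∣ p - 1)
    (hle : (⁅K, K⁆).relIndex K ≤ 4 * Nat.card W₁ ^ 2 + 1) :
    Coherent M ⊤ (seqIndD K M K ⊥) {1}ᶜ (Dade A₀ R) := by
  have hw₁ := h.w₁_gt2
  have hw₂ := h.w₂_gt2
  have c1 := card_seqIndD_der h.prTI h.W₂_le
  have c2 := card_mul_relIndex_of_le (der_sub K)
  have c3 : Nat.card W₂ ∣ Nat.card ↥⁅K, K⁆ := cardSg h.W₂_le
  obtain ⟨φ₀, hφ₀⟩ := seqIndD_der_nonempty h.prTI h.sol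
  have c4 := seqInd_nontrivial h.nsK h.oddM le_rfl hφ₀
  have c5 : (⁅K, K⁆).relIndex K = p ^ 2 := by
    obtain ⟨k, hk, e⟩ := (Nat.dvd_prime_pow hp).1 (hK ▸ Dvd.intro_left _ c2)
    interval_cases k
    · rw [pow_zero] at e
      nlinarith
    · rw [pow_one] at e
      exact absurd ⟨(seqIndD K M K ⁅K, K⁆).card, by rw [← e, ← c1, mul_comm]; rfl⟩ hndvd
    · exact e
    · rw [e, hK] at c2
      have c6 : Nat.card ↥⁅K, K⁆ = 1 := by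
        apply Nat.eq_of_mul_eq_mul_right (pow_pos hp.pos 3)
        rw [c2, one_mul]
      rw [c6, Nat.dvd_one] at c3
      omega
  have c6 : Nat.card ↥⁅K, K⁆ = p := by
    rw [c5, hK] at c2
    apply Nat.eq_of_mul_eq_mul_right (pow_pos hp.pos 2)
    rw [c2]
    ring
  have c7 : Nat.card W₂ = p := by
    rw [c6] at c3
    exact (Nat.prime_dvd_prime_iff_eq h.prime hp).1 c3
  have c8 : p + 1 = 2 * Nat.card W₁ := by
    obtain ⟨m, hm⟩ := hdvd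
    obtain ⟨a, ha⟩ := h.cycTI.W₁_odd
    obtain ⟨b, hb⟩ := h.cycTI.W₂_odd
    rw [c5] at hle
    have h1 : p ≤ 2 * Nat.card W₁ := by
      by_contra hlt
      have : (2 * Nat.card W₁ + 1) ^ 2 ≤ p ^ 2 := Nat.pow_le_pow_left (by omega) 2
      nlinarith
    have h2 : m < 3 := by
      by_contra hlt
      have : Nat.card W₁ * 3 ≤ Nat.card W₁ * m := Nat.mul_le_mul_left _ (by omega)
      omega
    interval_cases m <;> omega
  have sub : (Finset.univ.erase (1 : Hat W₂)).image (primeTIres M K W₁) ⊆ IrrKerD K ⁅K, K⁆ ⊥ := by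
    intro θ hθ
    obtain ⟨j, hj, rfl⟩ := Finset.mem_image.1 hθ
    exact mem_IrrKerD.2 ⟨prTIres_mem_Irr h.prTI j, bot_le, fun hk =>
      cfker_prTIres_W₂ h.prTI (Finset.mem_erase.1 hj).1 (h.W₂_le.trans hk)⟩
  have s1 := sum_IrrKerD_square (der_normal K) (normal1 K) bot_le
  rw [c5, Subgroup.relIndex_bot_left, c6, ← Finset.sum_sdiff sub,
    Finset.sum_image fun j _ k _ e => prTIres_inj h.prTI e,
    Finset.sum_congr (s₁ := Finset.univ.erase (1 : Hat W₂)) rfl (g := fun _ => d ^ 2) fun j hj => by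
      rw [FTtype345_TIres_deg h (Finset.mem_erase.1 hj).1],
    Finset.sum_const, Finset.card_erase_of_mem (Finset.mem_univ _), Finset.card_univ,
    h.cycTI.card_Hat₂, c7, smul_eq_mul] at s1
  have d1 : p ≤ d := by
    have h1 := irr_deg_dvd_card (prTIres_mem_Irr h.prTI (hatNe W₂))
    rw [FTtype345_TIres_deg h h.hatNe_ne, hK] at h1
    obtain ⟨k, -, e⟩ := (Nat.dvd_prime_pow hp).1 h1
    have h2 := FTtype345_degree_gt1 h
    rw [e] at h2 ⊢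
    exact Nat.le_self_pow (by rintro rfl; simp at h2) p
  have d2 : (p - 1) * p ^ 2 ≤ (p - 1) * d ^ 2 := Nat.mul_le_mul_left _ (Nat.pow_le_pow_left d1 2)
  have d3 : d ≤ p := by
    have h1 : (p - 1) * d ^ 2 ≤ (p - 1) * p ^ 2 := by
      rw [mul_comm _ (p ^ 2), ← s1]
      exact Nat.le_add_left _ _
    exact (Nat.pow_le_pow_iff_left two_ne_zero).1 (Nat.le_of_mul_le_mul_left h1 (by omega))
  have s2 : ∑ θ ∈ IrrKerD K ⁅K, K⁆ ⊥ \ (Finset.univ.erase (1 : Hat W₂)).image (primeTIres M K W₁),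
      deg θ ^ 2 = 0 := by
    rw [mul_comm (p ^ 2)] at s1
    omega
  have n2 : n = 2 := by
    have h1 := FTtype345_ratioE h
    have h2 := FTtype345_TIsign_cases M W₁ W₂
    have h3 := (FTtype345_ratio_even h).2
    by_contra hne
    have h4 : 3 * Nat.card W₁ ≤ n * Nat.card W₁ := Nat.mul_le_mul_right _ (by omega)
    have h5 : ((3 * Nat.card W₁ : ℕ) : ℤ) ≤ (n * Nat.card W₁ : ℕ) := by exact_mod_cast h4
    push_cast at h5
    omega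
  refine t345_coherent_of_split h (by omega) ?_ fun φ hφ => ?_
  · rw [n2]
    by_contra hlt
    have h1 : (seqIndD K M K ⁅K, K⁆).card * Nat.card W₁ ≤ 7 * Nat.card W₁ :=
      Nat.mul_le_mul_right _ (by omega)
    rw [c5] at c1
    obtain ⟨w, hw⟩ : ∃ w, Nat.card W₁ = w + 3 := ⟨Nat.card W₁ - 3, by omega⟩
    have h2 : p = 2 * w + 5 := by omega
    rw [hw] at c1 h1
    rw [h2] at c1
    nlinarith
  · obtain ⟨θ, hθ, -, hk, rfl⟩ := mem_seqIndD_iff.1 hφ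
    by_cases h1 : ⁅K, K⁆ ≤ cfker K θ
    · exact Or.inl (mem_seqIndD_iff.2 ⟨θ, hθ, h1, hk, rfl⟩)
    · by_cases h2 : θ ∈ (Finset.univ.erase (1 : Hat W₂)).image (primeTIres M K W₁)
      · obtain ⟨j, hj, rfl⟩ := Finset.mem_image.1 h2
        exact Or.inr ⟨j, (Finset.mem_erase.1 hj).1, cfInd_prTIres h.prTI j⟩
      · have h3 := Finset.sum_eq_zero_iff.1 s2 θ
          (Finset.mem_sdiff.2 ⟨mem_IrrKerD.2 ⟨hθ, bot_le, h1⟩, h2⟩)
        exact absurd (pow_eq_zero_iff two_ne_zero |>.1 h3) (irr_deg_pos hθ).ne'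

/-- In the situation of type V the set `S` is coherent. -/
theorem t345_type5_coherent (h : T345 M K W W₁ W₂ A₀ R) (nil : Group.IsNilpotent K)
    (hc : NormedTI (sharp K) ⊤ M ∨
      (∃ p : ℕ, p.Prime ∧ p ∣ Nat.card K ∧ Nat.card W₁ ∣ p - 1) ∨
      ∃ p : ℕ, p.Prime ∧ p ∣ Nat.card K ∧ Nat.card (piCoreOf {p} K) = p ^ 3 ∧
        Nat.card W₁ ∣ p + 1) : Coherent M ⊤ (seqIndD K M K ⊥) {1}ᶜ (Dade A₀ R) := by
  rcases hc with ti | hc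
  · exact (Sibley_coherence_prDade h.oddM nil ti h.prime h.W₂_le h.dd).congr le_rfl fun φ hφ =>
      (Dade_Ind_of_subset h.dade h.sharp_sub ti
        (zcharD1_seqInd_on h.nsK (seqIndD_subT _ _ _ _) hφ)).symm
  obtain ⟨R₀, scoh⟩ := h.subcoherent
  have hF : OddFrobQuot K M ⊥ := by
    refine OddFrobQuot.of_sdprod h.oddM h.prTI.sdprod (normal1 M) bot_le (nilMod_bot_iff.2 nil)
      fun w hw hw1 x hx hc => ?_
    rw [sup_bot_eq] at hc ⊢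
    exact h.prTI.regular_mod (normalR h.nsK h.nsK) h.W₂_le hw hw1 hx hc
  rcases non_coherent_chief h.nsK h.sol scoh hF with coh | ⟨-, hle, p, hp, ⟨m, hm⟩, -, hnd⟩
  · exact coh
  rw [sup_bot_eq, h.prTI.relIndex_K] at hle
  rw [h.prTI.relIndex_K] at hnd
  rw [Subgroup.relIndex_bot_left] at hm
  have key : ∀ q : ℕ, q.Prime → q ∣ Nat.card K → q = p := fun q hq hd =>
    (Nat.prime_dvd_prime_iff_eq hq hp).1 (hq.dvd_of_dvd_pow (hm ▸ hd))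
  rcases hc with ⟨q, hq, hd, h1⟩ | ⟨q, hq, hd, h1, h2⟩
  · exact absurd (key q hq hd ▸ h1) hnd
  · obtain rfl := key q hq hd
    rw [pcore_pgroup_id (π := {q}) (fun r hr hd => key r hr hd)] at h1
    exact t345_coherent_of_p3 h hq h1 h2 hnd hle

/-- Peterfalvi (10.8), by the argument of Brauer and Suzuki. -/
theorem T345.noncoh [IsSimpleGroup G] (h : T345 M K W W₁ W₂ A₀ R) {t : G} (ht : t * t = 1)
    (ht1 : t ≠ 1) (av : Avoid t (DadeSupp A₀ R)) :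
    ¬ Coherent M ⊤ (seqIndD K M K ⊥) {1}ᶜ (Dade A₀ R) := by
  rintro ⟨τ₁, coh⟩
  obtain ⟨ζ, irrζ, Sζ, ζ1⟩ := h.ref_irr
  have hj := h.hatNe_ne
  have e := t345_tau_alpha h irrζ Sζ ζ1 coh 1 hj
  have d1 := cycTIiso_dirr h.cycTI (1 : Hat W₁) (hatNe W₂)
  have d2 := coh.dirr Sζ irrζ
  have o1 := cfdot_cycTIiso h.cycTI (1 : Hat W₁) 1 (hatNe W₂) 1
  have o2 := t345_ortho_eta h irrζ Sζ ζ1 coh 1 1
  rw [cycTIeta00 h.cycTI] at e o1 o2
  rw [if_neg fun e => hj e.2] at o1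
  have := three_term_one (c := -(δ : ℂ))
    (av.van ht fun x hx => Dade_of_not_mem (FTtype345_bridge M ζ (1 : Hat W₁) (hatNe W₂)) hx)
    (by rw [e]; module)
    (Submodule.smul_mem _ (δ : ℂ) (dirr_mem_RatS d1 t))
    (Submodule.smul_mem _ (-(n : ℂ)) (dirr_mem_RatS d2 t))
    (ratio_ne_one ht1 d1 o1) (ratio_ne_one ht1 d2 o2)
  exact prTIsign_neq0 (L := M) (W₁ := W₁) (hatNe W₂) (neg_eq_zero.1 this)

end Cfsg.Lib.PG
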