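import Cfsg.Agent.PG.PF8.Char
import Cfsg.Agent.PG.PF8.Part

/-! Peterfalvi (9.2), (9.3), (9.6) for maximal subgroups of a minimal simple group of odd order. -/

set_option autoImplicit false
set_option linter.unusedSectionVars false

open Pointwise Cfsg Cfsg.Lib.Solv

namespace Cfsg.Lib.FT.PG

variable {G : Type*} [Group G] [Dl G] [Finite G] {M U W W₁ W₂ : Subgroup G}

theorem typeP24_of_FT (hG : Ctx G) (hM : Mx M) (h : OfTypeP M U W W₁ W₂)
    (h5 : FTtype M ≠ 5) : TypeP24 M W₁ U W₂ :=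
  ⟨h.isTypePWith, mFT_odd hG M, (compl_of_typeII_IV hG hM h h5).U_ne,
    (compl_of_typeII_IV hG hM h h5).prime⟩

/-- The subgroup `U₀` of the type F structure of `M'`, for `M` of type II. -/
theorem typeII_compl_witness (hG : Ctx G) (hM : Mx M)
    (h : OfTypeP M U W W₁ W₂) (h2 : FTtype M = 2) :
    ∃ U₀ : Subgroup G, U₀ ≤ U ∧ Monoid.exponent U₀ = Monoid.exponent U ∧
      Semiregular (fittingHallOf M) U₀ := by
  have hII := compl_of_typeII hG hM h h2
  obtain ⟨U₀, hU₀⟩ := hII.typeF.compl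
  exact ⟨U₀, hU₀.le, hU₀.exponent, hII.Fcore_der ▸ hU₀.frob.regular⟩

/-- `|W₂|` is prime unless `M` has type II. -/
theorem typeP_W₂_prime_of_ne2 (hG : Ctx G) (hM : Mx M)
    (h : OfTypeP M U W W₁ W₂) (h2 : FTtype M ≠ 2) : (Nat.card W₂).Prime := by
  obtain ⟨T, hT, V, hV⟩ := FTtypeP_pair_witness hG hM h
  exact (compl_of_typeII hG hT.maxT hV (hT.type2.resolve_left h2)).typeII_IV.prime

end Cfsg.Lib.FT.PG
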