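import Cfsg.Agent.PG.Basic
import Cfsg.Agent.Gate.PGO
import Cfsg.Agent.FT.Final
import Cfsg.Agent.FT.PF13.Grp
import Cfsg.Agent.FT.BG1.Chief

/-!
Groups with a union `Δ` of odd components of the prime graph: reduction to simple groups.
-/

set_option autoImplicit false
set_option linter.unusedSectionVars false

open Pointwise Cfsg Cfsg.Lib.Solv Cfsg.Lib.FT

namespace Cfsg.Lib.PG

universe u

variable {G : Type u} [Group G] [Finite G] {Δ Γ : Set ℕ} {H K B N : Subgroup G} {x y t : G}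
  {p q r : ℕ}

theorem two_dvd_of_nonsol (h : ¬ Group.IsSolvable H) : 2 ∣ Nat.card H := by
  by_contra e
  exact h (odd_order_solvable (Nat.odd_iff.2 (by omega)))

theorem odd_of_pi (h2 : 2 ∉ Δ) (h : IsPiSubgroup Δ H) : Odd (Nat.card H) := by
  rw [← Nat.not_even_iff_odd, even_iff_two_dvd]
  exact fun e => h2 (h 2 Nat.prime_two e)

theorem sol_of_pi (h2 : 2 ∉ Δ) (h : IsPiSubgroup Δ H) : Group.IsSolvable H :=
  odd_order_solvable (odd_of_pi h2 h)

theorem sol_top_iff : Group.IsSolvable (⊤ : Subgroup G) ↔ Group.IsSolvable G :=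
  ⟨fun _ => Group.isSolvable_of_surjective (f := (⊤ : Subgroup G).subtype)
    fun a => ⟨⟨a, trivial⟩, rfl⟩, fun _ => inferInstance⟩

/-- a `Δ'`-group normalised by a nontrivial `Δ`-group is nilpotent -/
theorem Sep.nil (h : Sep G Δ) (hN : IsPiSubgroup Δᶜ N) (hB : IsPiSubgroup Δ B) (h1 : B ≠ ⊥)
    (hn : B ≤ 𝐍 N) : Group.IsNilpotent N :=
  Fpf.isNilpotent_kernel hn h1 (h.compl.semiregular hN (by rwa [compl_compl]))

theorem adj_of_nil (hn : Group.IsNilpotent H) (hp : p.Prime) (hq : q.Prime) (hpq : p ≠ q)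
    (h1 : p ∣ Nat.card H) (h2 : q ∣ Nat.card H) : Adj G p q := by
  obtain ⟨x, hx, rfl⟩ := Cauchy hp h1
  obtain ⟨y, hy, rfl⟩ := Cauchy hq h2
  exact ⟨hp, hq, hpq, x, y, rfl, rfl, commute_of_mem_of_coprime_of_isNilpotent hn hx hy
    ((Nat.coprime_primes hp hq).2 hpq)⟩

theorem adj_of_cent (hc : H ≤ 𝐂 K) (hp : p.Prime) (hq : q.Prime) (hpq : p ≠ q)
    (h1 : p ∣ Nat.card H) (h2 : q ∣ Nat.card K) : Adj G p q := by
  obtain ⟨x, hx, rfl⟩ := Cauchy hp h1
  obtain ⟨y, hy, rfl⟩ := Cauchy hq h2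
  exact ⟨hp, hq, hpq, x, y, rfl, rfl, (mem_cent.1 (hc hx) y hy).symm⟩

/-- a nonsolvable minimal normal subgroup containing a `Δ`-element is simple -/
theorem Sep.minnormal_simple (h : Sep G Δ) (h2 : 2 ∉ Δ) {L : Subgroup G} (hN : IsMinNormal N L)
    (hNL : N ≤ L) (hs : ¬ Group.IsSolvable N) (hr : r.Prime) (hΔ : r ∈ Δ) (hd : r ∣ Nat.card N) :
    IsSimpleGroup N := by
  have key : ∀ T : Subgroup G, T ≤ N → IsMinNormal T N → T = N := fun T hTN hT => by
    have h1 : piCoreOf (piOf (Nat.card T)) N = N :=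
      (hN.minimal _ (pcore_sub _ N) (norms_pcore _ hN.norm)).resolve_left
        (subG1_contra (pcore_max (pgroup_pi T) ⟨hTN, hT.norm⟩) hT.ne)
    have h3 : IsPiSubgroup (piOf (Nat.card T)) N := h1 ▸ pcore_pgroup _ N
    refine (hN.minimal T hTN fun g hg => ?_).resolve_left hT.ne
    have h4 : g •ᶜ T ≤ N := conj_sub_norm (hN.norm hg) hTN
    have h5 : N ≤ 𝐍 (g •ᶜ T) := by
      rw [normJ, ← normP.1 (hN.norm hg), conjSg]
      exact hT.norm
    rcases hT.minimal (T ⊓ g •ᶜ T) inf_le_left (normsI hT.norm h5) with e | e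
    · refine absurd (h.adj hΔ (adj_of_cent (TI_cents (hTN.trans h5) (h4.trans hT.norm) e) hr
        Nat.prime_two (fun e => h2 (e ▸ hΔ)) (h3 r hr hd).2 ?_)) h2
      rw [card_conj_smul]
      exact (h3 2 Nat.prime_two (two_dvd_of_nonsol hs)).2
    · exact normP.2 (eq_of_le_of_card_le (inf_eq_left.1 e) (card_conj_smul g T).le).symm
  have : Nontrivial N := (Subgroup.nontrivial_iff_ne_bot N).2 hN.ne
  refine ⟨fun A hA => or_iff_not_imp_left.2 fun h1 => ?_⟩
  obtain ⟨T, h3, h4⟩ := minnormal_exists (K := A.map N.subtype) (L := N)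
    (by rwa [Ne, Subgroup.map_eq_bot_iff_of_injective _ N.subtype_injective])
    (normal_map_subtype A hA).norm
  rw [key T (h3.trans (Subgroup.map_subtype_le A)) h4] at h3
  rw [eq_top_iff]
  intro a _
  obtain ⟨b, hb, e⟩ := h3 a.2
  rwa [← Subtype.ext e]

theorem Sep.index_of_nonsol [Agent.Gate.PGO.{u}] (h : Sep G Δ) (h2 : 2 ∉ Δ) [N.Normal]
    (hs : ¬ Group.IsSolvable N) : IsPiNum Δᶜ N.index := by
  intro s hs' hd hΔ
  obtain ⟨Y, -, hY⟩ := exists_prime_subgroup (H := (⊤ : Subgroup (G ⧸ N))) hs'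
    (by rwa [Subgroup.card_top])
  have hNX : N ≤ Y.comap (QuotientGroup.mk' N) := by
    intro a ha
    rw [Subgroup.mem_comap, QuotientGroup.mk'_apply, (QuotientGroup.eq_one_iff a).2 ha]
    exact one_mem Y
  have hi : (N.subgroupOf (Y.comap (QuotientGroup.mk' N))).index = s := by
    change N.relIndex _ = s
    conv_lhs => arg 1; rw [← QuotientGroup.ker_mk' N, ← MonoidHom.comap_bot]
    rw [Subgroup.relIndex_comap, Subgroup.map_comap_eq_self_of_surjective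
      (QuotientGroup.mk'_surjective N), Subgroup.relIndex_bot_left, hY]
  exact hs (solvableS hNX (Agent.Gate.PGO.out (N.subgroupOf (Y.comap (QuotientGroup.mk' N)))
    (h.sub _) h2 (hi ▸ hs') (hi ▸ hΔ)))

/-- the structure of a nonsolvable group without normal `Δ'`-subgroups -/
theorem Sep.structure [Agent.Gate.PGO.{u}] (h : Sep G Δ) (h2 : 2 ∉ Δ)
    (hs : ¬ Group.IsSolvable G) (h0 : piCore Δᶜ G = ⊥) :
    (∃ K : Subgroup G, K.Normal ∧ K ≠ ⊥ ∧ IsPiSubgroup Δ K ∧ IsMulCommutative K ∧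
      ∀ x ∈ K, x ≠ 1 → 𝐂₁ x = K) ∨
    ∃ M : Subgroup G, M.Normal ∧ IsSimpleGroup M ∧ ¬ IsMulCommutative M ∧ IsPiNum Δᶜ M.index := by
  have hs' := mt sol_top_iff.1 hs
  obtain ⟨M, -, hM⟩ := minnormal_exists (K := (⊤ : Subgroup G)) (L := ⊤)
    (fun e => hs' (e ▸ abelian_sol abelian_bot)) (normG ⊤)
  have hn : M.Normal := normal_top_iff.1 ⟨le_top, hM.norm⟩
  obtain ⟨r, hr, hd, hΔ⟩ : ∃ r, r.Prime ∧ r ∣ Nat.card M ∧ r ∈ Δ := by
    by_contra e
    push Not at e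
    exact hM.ne (le_bot_iff.1 (h0 ▸ le_piCore hn e))
  by_cases hsM : Group.IsSolvable M
  · left
    obtain ⟨p, hp, hab⟩ := minnormal_solvable_abelem hM hsM
    have := Fact.mk hp
    have hMΔ : IsPiSubgroup Δ M :=
      pi_pgroup (abelem_pgroup hab) (eq_of_pgroup_of_dvd (abelem_pgroup hab) hr hd ▸ hΔ)
    obtain ⟨t, -, t1, t2⟩ := exists_involution (two_dvd_of_nonsol hs')
    obtain ⟨K, k1, k2, k3, k4, -⟩ := h.exists_iso h2 t1 t2 hM.ne hMΔ (hM.norm trivial)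
    obtain ⟨x, hx, hx1⟩ := trivgPn.1 hM.ne
    refine ⟨K, normal_top_iff.1 ⟨le_top, fun g _ => normP.2 ?_⟩, subG1_contra k1 hM.ne, k2, k3, k4⟩
    rw [← k4 x (k1 hx) hx1, ← cent1J,
      k4 _ (k1 (hn.conj_mem x hx g)) fun e => hx1 (conjg_eq1.1 e), k4 x (k1 hx) hx1]
  · exact Or.inr ⟨M, hn, h.minnormal_simple h2 hM le_top hsM hr hΔ hd,
      fun e => hsM (abelian_sol e), h.index_of_nonsol h2 hsM⟩

theorem Sep.quot_nonsol (h : Sep G Δ) [N.Normal] (hN : IsPiSubgroup Δᶜ N)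
    (hs : ¬ Group.IsSolvable G) (hr : r.Prime) (hΔ : r ∈ Δ) (hd : r ∣ Nat.card G) :
    ¬ Group.IsSolvable (G ⧸ N) := fun e => by
  obtain ⟨B, -, hB⟩ := exists_prime_subgroup (H := (⊤ : Subgroup G)) hr (by rwa [Subgroup.card_top])
  have := nilpotent_sol (h.nil hN ((prime_pgroup hB hr).2 hΔ) (prime_ne_bot (hB ▸ hr))
    (Fpf.le_normalizer_of_normal' N B))
  exact hs (solvable_of_ker_le_range N.subtype (QuotientGroup.mk' N) (by simp))

/-- a normal subgroup of `Δ'`-index has the same component -/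
theorem Comp.sub_normal (h : Comp G Δ) [N.Normal] (hi : IsPiNum Δᶜ N.index) : Comp N Δ where
  two := h.two
  sub p hp := by
    obtain ⟨h1, h2⟩ := h.sub p hp
    rw [← N.card_mul_index] at h2
    exact ⟨h1, (h1.dvd_mul.1 h2).resolve_right fun e => hi p h1 e hp⟩
  ne := h.ne
  sep := h.sep.sub N
  conn Γ h1 h2 h3 := h.conn Γ h1 h2 (Sep.of_adj fun p q hp ha => by
    have hq := h.sep.adj (h1 hp) ha
    obtain ⟨a1, a2, a3, x, y, rfl, rfl, hc⟩ := ha
    have key : ∀ z : G, (orderOf z).Prime → orderOf z ∈ Δ → z ∈ N := fun z hz hd =>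
      mem_of_coprime_orderOf_index_of_normal (hz.coprime_iff_not_dvd.2 fun e => hi _ hz e hd)
    exact h3.adj hp ⟨a1, a2, a3, ⟨x, key x a1 (h1 hp)⟩, ⟨y, key y a2 hq⟩,
      (Subgroup.orderOf_mk _ _), (Subgroup.orderOf_mk _ _), Subtype.ext hc⟩)

theorem Isol.adj (h : Isol Δ H) (hΔ : Comp G Δ) (hp : p ∈ Δ) (hq : q ∈ Δ) (hpq : p ≠ q) :
    Adj G p q :=
  adj_of_nil h.nil (hΔ.sub p hp).1 (hΔ.sub q hq).1 hpq
    (mem_pi_of_Hall_dvd h.hall (hΔ.sub p hp).1 hp (by rw [Subgroup.card_top]; exact (hΔ.sub p hp).2))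
    (mem_pi_of_Hall_dvd h.hall (hΔ.sub q hq).1 hq (by rw [Subgroup.card_top]; exact (hΔ.sub q hq).2))

theorem Special.adj {P U Q V W₁ W₂ : Subgroup G} (h : Special Δ P U Q V W₁ W₂) (hp : p ∈ Δ)
    (hq : q ∈ Δ) (hpq : p ≠ q) : Adj G p q := by
  have key : Adj G (Nat.card W₂) (Nat.card W₁) :=
    adj_of_cent h.cycTI.dprod.cent h.T.prime h.S.prime (fun e => by
      have := h.cycTI.coprime
      rw [e, Nat.coprime_self] at this
      exact h.S.prime.ne_one this) dvd_rfl dvd_rfl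
  rw [h.eq] at hp hq
  rcases hp with rfl | rfl <;> rcases hq with rfl | rfl
  · exact absurd rfl hpq
  · exact key.symm
  · exact key
  · exact absurd rfl hpq

/-- primes dividing the order of a Frobenius complement of odd order are adjacent -/
theorem adj_of_regular {E : Subgroup G} (ho : Odd (Nat.card E)) (hH : H ≠ ⊥) (hn : E ≤ 𝐍 H)
    (hreg : Semiregular H E) (hp : p.Prime) (hq : q.Prime) (hpq : p ≠ q) (h1 : p ∣ Nat.card E)
    (h2 : q ∣ Nat.card E) : Adj G p q := by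
  obtain ⟨X, hX, rfl⟩ := exists_prime_subgroup hp h1
  obtain ⟨Y, hY, rfl⟩ := exists_prime_subgroup hq h2
  exact adj_of_cent (TI_cents (hX.trans (prime_odd_regular_normal ho hH hn hreg hY hq).norm)
    (hY.trans (prime_odd_regular_normal ho hH hn hreg hX hp).norm)
    (coprime_TIg ((Nat.coprime_primes hp hq).2 hpq))) hp hq hpq dvd_rfl dvd_rfl

theorem adj_of_TF {C D : Subgroup G} (h : TwoFrob.TF H C D) (hp : p.Prime) (hq : q.Prime)
    (hpq : p ≠ q) (h1 : p ∣ Nat.card H * Nat.card D) (h2 : q ∣ Nat.card H * Nat.card D) :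
    Adj G p q := by
  have HD : ∀ p q : ℕ, p.Prime → q.Prime → p ≠ q → p ∣ Nat.card H → q ∣ Nat.card D →
      Adj G p q := fun p q hp hq hpq h1 h2 => by
    obtain ⟨y, hy, hyq⟩ := Cauchy hq h2
    obtain ⟨v, -, hv, hc⟩ := h.exists_commute hp h1 hy
    exact ⟨hp, hq, hpq, v, y, hv, hyq, hc⟩
  rcases hp.dvd_mul.1 h1 with h1 | h1 <;> rcases hq.dvd_mul.1 h2 with h2 | h2
  · exact adj_of_nil h.nilH hp hq hpq h1 h2
  · exact HD p q hp hq hpq h1 h2
  · exact (HD q p hq hp hpq.symm h2 h1).symm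
  · exact adj_of_nil (abelian_nil h.commD) hp hq hpq h1 h2

theorem Comp.adj_of_sol (h : Comp G Δ) (hs : Group.IsSolvable G) (h1 : ¬ IsPiNum Δ (Nat.card G))
    (hp : p ∈ Δ) (hq : q ∈ Δ) (hpq : p ≠ q) : Adj G p q := by
  obtain ⟨pp, pd⟩ := h.sub p hp
  obtain ⟨qp, qd⟩ := h.sub q hq
  have : Nontrivial G := Finite.one_lt_card_iff_nontrivial.1
    (pp.one_lt.trans_le (Nat.le_of_dvd Nat.card_pos pd))
  rcases TwoFrob.exists_piCore_ne_bot (G := G) Δ with h0 | h0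
  · obtain ⟨C, hC, hCπ, fH, ht | ⟨D, hD, -⟩⟩ := h.sep.psep.structure h0 h1
    · have hs := (Semiregular.sdprod fH (Fpf.le_normalizer_of_normal' _ C)).card
      rw [ht, Subgroup.card_top] at hs
      rw [← hs] at pd qd
      exact adj_of_nil (Fpf.isNilpotent_kernel (Fpf.le_normalizer_of_normal' _ C) hC fH) pp qp hpq
        ((pp.dvd_mul.1 pd).resolve_right fun e => hCπ p pp e hp)
        ((qp.dvd_mul.1 qd).resolve_right fun e => hCπ q qp e hq)
    · rw [hD.card_eq, mul_right_comm] at pd qd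
      exact adj_of_TF hD pp qp hpq ((pp.dvd_mul.1 pd).resolve_right fun e => hCπ p pp e hp)
        ((qp.dvd_mul.1 qd).resolve_right fun e => hCπ q qp e hq)
  · obtain ⟨C, hC, hCπ, fH, ht | ⟨D, hD, hDπ⟩⟩ :=
      h.sep.psep.compl.structure h0 fun e => e p pp pd hp
    · have hs := (Semiregular.sdprod fH (Fpf.le_normalizer_of_normal' _ C)).card
      rw [ht, Subgroup.card_top] at hs
      rw [← hs] at pd qd
      rw [compl_compl] at hCπ
      exact adj_of_regular (odd_of_pi h.two hCπ) h0 (Fpf.le_normalizer_of_normal' _ C) fH pp qp hpq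
        ((pp.dvd_mul.1 pd).resolve_left fun e => isPiNum_card_piCore _ G p pp e hp)
        ((qp.dvd_mul.1 qd).resolve_left fun e => isPiNum_card_piCore _ G q qp e hq)
    · have key : ∀ r, r.Prime → r ∈ Δ → r ∣ Nat.card G → r ∣ Nat.card C := fun r hr h1 h2 => by
        rw [hD.card_eq] at h2
        exact (hr.dvd_mul.1 ((hr.dvd_mul.1 h2).resolve_right fun e => hDπ r hr e h1)).resolve_left
          fun e => isPiNum_card_piCore _ G r hr e h1
      exact adj_of_nil (abelian_nil (cyclic_abelian hD.odd_cyclic.2)) pp qp hpq (key p pp hp pd)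
        (key q qp hq qd)

end Cfsg.Lib.PG
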