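import Cfsg.Agent.PG.Defs2
import Cfsg.Agent.FT.CFInt
import Cfsg.Agent.FT.CFVchar

/-!
Class functions vanishing at `1`, at an involution `t` and at the products of two conjugates of
`t`: the argument of Brauer and Suzuki.
-/

set_option autoImplicit false

open Pointwise Cfsg Cfsg.Lib.Solv Cfsg.Lib.FT
open scoped ComplexConjugate

namespace Cfsg.Lib.PG

variable {G : Type*} [Group G] [Finite G] {t : G} {r r₀ r₁ r₂ : ℂ} {φ ψ θ f₀ f₁ f₂ : G → ℂ}
  {A : Set G}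

/-- The sum of the values at the products of two conjugates of `t`. -/
noncomputable def bsum (t : G) (φ : G → ℂ) : ℂ :=
  ∑ᶠ g : G, ∑ᶠ h : G, φ (g * t * g⁻¹ * (h * t * h⁻¹))

theorem bsum_add (t : G) (φ ψ : G → ℂ) : bsum t (φ + ψ) = bsum t φ + bsum t ψ := by
  have := Fintype.ofFinite G
  simp only [bsum, finsum_eq_sum_of_fintype, Pi.add_apply, Finset.sum_add_distrib]

theorem bsum_smul (t : G) (c : ℂ) (φ : G → ℂ) : bsum t (c • φ) = c * bsum t φ := by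
  have := Fintype.ofFinite G
  simp only [bsum, finsum_eq_sum_of_fintype, Pi.smul_apply, smul_eq_mul, Finset.mul_sum]

/-- The functions behaving like a character with `χ(t) / χ(1) = r`. -/
def RatS (t : G) (r : ℂ) : Submodule ℂ (G → ℂ) where
  carrier := {φ | φ t = r * φ 1 ∧ bsum t φ = (Nat.card G : ℂ) ^ 2 * r ^ 2 * φ 1}
  add_mem' := by
    rintro φ ψ ⟨h1, h2⟩ ⟨h3, h4⟩
    exact ⟨by simp only [Pi.add_apply, h1, h3]; ring,
      by rw [bsum_add, h2, h4, Pi.add_apply]; ring⟩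
  zero_mem' := ⟨by simp, by simp [bsum]⟩
  smul_mem' := by
    rintro c φ ⟨h1, h2⟩
    exact ⟨by simp only [Pi.smul_apply, smul_eq_mul, h1]; ring,
      by rw [bsum_smul, h2, Pi.smul_apply, smul_eq_mul]; ring⟩

theorem mem_RatS : φ ∈ RatS t r ↔
    φ t = r * φ 1 ∧ bsum t φ = (Nat.card G : ℂ) ^ 2 * r ^ 2 * φ 1 := Iff.rfl

theorem irr_mem_RatS (h : φ ∈ Irr (⊤ : Subgroup G)) (t : G) : φ ∈ RatS t (φ t / φ 1) := by
  have h1 := dirr_one_ne_zero (irr_dirr h)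
  refine ⟨by field_simp, ?_⟩
  have := Fintype.ofFinite G
  have := Fintype.ofFinite (⊤ : Subgroup G)
  have h2 : ∀ y : G, ∑ g : G, φ (g * t * g⁻¹ * y) = Nat.card G * φ t * φ y / φ 1 := fun y => by
    rw [← Subgroup.card_top, ← irr_sum_conj_mul h (Subgroup.mem_top t) y]
    exact (Fintype.sum_equiv Subgroup.topEquiv.toEquiv _ _ fun _ => rfl).symm
  simp only [bsum, finsum_eq_sum_of_fintype]
  rw [Finset.sum_comm]
  simp only [h2, cfunJ (irr_cf h) (Subgroup.mem_top _), Finset.sum_const, Finset.card_univ,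
    nsmul_eq_mul, ← Nat.card_eq_fintype_card]
  field_simp

theorem dirr_mem_RatS (h : φ ∈ Dirr (⊤ : Subgroup G)) (t : G) : φ ∈ RatS t (φ t / φ 1) := by
  obtain ⟨χ, hχ, rfl | rfl⟩ := dirrP.1 h
  · exact irr_mem_RatS hχ t
  · simpa only [Pi.neg_apply, neg_div_neg_eq] using neg_mem (irr_mem_RatS hχ t)

theorem dirr_mem_RatS' (h : φ ∈ Dirr (⊤ : Subgroup G)) (hr : φ t = r * φ 1) : φ ∈ RatS t r := by
  have := dirr_mem_RatS h t
  rwa [hr, mul_div_cancel_right₀ _ (dirr_one_ne_zero h)] at this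

theorem cf1_mem_RatS (t : G) : cf1 (⊤ : Subgroup G) ∈ RatS t 1 :=
  dirr_mem_RatS' (irr_dirr (cf1_mem_Irr ⊤)) (by
    rw [cf1_of_mem (Subgroup.mem_top t), cf1_of_mem (Subgroup.mem_top 1), one_mul])

/-- In a simple group the nonprincipal characters are faithful. -/
theorem ratio_ne_one [IsSimpleGroup G] (ht : t ≠ 1) (h : φ ∈ Dirr (⊤ : Subgroup G))
    (ho : dot ⊤ φ (cf1 ⊤) = 0) : φ t / φ 1 ≠ 1 := by
  have key : ∀ χ ∈ Irr (⊤ : Subgroup G), χ t / χ 1 = 1 → χ = cf1 ⊤ := fun χ hχ e => by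
    have h1 : t ∈ cfker ⊤ χ := by
      rw [(irr_char hχ).mem_cfker]
      exact ⟨trivial, (div_eq_one_iff_eq (dirr_one_ne_zero (irr_dirr hχ))).1 e⟩
    have h2 : (cfker ⊤ χ).Normal :=
      Subgroup.normalizer_eq_top_iff.1 (top_le_iff.1 (cfker_normal (irr_cf hχ)).norm)
    refine (irr_le_cfker_iff hχ).1 ((h2.eq_bot_or_eq_top.resolve_left fun e => ht ?_).ge)
    rwa [e, Subgroup.mem_bot] at h1
  intro e
  obtain ⟨χ, hχ, rfl | rfl⟩ := dirrP.1 h
  · rw [key _ hχ e, dot_irr_self (cf1_mem_Irr ⊤)] at ho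
    exact one_ne_zero ho
  · rw [Pi.neg_apply, Pi.neg_apply, neg_div_neg_eq] at e
    rw [key _ hχ e, dot_neg_left, dot_irr_self (cf1_mem_Irr ⊤)] at ho
    exact one_ne_zero (neg_eq_zero.1 ho)

/-- `θ` vanishes at `1`, at `t` and on the products of two conjugates of `t` -/
structure Van (t : G) (θ : G → ℂ) : Prop where
  one : θ 1 = 0
  inv : θ t = 0
  sum : bsum t θ = 0

omit [Finite G] in
theorem Avoid.mono {B : Set G} (h : Avoid t A) (hB : B ⊆ A) : Avoid t B :=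
  ⟨fun e => h.1 (hB e), fun g k e => h.2 g k (hB e)⟩

omit [Finite G] in
theorem Avoid.van (h : Avoid t A) (ht : t * t = 1) (hθ : ∀ x, x ∉ A → θ x = 0) : Van t θ := by
  refine ⟨hθ 1 ?_, hθ t h.1, ?_⟩
  · have := h.2 1 1
    simpa [ht] using this
  · simp only [bsum, hθ _ (h.2 _ _), finsum_zero]

/-- The three term lemma. -/
theorem three_term (h : Van t θ) (e : θ = f₀ + f₁ + f₂) (h₀ : f₀ ∈ RatS t r₀)
    (h₁ : f₁ ∈ RatS t r₁) (h₂ : f₂ ∈ RatS t r₂) : f₀ 1 * (r₀ - r₁) * (r₀ - r₂) = 0 := by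
  obtain ⟨a, b, c⟩ := h
  rw [e] at a b c
  rw [bsum_add, bsum_add, h₀.2, h₁.2, h₂.2] at c
  simp only [Pi.add_apply] at a b
  rw [h₀.1, h₁.1, h₂.1] at b
  have hc : (Nat.card G : ℂ) ^ 2 ≠ 0 := pow_ne_zero _ (Nat.cast_ne_zero.2 Nat.card_pos.ne')
  apply mul_left_cancel₀ hc
  linear_combination c - (Nat.card G : ℂ) ^ 2 * (r₁ + r₂) * b + (Nat.card G : ℂ) ^ 2 * r₁ * r₂ * a

/-- The three term lemma when one term is a multiple of the principal character. -/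
theorem three_term_one {c : ℂ} (h : Van t θ) (e : θ = c • cf1 ⊤ + f₁ + f₂)
    (h₁ : f₁ ∈ RatS t r₁) (h₂ : f₂ ∈ RatS t r₂) (n₁ : r₁ ≠ 1) (n₂ : r₂ ≠ 1) : c = 0 := by
  have := three_term h e (Submodule.smul_mem _ c (cf1_mem_RatS t)) h₁ h₂
  rw [Pi.smul_apply, cf1_of_mem (Subgroup.mem_top 1), smul_eq_mul, mul_one] at this
  exact (mul_eq_zero.1 ((mul_eq_zero.1 this).resolve_right (sub_ne_zero.2 n₂.symm))).resolve_right
    (sub_ne_zero.2 n₁.symm)

end Cfsg.Lib.PG
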